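import Cfsg.Agent.Helper1.BG139Defs
import Cfsg.Agent.Helper22.BG12b
import Cfsg.Agent.S1403

set_option autoImplicit false

namespace Cfsg.Agent.Helper39

open Cfsg Subgroup Cfsg.Agent.Helper1

universe u

variable {G : Type u} [Group G] [Finite G]

/-- PIECE `B5`. -/
theorem bg139_inter_eq (hG : IsMinSimpleOddOrder G) {M Ms S : Subgroup G} {s : ℕ}
    (c : BG139Cfg M Ms S s)
    (hI : ∀ a ∈ sigmaCore M ⊓ sigmaCore Ms, ∀ b ∈ sigmaCore M ⊓ sigmaCore Ms, a * b = b * a) :
    M ⊓ Ms = normalizer (S : Set G) := by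
  have hU : Helper22.BGUniq G := fun K hK h1 h2 => Cfsg.Agent.S1403.result hG K hK h1 h2
  have hSN : S ≤ normalizer (S : Set G) := le_normalizer
  have hSM : S ≤ M := fun x hx => (c.hN (hSN hx)).1
  have hSMs : S ≤ Ms := fun x hx => (c.hN (hSN hx)).2
  have hSσ : S ≤ sigmaCore M := Helper22.bg12_le_sigmaCore hG hU c.hM c.hs c.hsM hSM c.hSp
  have hSσs : S ≤ sigmaCore Ms := Helper22.bg12_le_sigmaCore hG hU c.hMs c.hs c.hsMs hSMs c.hSp
  have hnM : M ≤ normalizer (sigmaCore M : Set G) := Helper23.le_normalizer_piCoreOf (sigma M) M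
  have hnMs : Ms ≤ normalizer (sigmaCore Ms : Set G) :=
    Helper23.le_normalizer_piCoreOf (sigma Ms) Ms
  apply le_antisymm _ c.hN
  intro g hg
  obtain ⟨Sg, hSg⟩ : ∃ Sg : Subgroup G, Sg = S.map (MulAut.conj g).toMonoidHom := ⟨_, rfl⟩
  have hmemSg : ∀ x, x ∈ Sg ↔ ∃ y ∈ S, g * y * g⁻¹ = x := by
    intro x
    rw [hSg, Subgroup.mem_map]
    rfl
  have hSI : S ≤ sigmaCore M ⊓ sigmaCore Ms := le_inf hSσ hSσs
  have hSgI : Sg ≤ sigmaCore M ⊓ sigmaCore Ms := by
    intro x hx
    obtain ⟨y, hy, rfl⟩ := (hmemSg x).1 hx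
    exact ⟨(Subgroup.mem_normalizer_iff.1 (hnM hg.1) y).1 (hSσ hy),
      (Subgroup.mem_normalizer_iff.1 (hnMs hg.2) y).1 (hSσs hy)⟩
  have hSgp : IsPGroup s Sg := by
    rw [hSg]
    exact c.hSp.map _
  have hnorm : S ≤ normalizer (Sg : Set G) := by
    intro a ha
    rw [Subgroup.mem_normalizer_iff]
    intro b
    constructor
    · intro hb
      have hcomm := hI a (hSI ha) b (hSgI hb)
      have : a * b * a⁻¹ = b := by rw [hcomm]; group
      rw [this]; exact hb
    · intro hb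
      have hcomm := hI a (hSI ha) (a * b * a⁻¹) (hSgI hb)
      have : b = a * b * a⁻¹ := by
        have h1 : a * (a * b * a⁻¹) = a * b := by rw [hcomm]; group
        have h2 := mul_left_cancel h1
        exact h2.symm
      rw [this]; exact hb
  have hsup : IsPGroup s ↥(S ⊔ Sg) := IsPGroup.to_sup_of_normal_right' c.hSp hSgp hnorm
  have heq : S ⊔ Sg = S := c.hSmax _ hsup le_sup_left
  have hSgS : Sg ≤ S := by
    rw [← heq]; exact le_sup_right
  have hcard : Nat.card Sg = Nat.card S := by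
    rw [hSg]
    exact Subgroup.card_map_of_injective (MulAut.conj g).injective
  have hSgS' : Sg = S := Subgroup.eq_of_le_of_card_ge hSgS hcard.ge
  rw [Subgroup.mem_normalizer_iff]
  intro x
  constructor
  · intro hx
    rw [← hSgS']
    exact (hmemSg _).2 ⟨x, hx, rfl⟩
  · intro hx
    rw [← hSgS'] at hx
    obtain ⟨y, hy, hyx⟩ := (hmemSg _).1 hx
    have : y = x := by
      have h1 := mul_right_cancel hyx
      exact mul_left_cancel h1
    rw [← this]; exact hy

end Cfsg.Agent.Helper39
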