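import Mathlib
import Cfsg.Prelude.Def_Characters
import Cfsg.Prelude.Def_Blocks
import Cfsg.Agent.Helper75.LatDefs
import Cfsg.Agent.Helper75.RationalChar
import Cfsg.Agent.Helper46.LatP5
import Cfsg.Agent.Helper80.LatP6
import Cfsg.Agent.Helper78.Counting

/-!
# PIECE P7 (EIGENBOUND) of CALL S4441 (helper75) — helper39

`lat_eigen_bound`: the eigenvalue count.  Matrices `γ i` commuting with an integral matrix
representation `ρ` and acting on vectors `y j` like `δ_ij c` modulo a sublattice `S` that is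
detected modulo `p` by functionals `ℓ j` force `a ≤ ∑_{χ ∈ ℛ} m χ`.
-/

set_option autoImplicit false
open Cfsg Matrix
universe u

namespace Cfsg.Agent.Helper39

open Polynomial

/-- `z` lies in the ideal `𝔐` of the ring of algebraic integers. -/
def latInM (𝔐 : Ideal Cfsg.AlgInt) (z : ℂ) : Prop := ∃ μ : Cfsg.AlgInt, μ ∈ 𝔐 ∧ (μ : ℂ) = z

section InM

variable {𝔐 : Ideal Cfsg.AlgInt} {z w : ℂ}

theorem latInM_mem (h : latInM 𝔐 z) : z ∈ Cfsg.AlgInt := by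
  obtain ⟨μ, -, rfl⟩ := h
  exact μ.2

theorem latInM_zero : latInM 𝔐 0 := ⟨0, 𝔐.zero_mem, rfl⟩

theorem latInM_add (h1 : latInM 𝔐 z) (h2 : latInM 𝔐 w) : latInM 𝔐 (z + w) := by
  obtain ⟨μ, hμ, rfl⟩ := h1
  obtain ⟨ν, hν, rfl⟩ := h2
  exact ⟨μ + ν, 𝔐.add_mem hμ hν, rfl⟩

theorem latInM_neg (h1 : latInM 𝔐 z) : latInM 𝔐 (-z) := by
  obtain ⟨μ, hμ, rfl⟩ := h1
  exact ⟨-μ, 𝔐.neg_mem hμ, rfl⟩

theorem latInM_sub (h1 : latInM 𝔐 z) (h2 : latInM 𝔐 w) : latInM 𝔐 (z - w) := by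
  rw [sub_eq_add_neg]
  exact latInM_add h1 (latInM_neg h2)

theorem latInM_mul_left (hz : z ∈ Cfsg.AlgInt) (h : latInM 𝔐 w) : latInM 𝔐 (z * w) := by
  obtain ⟨ν, hν, rfl⟩ := h
  exact ⟨⟨z, hz⟩ * ν, 𝔐.mul_mem_left _ hν, rfl⟩

theorem latInM_mul_right (h : latInM 𝔐 z) (hw : w ∈ Cfsg.AlgInt) : latInM 𝔐 (z * w) := by
  rw [mul_comm]
  exact latInM_mul_left hw h

theorem latInM_sum {ι : Type*} (s : Finset ι) (f : ι → ℂ) (h : ∀ i ∈ s, latInM 𝔐 (f i)) :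
    latInM 𝔐 (∑ i ∈ s, f i) := by
  classical
  induction s using Finset.induction_on with
  | empty => simpa using (latInM_zero (𝔐 := 𝔐))
  | insert a s ha ih =>
    rw [Finset.sum_insert ha]
    exact latInM_add (h a (Finset.mem_insert_self a s))
      (ih (fun i hi => h i (Finset.mem_insert_of_mem hi)))

theorem latInM_one (h𝔐 : 𝔐.IsPrime) : ¬ latInM 𝔐 1 := by
  rintro ⟨μ, hμ, hμe⟩
  have h1 : μ = 1 := Subtype.ext hμe
  rw [h1] at hμ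
  exact h𝔐.ne_top ((Ideal.eq_top_iff_one _).mpr hμ)

theorem latInM_mul_prime (h𝔐 : 𝔐.IsPrime) (hz : z ∈ Cfsg.AlgInt) (hw : w ∈ Cfsg.AlgInt)
    (h : latInM 𝔐 (z * w)) : latInM 𝔐 z ∨ latInM 𝔐 w := by
  obtain ⟨μ, hμ, hμe⟩ := h
  have h1 : μ = (⟨z, hz⟩ : Cfsg.AlgInt) * ⟨w, hw⟩ := Subtype.ext hμe
  rw [h1] at hμ
  rcases h𝔐.mem_or_mem hμ with h2 | h2
  · exact Or.inl ⟨_, h2, rfl⟩
  · exact Or.inr ⟨_, h2, rfl⟩

theorem latInM_multiset_prod (h𝔐 : 𝔐.IsPrime) (s : Multiset ℂ)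
    (hs : ∀ z ∈ s, z ∈ Cfsg.AlgInt) (h : latInM 𝔐 s.prod) : ∃ z ∈ s, latInM 𝔐 z := by
  induction s using Multiset.induction_on with
  | empty =>
    exfalso
    rw [Multiset.prod_zero] at h
    exact latInM_one h𝔐 h
  | cons a s ih =>
    rw [Multiset.prod_cons] at h
    have hsA : s.prod ∈ Cfsg.AlgInt :=
      Subalgebra.multiset_prod_mem _ (fun z hz => hs z (Multiset.mem_cons_of_mem hz))
    rcases latInM_mul_prime h𝔐 (hs a (Multiset.mem_cons_self a s)) hsA h with h1 | h1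
    · exact ⟨a, Multiset.mem_cons_self a s, h1⟩
    · obtain ⟨z, hz, hz'⟩ := ih (fun z hz => hs z (Multiset.mem_cons_of_mem hz)) h1
      exact ⟨z, Multiset.mem_cons_of_mem hz, hz'⟩

theorem latInM_finset_prod (h𝔐 : 𝔐.IsPrime) {ι : Type*} (s : Finset ι) (f : ι → ℂ)
    (hs : ∀ i ∈ s, f i ∈ Cfsg.AlgInt) (h : latInM 𝔐 (∏ i ∈ s, f i)) :
    ∃ i ∈ s, latInM 𝔐 (f i) := by
  have h1 : ∀ z ∈ s.val.map f, z ∈ Cfsg.AlgInt := by
    intro z hz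
    obtain ⟨i, hi, rfl⟩ := Multiset.mem_map.mp hz
    exact hs i hi
  obtain ⟨z, hz, hz'⟩ := latInM_multiset_prod h𝔐 (s.val.map f) h1 h
  obtain ⟨i, hi, rfl⟩ := Multiset.mem_map.mp hz
  exact ⟨i, hi, hz'⟩

theorem latInM_int (p : ℕ) (hpp : p.Prime) (h𝔐 : 𝔐.IsPrime) (hp : latInM 𝔐 (p : ℂ)) (k : ℤ)
    (hk : latInM 𝔐 (k : ℂ)) : (p : ℤ) ∣ k := by
  by_contra hnd
  have hcop : IsCoprime (p : ℤ) k :=
    (Nat.prime_iff_prime_int.mp hpp).coprime_iff_not_dvd.mpr hnd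
  obtain ⟨u, v, huv⟩ := hcop
  apply latInM_one h𝔐
  have h1 : (1 : ℂ) = (u : ℂ) * p + (v : ℂ) * k := by exact_mod_cast huv.symm
  rw [h1]
  exact latInM_add (latInM_mul_left (Subalgebra.intCast_mem _ u) hp)
    (latInM_mul_left (Subalgebra.intCast_mem _ v) hk)

end InM

/-- Distinct powers `ω ^ i`, `i < M₀`, of a primitive `M₀`-th root of unity are incongruent
modulo a prime ideal above `p ∤ M₀`. -/
theorem lat_omega_incong (p : ℕ) (hpp : p.Prime) {𝔐 : Ideal Cfsg.AlgInt} (h𝔐 : 𝔐.IsPrime)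
    (hp : latInM 𝔐 (p : ℂ)) (M₀ : ℕ) (hM₀ : ¬ p ∣ M₀) (ω : ℂ) (hω : IsPrimitiveRoot ω M₀)
    (i j : ℕ) (hj : j < M₀) (hij : i < j) : ¬ latInM 𝔐 (ω ^ i - ω ^ j) := by
  have hM0 : M₀ ≠ 0 := fun h => hM₀ (h ▸ dvd_zero p)
  have hωA : ω ∈ Cfsg.AlgInt := hω.isIntegral (Nat.pos_of_ne_zero hM0)
  have hpow : ∀ k, ω ^ k ∈ Cfsg.AlgInt := fun k => Subalgebra.pow_mem _ hωA k
  intro h
  have h1 : ω ^ i - ω ^ j = ω ^ i * (1 - ω ^ (j - i)) := by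
    rw [mul_sub, mul_one, ← pow_add, Nat.add_sub_cancel' hij.le]
  rw [h1] at h
  have h1A : (1 - ω ^ (j - i)) ∈ Cfsg.AlgInt :=
    Subalgebra.sub_mem _ (Subalgebra.one_mem _) (hpow _)
  rcases latInM_mul_prime h𝔐 (hpow i) h1A h with h2 | h2
  · apply latInM_one h𝔐
    have h3 := latInM_mul_right h2 (hpow (M₀ - i))
    rwa [← pow_add, Nat.add_sub_cancel' (by omega), hω.pow_eq_one] at h3
  · obtain ⟨n, rfl⟩ : ∃ n, M₀ = n + 1 := ⟨M₀ - 1, by omega⟩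
    have h3 := hω.prod_one_sub_pow_eq_order
    have hd : j - i - 1 ∈ Finset.range n := by
      rw [Finset.mem_range]
      omega
    rw [← Finset.mul_prod_erase _ _ hd] at h3
    have hd' : j - i - 1 + 1 = j - i := by omega
    rw [hd'] at h3
    have h4 : latInM 𝔐 (((n + 1 : ℕ) : ℤ) : ℂ) := by
      have h5 := latInM_mul_right h2
        (w := ∏ x ∈ (Finset.range n).erase (j - i - 1), (1 - ω ^ (x + 1)))
        (Subalgebra.prod_mem _ (fun x _ =>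
          Subalgebra.sub_mem _ (Subalgebra.one_mem _) (hpow _)))
      rw [h3] at h5
      push_cast
      exact h5
    have h5 := latInM_int p hpp h𝔐 hp _ h4
    exact hM₀ (by exact_mod_cast h5)

/-- The characteristic polynomial of a matrix with entries in the range of `f` lifts along
`f` to a monic polynomial. -/
theorem lat_charpoly_lift {R : Type*} [CommRing R] (f : R →+* ℂ) {n : ℕ}
    (M : Matrix (Fin n) (Fin n) ℂ) (h : ∀ i j, M i j ∈ Set.range f) :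
    ∃ P : Polynomial R, P.Monic ∧ P.map f = M.charpoly := by
  choose M' hM' using h
  refine ⟨(Matrix.of M').charpoly, Matrix.charpoly_monic _, ?_⟩
  rw [← Matrix.charpoly_map]
  congr 1
  ext i j
  exact hM' i j

theorem lat_root_eigen {n : ℕ} (M : Matrix (Fin n) (Fin n) ℂ) (r : ℂ)
    (hr : M.charpoly.IsRoot r) : ∃ v : Fin n → ℂ, v ≠ 0 ∧ M *ᵥ v = r • v := by
  rw [Polynomial.IsRoot, Matrix.eval_charpoly] at hr
  obtain ⟨v, hv, hv'⟩ := Matrix.exists_mulVec_eq_zero_iff.mpr hr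
  refine ⟨v, hv, ?_⟩
  rw [Matrix.sub_mulVec, sub_eq_zero] at hv'
  rw [← hv']
  ext i
  simp [Matrix.mulVec, dotProduct, Matrix.scalar_apply, Matrix.diagonal_apply]

theorem lat_eigen_root {n : ℕ} (M : Matrix (Fin n) (Fin n) ℂ) (r : ℂ) (v : Fin n → ℂ)
    (hv : v ≠ 0) (h : M *ᵥ v = r • v) : M.charpoly.IsRoot r := by
  rw [Polynomial.IsRoot, Matrix.eval_charpoly]
  apply Matrix.exists_mulVec_eq_zero_iff.mp
  refine ⟨v, hv, ?_⟩
  rw [Matrix.sub_mulVec, h, sub_eq_zero]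
  ext i
  simp [Matrix.mulVec, dotProduct, Matrix.scalar_apply, Matrix.diagonal_apply]

/-- Eigenvalues of a matrix of algebraic integers are algebraic integers. -/
theorem lat_root_integral {n : ℕ} (M : Matrix (Fin n) (Fin n) ℂ)
    (hM : ∀ i j, M i j ∈ Cfsg.AlgInt) (r : ℂ) (hr : M.charpoly.IsRoot r) :
    r ∈ Cfsg.AlgInt := by
  obtain ⟨P, hP, hPM⟩ := lat_charpoly_lift (algebraMap Cfsg.AlgInt ℂ) M
    (fun i j => ⟨⟨M i j, hM i j⟩, rfl⟩)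
  have h1 : IsIntegral Cfsg.AlgInt r := by
    refine ⟨P, hP, ?_⟩
    rw [← Polynomial.eval_map, hPM]
    exact hr
  exact isIntegral_trans r h1

/-! ### The complexified representation and the matrix `Γ = ∑ ω ^ i γ_i` -/

/-- The complexification of an integral matrix representation. -/
noncomputable def latRhoC {G : Type u} [Group G] {N : ℕ}
    (ρ : G →* Matrix (Fin N) (Fin N) ℤ) : G →* Matrix (Fin N) (Fin N) ℂ :=
  (Int.castRingHom ℂ).mapMatrix.toMonoidHom.comp ρ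

theorem latRhoC_apply {G : Type u} [Group G] {N : ℕ} (ρ : G →* Matrix (Fin N) (Fin N) ℤ)
    (g : G) : latRhoC ρ g = (ρ g).map (Int.castRingHom ℂ) := rfl

theorem latRhoC_trace {G : Type u} [Group G] {N : ℕ} (ρ : G →* Matrix (Fin N) (Fin N) ℤ)
    (g : G) : (latRhoC ρ g).trace = (((ρ g).trace : ℤ) : ℂ) := by
  rw [latRhoC_apply]
  exact (AddMonoidHom.map_trace (Int.castRingHom ℂ) (ρ g)).symm

/-- `Γ = ∑ ω ^ i γ_i`. -/
noncomputable def latGam {N a : ℕ} (ω : ℂ) (γ : Fin a → Matrix (Fin N) (Fin N) ℤ) :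
    Matrix (Fin N) (Fin N) ℂ :=
  ∑ i : Fin a, ω ^ (i : ℕ) • (γ i).map (Int.castRingHom ℂ)

theorem latGam_apply {N a : ℕ} (ω : ℂ) (γ : Fin a → Matrix (Fin N) (Fin N) ℤ) (k l : Fin N) :
    latGam ω γ k l = ∑ i : Fin a, ω ^ (i : ℕ) * ((γ i k l : ℤ) : ℂ) := by
  simp [latGam, Matrix.sum_apply]

theorem latGam_comm {G : Type u} [Group G] {N a : ℕ} (ω : ℂ)
    (γ : Fin a → Matrix (Fin N) (Fin N) ℤ) (ρ : G →* Matrix (Fin N) (Fin N) ℤ)
    (hγ : ∀ i g, γ i * ρ g = ρ g * γ i) (g : G) :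
    latGam ω γ * latRhoC ρ g = latRhoC ρ g * latGam ω γ := by
  unfold latGam
  rw [Finset.sum_mul, Finset.mul_sum]
  refine Finset.sum_congr rfl (fun i _ => ?_)
  rw [Matrix.smul_mul, Matrix.mul_smul, latRhoC_apply, ← Matrix.map_mul, ← Matrix.map_mul, hγ]

theorem latGam_mem {N a : ℕ} (ω : ℂ) (hω : ω ∈ Cfsg.AlgInt)
    (γ : Fin a → Matrix (Fin N) (Fin N) ℤ) (k l : Fin N) : latGam ω γ k l ∈ Cfsg.AlgInt := by
  rw [latGam_apply]
  exact Subalgebra.sum_mem _ (fun i _ =>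
    Subalgebra.mul_mem _ (Subalgebra.pow_mem _ hω _) (Subalgebra.intCast_mem _ _))

theorem latGam_map {N a : ℕ} (ω : ℂ) (γ : Fin a → Matrix (Fin N) (Fin N) ℤ) (τ : ℂ ≃+* ℂ)
    (hτ : τ ω = ω) : (latGam ω γ).map τ = latGam ω γ := by
  ext k l
  rw [Matrix.map_apply, latGam_apply, map_sum]
  refine Finset.sum_congr rfl (fun i _ => ?_)
  rw [map_mul, map_pow, hτ, map_intCast]

theorem lat_comm_isoIdem {G : Type u} [Group G] [Fintype G] {N : ℕ}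
    (ρ' : G →* Matrix (Fin N) (Fin N) ℂ) (Γ : Matrix (Fin N) (Fin N) ℂ)
    (h : ∀ g, Γ * ρ' g = ρ' g * Γ) (χ : G → ℂ) :
    Γ * Helper75.isoIdem ρ' χ = Helper75.isoIdem ρ' χ * Γ := by
  unfold Helper75.isoIdem
  rw [Matrix.mul_smul, Matrix.smul_mul, Finset.mul_sum, Finset.sum_mul]
  congr 1
  refine Finset.sum_congr rfl (fun g _ => ?_)
  rw [Matrix.mul_smul, Matrix.smul_mul, h]

theorem lat_isoIdem_map {G : Type u} [Group G] [Fintype G] {N : ℕ}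
    (ρ : G →* Matrix (Fin N) (Fin N) ℤ) (χ χ₀ : G → ℂ) (τ : ℂ ≃+* ℂ)
    (h : ∀ g, χ g = τ (χ₀ g)) :
    Helper75.isoIdem (latRhoC ρ) χ = (Helper75.isoIdem (latRhoC ρ) χ₀).map τ := by
  ext k l
  simp only [Helper75.isoIdem, Matrix.smul_apply, Matrix.sum_apply, Matrix.map_apply,
    smul_eq_mul, map_mul, map_div₀, map_natCast, map_sum, h, latRhoC_apply, map_intCast,
    eq_intCast]

theorem lat_cycField_mono (n m : ℕ) (hm : m ≠ 0) (h : n ∣ m) :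
    Helper75.cycField n ≤ Helper75.cycField m := by
  unfold Helper75.cycField
  apply IntermediateField.adjoin_le_iff.mpr
  rintro b ⟨k, hk, hk0, hb⟩
  rw [Set.mem_singleton_iff] at hk
  subst hk
  obtain ⟨d, rfl⟩ := h
  exact Helper75.mem_cycField_of_pow_eq_one _ hm (by rw [pow_mul, hb, one_pow])

theorem lat_isoIdem_mem_cyc {G : Type u} [Group G] [Fintype G] {N : ℕ}
    (ρ : G →* Matrix (Fin N) (Fin N) ℤ) (χ : Cfsg.IrrCharacter G) (n : ℕ) (hn : n ≠ 0)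
    (hG : Nat.card G ∣ n) (k l : Fin N) :
    Helper75.isoIdem (latRhoC ρ) (χ : G → ℂ) k l ∈ Helper75.cycField n := by
  obtain ⟨d, ρ₀, -, hρ₀⟩ := χ.2
  have hχ : ∀ g, (χ : G → ℂ) g ∈ Helper75.cycField n := by
    intro g
    rw [← hρ₀]
    exact lat_cycField_mono _ _ hn hG (Helper75.character_mem_cycField ρ₀ g)
  simp only [Helper75.isoIdem, Matrix.smul_apply, Matrix.sum_apply, smul_eq_mul, latRhoC_apply,
    Matrix.map_apply, eq_intCast]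
  exact mul_mem (div_mem (hχ 1) (natCast_mem _ _))
    (sum_mem (fun g _ => mul_mem (hχ _) (intCast_mem _ _)))

theorem latGam_mem_cyc {N a : ℕ} (ω : ℂ) (γ : Fin a → Matrix (Fin N) (Fin N) ℤ) (n : ℕ)
    (hn : n ≠ 0) (hω : ω ^ n = 1) (k l : Fin N) : latGam ω γ k l ∈ Helper75.cycField n := by
  rw [latGam_apply]
  exact sum_mem (fun i _ =>
    mul_mem (pow_mem (Helper75.mem_cycField_of_pow_eq_one n hn hω) _) (intCast_mem _ _))

theorem lat_charpoly_coeff_mem_cyc {N : ℕ} (M : Matrix (Fin N) (Fin N) ℂ) (n : ℕ)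
    (h : ∀ i j, M i j ∈ Helper75.cycField n) (k : ℕ) :
    M.charpoly.coeff k ∈ Helper75.cycField n := by
  obtain ⟨P, -, hP⟩ := lat_charpoly_lift (algebraMap (Helper75.cycField n) ℂ) M
    (fun i j => ⟨⟨M i j, h i j⟩, rfl⟩)
  rw [← hP, Polynomial.coeff_map]
  exact (P.coeff k).2

/-! ### Polynomials in `Γ` and the idempotents -/

theorem lat_aeval_mul_idem {N : ℕ} (Γ e : Matrix (Fin N) (Fin N) ℂ) (he : e * e = e)
    (hc : Γ * e = e * Γ) (f : ℂ[X]) : aeval (Γ * e) f * e = aeval Γ f * e := by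
  have hpow : ∀ k : ℕ, (Γ * e) ^ k * e = Γ ^ k * e := by
    intro k
    induction k with
    | zero => simp
    | succ k ih =>
      calc (Γ * e) ^ (k + 1) * e = ((Γ * e) ^ k * e) * Γ := by
            rw [pow_succ, mul_assoc, mul_assoc Γ, he, hc, ← mul_assoc]
        _ = Γ ^ (k + 1) * e := by
            rw [ih, mul_assoc, ← hc, ← mul_assoc, ← pow_succ]
  rw [Polynomial.aeval_eq_sum_range, Polynomial.aeval_eq_sum_range, Finset.sum_mul,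
    Finset.sum_mul]
  refine Finset.sum_congr rfl (fun k _ => ?_)
  rw [smul_mul_assoc, smul_mul_assoc, hpow]

theorem lat_aeval_prod_eq_zero {ι : Type*} [DecidableEq ι] {N : ℕ}
    (Γ : Matrix (Fin N) (Fin N) ℂ) (s : Finset ι) (e : ι → Matrix (Fin N) (Fin N) ℂ)
    (he : ∀ i ∈ s, e i * e i = e i) (hc : ∀ i ∈ s, Γ * e i = e i * Γ)
    (hsum : ∑ i ∈ s, e i = 1) : aeval Γ (∏ i ∈ s, (Γ * e i).charpoly) = 0 := by
  have h1 : ∀ i ∈ s, aeval Γ (∏ i ∈ s, (Γ * e i).charpoly) * e i = 0 := by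
    intro i hi
    rw [← Finset.prod_erase_mul _ _ hi, map_mul, mul_assoc,
      ← lat_aeval_mul_idem Γ (e i) (he i hi) (hc i hi), Matrix.aeval_self_charpoly, zero_mul,
      mul_zero]
  calc aeval Γ (∏ i ∈ s, (Γ * e i).charpoly)
      = aeval Γ (∏ i ∈ s, (Γ * e i).charpoly) * ∑ i ∈ s, e i := by rw [hsum, mul_one]
    _ = ∑ i ∈ s, aeval Γ (∏ i ∈ s, (Γ * e i).charpoly) * e i := Finset.mul_sum _ _ _
    _ = 0 := Finset.sum_eq_zero h1

/-- The roots of the characteristic polynomial of `Γ e` are algebraic integers. -/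
theorem lat_root_mem {N : ℕ} (Γ e : Matrix (Fin N) (Fin N) ℂ)
    (hΓ : ∀ i j, Γ i j ∈ Cfsg.AlgInt) (he : e * e = e) (hc : Γ * e = e * Γ) (r : ℂ)
    (hr : (Γ * e).charpoly.IsRoot r) : r ∈ Cfsg.AlgInt := by
  by_cases hr0 : r = 0
  · rw [hr0]
    exact Subalgebra.zero_mem _
  obtain ⟨v, hv, hv'⟩ := lat_root_eigen _ r hr
  have h1 : e *ᵥ v = v := by
    have h2 : e *ᵥ ((Γ * e) *ᵥ v) = (Γ * e) *ᵥ v := by
      rw [Matrix.mulVec_mulVec, ← mul_assoc, ← hc, mul_assoc, he]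
    rw [hv', Matrix.mulVec_smul] at h2
    exact smul_right_injective _ hr0 h2
  have h3 : Γ *ᵥ v = r • v := by
    rw [← hv', ← Matrix.mulVec_mulVec, h1]
  exact lat_root_integral Γ hΓ r (lat_eigen_root Γ r v hv h3)

theorem lat_charpoly_lifts {N : ℕ} (M : Matrix (Fin N) (Fin N) ℂ)
    (h : ∀ r, M.charpoly.IsRoot r → r ∈ Cfsg.AlgInt) :
    M.charpoly ∈ Polynomial.lifts (algebraMap Cfsg.AlgInt ℂ) := by
  have hs : M.charpoly.Splits := IsAlgClosed.splits _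
  rw [hs.eq_prod_roots_of_monic (Matrix.charpoly_monic M)]
  apply Subsemiring.multiset_prod_mem
  intro q hq
  obtain ⟨r, hr, rfl⟩ := Multiset.mem_map.mp hq
  have hrA := h r ((Polynomial.mem_roots (Matrix.charpoly_monic M).ne_zero).mp hr)
  rw [sub_eq_add_neg, ← Polynomial.C_neg]
  exact Subsemiring.add_mem _ (Polynomial.X_mem_lifts _)
    (Polynomial.C_mem_lifts (algebraMap Cfsg.AlgInt ℂ) ⟨-r, Subalgebra.neg_mem _ hrA⟩)

theorem lat_lifts_coeff {f : ℂ[X]} (hf : f ∈ Polynomial.lifts (algebraMap Cfsg.AlgInt ℂ))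
    (k : ℕ) : f.coeff k ∈ Cfsg.AlgInt := by
  obtain ⟨a, ha⟩ := (Polynomial.lifts_iff_coeff_lifts f).mp hf k
  rw [← ha]
  exact a.2

theorem lat_lifts_eval {f : ℂ[X]} (hf : f ∈ Polynomial.lifts (algebraMap Cfsg.AlgInt ℂ))
    {z : ℂ} (hz : z ∈ Cfsg.AlgInt) : f.eval z ∈ Cfsg.AlgInt := by
  rw [Polynomial.eval_eq_sum_range]
  exact Subalgebra.sum_mem _ (fun k _ =>
    Subalgebra.mul_mem _ (lat_lifts_coeff hf k) (Subalgebra.pow_mem _ hz k))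

/-! ### The span of the lattice over the algebraic integers -/

/-- The span over the algebraic integers of the complexification of a lattice. -/
noncomputable def latSA {N : ℕ} (S : Submodule ℤ (Fin N → ℤ)) :
    Submodule Cfsg.AlgInt (Fin N → ℂ) :=
  Submodule.span Cfsg.AlgInt
    ((fun s : Fin N → ℤ => (Int.castRingHom ℂ) ∘ s) '' (S : Set (Fin N → ℤ)))

theorem latSA_gam {N a : ℕ} (ω : ℂ) (hω : ω ∈ Cfsg.AlgInt)
    (γ : Fin a → Matrix (Fin N) (Fin N) ℤ) (S : Submodule ℤ (Fin N → ℤ))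
    (hS : ∀ i, ∀ s ∈ S, (γ i) *ᵥ s ∈ S) (v : Fin N → ℂ) (hv : v ∈ latSA S) :
    latGam ω γ *ᵥ v ∈ latSA S := by
  unfold latSA at hv
  induction hv using Submodule.span_induction with
  | mem x hx =>
    obtain ⟨s, hs, rfl⟩ := hx
    unfold latGam
    rw [Matrix.sum_mulVec]
    refine Submodule.sum_mem _ (fun i _ => ?_)
    rw [Matrix.smul_mulVec]
    have h1 : (γ i).map (Int.castRingHom ℂ) *ᵥ ((Int.castRingHom ℂ) ∘ s)
        = (Int.castRingHom ℂ) ∘ ((γ i) *ᵥ s) := by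
      ext k
      exact (RingHom.map_mulVec _ _ _ _).symm
    rw [h1]
    have h2 : ω ^ (i : ℕ) • ((Int.castRingHom ℂ) ∘ ((γ i) *ᵥ s))
        = (⟨ω ^ (i : ℕ), Subalgebra.pow_mem _ hω _⟩ : Cfsg.AlgInt)
          • ((Int.castRingHom ℂ) ∘ ((γ i) *ᵥ s)) := rfl
    rw [h2]
    exact Submodule.smul_mem _ _ (Submodule.subset_span ⟨_, hS i s hs, rfl⟩)
  | zero =>
    rw [Matrix.mulVec_zero]
    exact Submodule.zero_mem _
  | add x y _ _ hx hy =>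
    rw [Matrix.mulVec_add]
    exact Submodule.add_mem _ hx hy
  | smul c x _ hx =>
    have h1 : latGam ω γ *ᵥ (c • x) = c • (latGam ω γ *ᵥ x) := by
      rw [show c • x = (c : ℂ) • x from rfl, Matrix.mulVec_smul]
      rfl
    rw [h1]
    exact Submodule.smul_mem _ _ hx

theorem latSA_dot {N : ℕ} (p : ℕ) (S : Submodule ℤ (Fin N → ℤ)) (ℓ : Fin N → ℤ)
    (hℓ : ∀ s ∈ S, (p : ℤ) ∣ ℓ ⬝ᵥ s) (v : Fin N → ℂ) (hv : v ∈ latSA S) :
    ∃ z ∈ Cfsg.AlgInt, ((Int.castRingHom ℂ) ∘ ℓ) ⬝ᵥ v = (p : ℂ) * z := by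
  unfold latSA at hv
  induction hv using Submodule.span_induction with
  | mem x hx =>
    obtain ⟨s, hs, rfl⟩ := hx
    obtain ⟨k, hk⟩ := hℓ s hs
    refine ⟨(k : ℂ), Subalgebra.intCast_mem _ k, ?_⟩
    rw [← RingHom.map_dotProduct, hk]
    simp
  | zero => exact ⟨0, Subalgebra.zero_mem _, by simp⟩
  | add x y _ _ hx hy =>
    obtain ⟨z1, hz1, h1⟩ := hx
    obtain ⟨z2, hz2, h2⟩ := hy
    exact ⟨z1 + z2, Subalgebra.add_mem _ hz1 hz2, by rw [dotProduct_add, h1, h2, mul_add]⟩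
  | smul c x _ hx =>
    obtain ⟨z, hz, h1⟩ := hx
    refine ⟨c * z, Subalgebra.mul_mem _ c.2 hz, ?_⟩
    rw [show c • x = (c : ℂ) • x from rfl, dotProduct_smul, h1, smul_eq_mul]
    ring

theorem latSA_gam_y {N a : ℕ} (ω : ℂ) (hω : ω ∈ Cfsg.AlgInt)
    (γ : Fin a → Matrix (Fin N) (Fin N) ℤ) (S : Submodule ℤ (Fin N → ℤ))
    (y : Fin a → (Fin N → ℤ)) (c : ℤ)
    (hγy : ∀ i j, (γ i) *ᵥ (y j) - (if i = j then c else 0) • y j ∈ S) (j : Fin a) :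
    latGam ω γ *ᵥ ((Int.castRingHom ℂ) ∘ y j)
      - ((c : ℂ) * ω ^ (j : ℕ)) • ((Int.castRingHom ℂ) ∘ y j) ∈ latSA S := by
  have h1 : latGam ω γ *ᵥ ((Int.castRingHom ℂ) ∘ y j)
      - ((c : ℂ) * ω ^ (j : ℕ)) • ((Int.castRingHom ℂ) ∘ y j)
      = ∑ i : Fin a, (⟨ω ^ (i : ℕ), Subalgebra.pow_mem _ hω _⟩ : Cfsg.AlgInt)
          • ((Int.castRingHom ℂ) ∘ ((γ i) *ᵥ (y j) - (if i = j then c else 0) • y j)) := by
    unfold latGam
    rw [Matrix.sum_mulVec]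
    ext k
    rw [Pi.sub_apply, Finset.sum_apply, Finset.sum_apply]
    have hA : ∀ i : Fin a, ((ω ^ (i : ℕ) • (γ i).map (Int.castRingHom ℂ))
        *ᵥ ((Int.castRingHom ℂ) ∘ y j)) k = ω ^ (i : ℕ) * ((((γ i) *ᵥ (y j)) k : ℤ) : ℂ) := by
      intro i
      rw [Matrix.smul_mulVec, Pi.smul_apply, smul_eq_mul, ← RingHom.map_mulVec]
      rfl
    have hB : ∀ i : Fin a, ((⟨ω ^ (i : ℕ), Subalgebra.pow_mem _ hω _⟩ : Cfsg.AlgInt)
        • ((Int.castRingHom ℂ) ∘ ((γ i) *ᵥ (y j) - (if i = j then c else 0) • y j))) k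
        = ω ^ (i : ℕ) * ((((γ i) *ᵥ (y j)) k : ℤ) : ℂ)
          - (if i = j then (c : ℂ) * ω ^ (j : ℕ) * ((y j k : ℤ) : ℂ) else 0) := by
      intro i
      have h0 : ((⟨ω ^ (i : ℕ), Subalgebra.pow_mem _ hω _⟩ : Cfsg.AlgInt)
          • ((Int.castRingHom ℂ) ∘ ((γ i) *ᵥ (y j) - (if i = j then c else 0) • y j))) k
          = ω ^ (i : ℕ) * (((((γ i) *ᵥ (y j) - (if i = j then c else 0) • y j) k : ℤ)) : ℂ) := rfl
      rw [h0]
      by_cases h : i = j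
      · subst h
        simp only [if_true, Pi.sub_apply, Pi.smul_apply, smul_eq_mul]
        push_cast
        ring
      · simp only [if_neg h, zero_smul, sub_zero]
    simp only [hA, hB, Finset.sum_sub_distrib, Finset.sum_ite_eq', Finset.mem_univ, if_true]
    simp [Pi.smul_apply]
  rw [h1]
  exact Submodule.sum_mem _ (fun i _ =>
    Submodule.smul_mem _ _ (Submodule.subset_span ⟨_, hγy i j, rfl⟩))

theorem lat_pow_congr {N : ℕ} (T : Submodule Cfsg.AlgInt (Fin N → ℂ))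
    (Γ : Matrix (Fin N) (Fin N) ℂ) (hT : ∀ v ∈ T, Γ *ᵥ v ∈ T) (v : Fin N → ℂ) (lam : ℂ)
    (hlam : lam ∈ Cfsg.AlgInt) (h : Γ *ᵥ v - lam • v ∈ T) (k : ℕ) :
    (Γ ^ k) *ᵥ v - lam ^ k • v ∈ T := by
  induction k with
  | zero => simp
  | succ k ih =>
    have h1 : (Γ ^ (k + 1)) *ᵥ v - lam ^ (k + 1) • v
        = Γ *ᵥ ((Γ ^ k) *ᵥ v - lam ^ k • v)
          + (⟨lam ^ k, Subalgebra.pow_mem _ hlam k⟩ : Cfsg.AlgInt) • (Γ *ᵥ v - lam • v) := by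
      rw [show (⟨lam ^ k, Subalgebra.pow_mem _ hlam k⟩ : Cfsg.AlgInt) • (Γ *ᵥ v - lam • v)
        = lam ^ k • (Γ *ᵥ v - lam • v) from rfl]
      rw [Matrix.mulVec_sub, Matrix.mulVec_mulVec, ← pow_succ', Matrix.mulVec_smul, smul_sub,
        smul_smul, ← pow_succ]
      abel
    rw [h1]
    exact T.add_mem (hT _ ih) (T.smul_mem _ h)

theorem lat_poly_congr {N : ℕ} (T : Submodule Cfsg.AlgInt (Fin N → ℂ))
    (Γ : Matrix (Fin N) (Fin N) ℂ) (hT : ∀ v ∈ T, Γ *ᵥ v ∈ T) (v : Fin N → ℂ) (lam : ℂ)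
    (hlam : lam ∈ Cfsg.AlgInt) (h : Γ *ᵥ v - lam • v ∈ T) (f : ℂ[X])
    (hf : f ∈ Polynomial.lifts (algebraMap Cfsg.AlgInt ℂ)) :
    (aeval Γ f) *ᵥ v - f.eval lam • v ∈ T := by
  have h1 : (aeval Γ f) *ᵥ v - f.eval lam • v
      = ∑ k ∈ Finset.range (f.natDegree + 1),
          (⟨f.coeff k, lat_lifts_coeff hf k⟩ : Cfsg.AlgInt) • ((Γ ^ k) *ᵥ v - lam ^ k • v) := by
    rw [Polynomial.aeval_eq_sum_range, Polynomial.eval_eq_sum_range, Matrix.sum_mulVec,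
      Finset.sum_smul, ← Finset.sum_sub_distrib]
    refine Finset.sum_congr rfl (fun k _ => ?_)
    rw [show (⟨f.coeff k, lat_lifts_coeff hf k⟩ : Cfsg.AlgInt) • ((Γ ^ k) *ᵥ v - lam ^ k • v)
      = f.coeff k • ((Γ ^ k) *ᵥ v - lam ^ k • v) from rfl]
    rw [Matrix.smul_mulVec, smul_sub, smul_smul]
  rw [h1]
  exact T.sum_mem (fun k _ => T.smul_mem _ (lat_pow_congr T Γ hT v lam hlam h k))

/-- If `Q(Γ) = 0` then `Q(λ) ∈ 𝔐` for every "eigenvalue modulo `T`" `λ` of `Γ`. -/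
theorem lat_eval_mem {N : ℕ} (p : ℕ) (hpp : p.Prime) {𝔐 : Ideal Cfsg.AlgInt}
    (h𝔐 : 𝔐.IsPrime) (hp : latInM 𝔐 (p : ℂ)) (T : Submodule Cfsg.AlgInt (Fin N → ℂ))
    (Γ : Matrix (Fin N) (Fin N) ℂ) (hT : ∀ v ∈ T, Γ *ᵥ v ∈ T) (ℓ y : Fin N → ℤ)
    (hdot : ∀ v ∈ T, ∃ z ∈ Cfsg.AlgInt, ((Int.castRingHom ℂ) ∘ ℓ) ⬝ᵥ v = (p : ℂ) * z)
    (hℓy : ¬ (p : ℤ) ∣ ℓ ⬝ᵥ y) (lam : ℂ) (hlam : lam ∈ Cfsg.AlgInt)
    (h : Γ *ᵥ ((Int.castRingHom ℂ) ∘ y) - lam • ((Int.castRingHom ℂ) ∘ y) ∈ T) (Q : ℂ[X])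
    (hQ : Q ∈ Polynomial.lifts (algebraMap Cfsg.AlgInt ℂ)) (hQΓ : aeval Γ Q = 0) :
    latInM 𝔐 (Q.eval lam) := by
  have h5 := lat_poly_congr T Γ hT _ lam hlam h Q hQ
  rw [hQΓ, Matrix.zero_mulVec, zero_sub, neg_mem_iff] at h5
  obtain ⟨z, hz, hz'⟩ := hdot _ h5
  rw [dotProduct_smul, ← RingHom.map_dotProduct, smul_eq_mul] at hz'
  have h6 : latInM 𝔐 (Q.eval lam * (Int.castRingHom ℂ) (ℓ ⬝ᵥ y)) := by
    rw [hz']
    exact latInM_mul_right hp hz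
  rcases latInM_mul_prime h𝔐 (lat_lifts_eval hQ hlam) (Subalgebra.intCast_mem _ _) h6 with h7 | h7
  · exact h7
  · exact absurd (latInM_int p hpp h𝔐 hp _ h7) hℓy

/-! ### The eigenvalue count -/

theorem lat_eigen_bound {G : Type u} [Group G] [Fintype G] (p : ℕ) [Fact p.Prime] {N : ℕ}
    (ρ : G →* Matrix (Fin N) (Fin N) ℤ) (𝒪 ℛ : Finset (Cfsg.IrrCharacter G))
    (m : Cfsg.IrrCharacter G → ℕ)
    (htr : ∀ g : G, (((ρ g).trace : ℤ) : ℂ) = ∑ χ ∈ 𝒪, (m χ : ℂ) * (χ : G → ℂ) g)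
    (hℛ𝒪 : ℛ ⊆ 𝒪) (M₀ : ℕ) (hM₀ : ¬ p ∣ M₀) (hGM : Nat.card G ∣ p * M₀)
    (hℛ : ∀ χ ∈ 𝒪, ∃ χ₀ ∈ ℛ, ∃ τ : ℂ ≃+* ℂ, (∀ w : ℂ, w ^ M₀ = 1 → τ w = w) ∧
      ∀ g : G, (χ : G → ℂ) g = τ ((χ₀ : G → ℂ) g))
    (a : ℕ) (haM : a ≤ M₀) (γ : Fin a → Matrix (Fin N) (Fin N) ℤ)
    (hγ : ∀ i g, γ i * ρ g = ρ g * γ i)
    (S : Submodule ℤ (Fin N → ℤ)) (hS : ∀ i, ∀ s ∈ S, (γ i) *ᵥ s ∈ S)
    (y ℓ : Fin a → (Fin N → ℤ))
    (hℓS : ∀ j, ∀ s ∈ S, (p : ℤ) ∣ ℓ j ⬝ᵥ s) (hℓy : ∀ j, ¬ (p : ℤ) ∣ ℓ j ⬝ᵥ y j)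
    (c : ℤ) (hc : ¬ (p : ℤ) ∣ c)
    (hγy : ∀ i j, (γ i) *ᵥ (y j) - (if i = j then c else 0) • y j ∈ S) :
    a ≤ ∑ χ ∈ ℛ, m χ := by
  classical
  have hpp : p.Prime := Fact.out
  have hM0 : M₀ ≠ 0 := fun h => hM₀ (h ▸ dvd_zero p)
  have hpM0 : p * M₀ ≠ 0 := Nat.mul_ne_zero hpp.ne_zero hM0
  obtain ⟨𝔐, hmod⟩ := Helper78.exists_isPModular p hpp
  have h𝔐 : 𝔐.IsPrime := hmod.2.1.isPrime
  have hpM : latInM 𝔐 (p : ℂ) := ⟨(p : Cfsg.AlgInt), hmod.2.2, by simp⟩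
  obtain ⟨ω, hω⟩ : ∃ ω : ℂ, IsPrimitiveRoot ω M₀ := ⟨_, Complex.isPrimitiveRoot_exp M₀ hM0⟩
  have hωA : ω ∈ Cfsg.AlgInt := hω.isIntegral (Nat.pos_of_ne_zero hM0)
  have hωK : ω ^ (p * M₀) = 1 := by rw [mul_comm, pow_mul, hω.pow_eq_one, one_pow]
  have htrC : ∀ g : G, (latRhoC ρ g).trace = ∑ χ ∈ 𝒪, (m χ : ℂ) * (χ : G → ℂ) g := by
    intro g
    rw [latRhoC_trace]
    exact htr g
  have hcomm : ∀ g, latGam ω γ * latRhoC ρ g = latRhoC ρ g * latGam ω γ :=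
    latGam_comm ω γ ρ hγ
  have he2 : ∀ χ : Cfsg.IrrCharacter G,
      Helper75.isoIdem (latRhoC ρ) (χ : G → ℂ) * Helper75.isoIdem (latRhoC ρ) (χ : G → ℂ)
        = Helper75.isoIdem (latRhoC ρ) (χ : G → ℂ) :=
    fun χ => Helper80.lat_isoIdem_idem _ χ
  have hce : ∀ χ : Cfsg.IrrCharacter G,
      latGam ω γ * Helper75.isoIdem (latRhoC ρ) (χ : G → ℂ)
        = Helper75.isoIdem (latRhoC ρ) (χ : G → ℂ) * latGam ω γ :=
    fun χ => lat_comm_isoIdem _ _ hcomm _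
  have hsum : ∑ χ ∈ 𝒪, Helper75.isoIdem (latRhoC ρ) (χ : G → ℂ) = 1 :=
    Helper80.lat_isoIdem_sum _ 𝒪 m htrC
  have hcount : ∀ χ ∈ 𝒪,
      ((latGam ω γ * Helper75.isoIdem (latRhoC ρ) (χ : G → ℂ)).charpoly.roots.toFinset.erase
        0).card ≤ m χ :=
    fun χ hχ => Helper80.lat_isoIdem_count _ 𝒪 m htrC _ hcomm χ hχ
  have hΓA : ∀ k l, latGam ω γ k l ∈ Cfsg.AlgInt := latGam_mem ω hωA γ
  have hroot : ∀ (χ : Cfsg.IrrCharacter G) (r : ℂ),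
      (latGam ω γ * Helper75.isoIdem (latRhoC ρ) (χ : G → ℂ)).charpoly.IsRoot r →
        r ∈ Cfsg.AlgInt :=
    fun χ r hr => lat_root_mem _ _ hΓA (he2 χ) (hce χ) r hr
  have hlift : ∀ χ : Cfsg.IrrCharacter G,
      (latGam ω γ * Helper75.isoIdem (latRhoC ρ) (χ : G → ℂ)).charpoly
        ∈ Polynomial.lifts (algebraMap Cfsg.AlgInt ℂ) :=
    fun χ => lat_charpoly_lifts _ (hroot χ)
  have hQ0 : aeval (latGam ω γ)
      (∏ χ ∈ 𝒪, (latGam ω γ * Helper75.isoIdem (latRhoC ρ) (χ : G → ℂ)).charpoly) = 0 :=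
    lat_aeval_prod_eq_zero _ 𝒪 _ (fun χ _ => he2 χ) (fun χ _ => hce χ) hsum
  have hQl : (∏ χ ∈ 𝒪, (latGam ω γ * Helper75.isoIdem (latRhoC ρ) (χ : G → ℂ)).charpoly)
      ∈ Polynomial.lifts (algebraMap Cfsg.AlgInt ℂ) :=
    Subsemiring.prod_mem _ (fun χ _ => hlift χ)
  have hlamA : ∀ j : Fin a, (c : ℂ) * ω ^ (j : ℕ) ∈ Cfsg.AlgInt := fun j =>
    Subalgebra.mul_mem _ (Subalgebra.intCast_mem _ c) (Subalgebra.pow_mem _ hωA _)
  have hlamM : ∀ j : Fin a, ¬ latInM 𝔐 ((c : ℂ) * ω ^ (j : ℕ)) := by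
    intro j h
    rcases latInM_mul_prime h𝔐 (Subalgebra.intCast_mem _ c) (Subalgebra.pow_mem _ hωA _) h
      with h1 | h1
    · exact hc (latInM_int p hpp h𝔐 hpM c h1)
    · apply latInM_one h𝔐
      have h3 := latInM_mul_right h1 (Subalgebra.pow_mem _ hωA (M₀ - j))
      rwa [← pow_add, Nat.add_sub_cancel' (by have := j.2; omega), hω.pow_eq_one] at h3
  -- the key claim: every `j` gives a nonzero root congruent to `c ω ^ j`
  have key : ∀ j : Fin a, ∃ χ₀ ∈ ℛ, ∃ r : ℂ,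
      r ∈ ((latGam ω γ * Helper75.isoIdem (latRhoC ρ) (χ₀ : G → ℂ)).charpoly.roots.toFinset.erase
        0) ∧ latInM 𝔐 ((c : ℂ) * ω ^ (j : ℕ) - r) := by
    intro j
    have h1 : latInM 𝔐
        ((∏ χ ∈ 𝒪, (latGam ω γ * Helper75.isoIdem (latRhoC ρ) (χ : G → ℂ)).charpoly).eval
          ((c : ℂ) * ω ^ (j : ℕ))) :=
      lat_eval_mem p hpp h𝔐 hpM (latSA S) (latGam ω γ) (latSA_gam ω hωA γ S hS) (ℓ j) (y j)
        (latSA_dot p S (ℓ j) (hℓS j)) (hℓy j) _ (hlamA j) (latSA_gam_y ω hωA γ S y c hγy j) _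
        hQl hQ0
    rw [Polynomial.eval_prod] at h1
    obtain ⟨χ, hχ, h2⟩ := latInM_finset_prod h𝔐 𝒪 _
      (fun χ _ => lat_lifts_eval (hlift χ) (hlamA j)) h1
    obtain ⟨χ₀, hχ₀, τ, hτ, hχτ⟩ := hℛ χ hχ
    refine ⟨χ₀, hχ₀, ?_⟩
    have h3 : (latGam ω γ * Helper75.isoIdem (latRhoC ρ) (χ : G → ℂ)).charpoly
        = (latGam ω γ * Helper75.isoIdem (latRhoC ρ) (χ₀ : G → ℂ)).charpoly.map
            (τ : ℂ →+* ℂ) := by
      rw [← Matrix.charpoly_map]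
      congr 1
      have h31 : (latGam ω γ * Helper75.isoIdem (latRhoC ρ) (χ₀ : G → ℂ)).map (τ : ℂ →+* ℂ)
          = (latGam ω γ).map τ * (Helper75.isoIdem (latRhoC ρ) (χ₀ : G → ℂ)).map τ :=
        Matrix.map_mul
      rw [h31, latGam_map ω γ τ (hτ ω hω.pow_eq_one), ← lat_isoIdem_map ρ _ _ τ hχτ]
    have hdeg : ∀ χ' : Cfsg.IrrCharacter G,
        (latGam ω γ * Helper75.isoIdem (latRhoC ρ) (χ' : G → ℂ)).charpoly.natDegree < N + 1 := by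
      intro χ'
      rw [Matrix.charpoly_natDegree_eq_dim, Fintype.card_fin]
      exact Nat.lt_succ_self N
    have h4 : latInM 𝔐
        ((latGam ω γ * Helper75.isoIdem (latRhoC ρ) (χ : G → ℂ)).charpoly.eval
            ((c : ℂ) * ω ^ (j : ℕ))
          - (latGam ω γ * Helper75.isoIdem (latRhoC ρ) (χ₀ : G → ℂ)).charpoly.eval
            ((c : ℂ) * ω ^ (j : ℕ))) := by
      rw [Polynomial.eval_eq_sum_range' (hdeg χ), Polynomial.eval_eq_sum_range' (hdeg χ₀),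
        ← Finset.sum_sub_distrib]
      refine latInM_sum _ _ (fun k _ => ?_)
      rw [h3, Polynomial.coeff_map, ← sub_mul]
      refine latInM_mul_right ?_ (Subalgebra.pow_mem _ (hlamA j) k)
      obtain ⟨μ, hμ, hμe⟩ := Helper46.lat_cyclo p 𝔐 h𝔐 hmod.2.2 M₀ (p * M₀) 1 hM₀ hpM0
        (by rw [pow_one]) τ hτ
        ((latGam ω γ * Helper75.isoIdem (latRhoC ρ) (χ₀ : G → ℂ)).charpoly.coeff k)
        (lat_charpoly_coeff_mem_cyc _ _ (fun i l => by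
          rw [Matrix.mul_apply]
          exact sum_mem (fun x _ => mul_mem (latGam_mem_cyc ω γ _ hpM0 hωK i x)
            (lat_isoIdem_mem_cyc ρ χ₀ _ hpM0 hGM x l))) k)
        (lat_lifts_coeff (hlift χ₀) k)
      exact ⟨μ, hμ, hμe⟩
    have h5 : latInM 𝔐
        ((latGam ω γ * Helper75.isoIdem (latRhoC ρ) (χ₀ : G → ℂ)).charpoly.eval
          ((c : ℂ) * ω ^ (j : ℕ))) := by
      have h51 := latInM_sub h2 h4
      rwa [sub_sub_cancel] at h51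
    rw [(IsAlgClosed.splits _).eval_eq_prod_roots, (Matrix.charpoly_monic _).leadingCoeff,
      one_mul] at h5
    obtain ⟨z, hz, hz'⟩ := latInM_multiset_prod h𝔐 _ (by
      intro z hz
      obtain ⟨r, hr, rfl⟩ := Multiset.mem_map.mp hz
      exact Subalgebra.sub_mem _ (hlamA j)
        (hroot χ₀ r ((Polynomial.mem_roots (Matrix.charpoly_monic _).ne_zero).mp hr))) h5
    obtain ⟨r, hr, rfl⟩ := Multiset.mem_map.mp hz
    refine ⟨r, Finset.mem_erase.mpr ⟨?_, Multiset.mem_toFinset.mpr hr⟩, hz'⟩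
    rintro rfl
    rw [sub_zero] at hz'
    exact hlamM j hz'
  choose χ₀ hχ₀ r hr hrM using key
  have aux : ∀ j j' : Fin a, (j : ℕ) < (j' : ℕ) → r j = r j' → False := by
    intro j j' hjj hrr
    have h1 := latInM_sub (hrM j) (hrM j')
    rw [hrr, sub_sub_sub_cancel_right, ← mul_sub] at h1
    rcases latInM_mul_prime h𝔐 (Subalgebra.intCast_mem _ c)
      (Subalgebra.sub_mem _ (Subalgebra.pow_mem _ hωA _) (Subalgebra.pow_mem _ hωA _)) h1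
      with h2 | h2
    · exact hc (latInM_int p hpp h𝔐 hpM c h2)
    · exact lat_omega_incong p hpp h𝔐 hpM M₀ hM₀ ω hω j j' (lt_of_lt_of_le j'.2 haM) hjj h2
  have hinj : Function.Injective
      (fun j : Fin a => (⟨χ₀ j, r j⟩ : Σ _ : Cfsg.IrrCharacter G, ℂ)) := by
    intro j j' hjj
    have h1 : r j = r j' := by
      have := congrArg Sigma.snd hjj
      exact this
    by_contra hne
    have hne' : (j : ℕ) ≠ (j' : ℕ) := fun h => hne (Fin.ext h)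
    rcases lt_or_gt_of_ne hne' with h2 | h2
    · exact aux j j' h2 h1
    · exact aux j' j h2 h1.symm
  have hcard : a ≤ (ℛ.sigma (fun χ : Cfsg.IrrCharacter G =>
      (latGam ω γ * Helper75.isoIdem (latRhoC ρ) (χ : G → ℂ)).charpoly.roots.toFinset.erase
        0)).card := by
    have h1 := Finset.card_le_card_of_injOn (s := (Finset.univ : Finset (Fin a)))
      (t := ℛ.sigma (fun χ : Cfsg.IrrCharacter G =>
        (latGam ω γ * Helper75.isoIdem (latRhoC ρ) (χ : G → ℂ)).charpoly.roots.toFinset.erase 0))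
      (fun j : Fin a => (⟨χ₀ j, r j⟩ : Σ _ : Cfsg.IrrCharacter G, ℂ))
      (fun j _ => Finset.mem_sigma.mpr ⟨hχ₀ j, hr j⟩) (fun j _ j' _ h => hinj h)
    simpa using h1
  rw [Finset.card_sigma] at hcard
  exact hcard.trans (Finset.sum_le_sum (fun χ hχ => hcount χ (hℛ𝒪 hχ)))

end Cfsg.Agent.Helper39
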