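import Mathlib
import Cfsg.Agent.Helper3.Exceptional
import Cfsg.Agent.Helper80.CharIrr

/-!
# PIECE N3 of CALL S3805 (helper16) — helper39

A class function of norm 3 with integral multiplicities and multiplicity 1 of the principal
character is `1 ± X₁ ± X₂`.
-/

set_option autoImplicit false
open Cfsg
open scoped ComplexConjugate

namespace Cfsg.Agent.Helper39

/-- Integers with sum of squares three: exactly three are non-zero, and these are `±1`. -/
theorem s3_int_sq_sum_three {ι : Type*} [Fintype ι] [DecidableEq ι] (c : ι → ℤ)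
    (h : ∑ i, c i * c i = 3) :
    (Finset.univ.filter (fun i => c i ≠ 0)).card = 3 ∧ ∀ i, c i ≠ 0 → (c i = 1 ∨ c i = -1) := by
  have hle : ∀ i, c i * c i ≤ 3 := by
    intro i
    rw [← h]
    exact Finset.single_le_sum (fun j _ => mul_self_nonneg (c j)) (Finset.mem_univ i)
  have hunit : ∀ i, c i ≠ 0 → (c i = 1 ∨ c i = -1) := by
    intro i hi
    have h2 := hle i
    have hle1 : c i ≤ 1 := by nlinarith
    have hge : -1 ≤ c i := by nlinarith
    omega
  refine ⟨?_, hunit⟩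
  have hsq : ∀ i, c i * c i = if c i ≠ 0 then 1 else 0 := by
    intro i
    by_cases hi : c i = 0
    · simp [hi]
    · rcases hunit i hi with h1 | h1 <;> simp [h1]
  have h3 : ∑ i, c i * c i = ((Finset.univ.filter (fun i => c i ≠ 0)).card : ℤ) := by
    simp only [hsq]
    rw [Finset.sum_boole]
  rw [h] at h3
  exact_mod_cast h3.symm

theorem s3_norm_three {G : Type*} [Group G] [Fintype G] (θ : G → ℂ) (hθ : IsClassFunction G θ)
    (h3 : classInner θ θ = 3) (h1 : classInner θ (fun _ => (1 : ℂ)) = 1)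
    (hint : ∀ X : IrrCharacter G, ∃ k : ℤ, classInner θ (X : G → ℂ) = (k : ℂ)) :
    ∃ (X₁ X₂ : IrrCharacter G) (ε₁ ε₂ : ℤ), X₁ ≠ X₂ ∧
      (X₁ : G → ℂ) ≠ (fun _ => (1 : ℂ)) ∧ (X₂ : G → ℂ) ≠ (fun _ => (1 : ℂ)) ∧
      (ε₁ = 1 ∨ ε₁ = -1) ∧ (ε₂ = 1 ∨ ε₂ = -1) ∧
      ∀ g, θ g = 1 + (ε₁ : ℂ) * (X₁ : G → ℂ) g + (ε₂ : ℂ) * (X₂ : G → ℂ) g := by
  classical
  have : Fintype (IrrCharacter G) := Fintype.ofFinite _
  choose c hc using hint
  have hdec := Helper3.classFunction_eq_sum θ hθ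
  have hsym : ∀ X : IrrCharacter G, classInner (X : G → ℂ) θ = (c X : ℂ) := by
    intro X
    rw [Helper3.classInner_conj θ X, hc]
    simp
  have key := Helper3.classInner_sum_left Finset.univ
    (fun X : IrrCharacter G => (X : G → ℂ)) (fun X => classInner θ X) θ
  rw [← hdec] at key
  simp only [hc, hsym] at key
  rw [h3] at key
  have hsumZ : ∑ X : IrrCharacter G, c X * c X = 3 := by exact_mod_cast key.symm
  obtain ⟨hcard, hunit⟩ := s3_int_sq_sum_three c hsumZ
  have hcT : c ⟨fun _ => (1 : ℂ), Helper80.trivial_isIrrCharacter⟩ = 1 := by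
    have h4 := hc ⟨fun _ => (1 : ℂ), Helper80.trivial_isIrrCharacter⟩
    rw [h1] at h4
    exact_mod_cast h4.symm
  have hTs : (⟨fun _ => (1 : ℂ), Helper80.trivial_isIrrCharacter⟩ : IrrCharacter G)
      ∈ Finset.univ.filter (fun X => c X ≠ 0) := by
    rw [Finset.mem_filter]
    exact ⟨Finset.mem_univ _, by rw [hcT]; exact one_ne_zero⟩
  have hcard2 : ((Finset.univ.filter (fun X => c X ≠ 0)).erase
      (⟨fun _ => (1 : ℂ), Helper80.trivial_isIrrCharacter⟩ : IrrCharacter G)).card = 2 := by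
    rw [Finset.card_erase_of_mem hTs, hcard]
  obtain ⟨X₁, X₂, h12, hpair⟩ := Finset.card_eq_two.mp hcard2
  have hX₁ : X₁ ∈ (Finset.univ.filter (fun X => c X ≠ 0)).erase
      (⟨fun _ => (1 : ℂ), Helper80.trivial_isIrrCharacter⟩ : IrrCharacter G) := by
    rw [hpair]
    exact Finset.mem_insert_self _ _
  have hX₂ : X₂ ∈ (Finset.univ.filter (fun X => c X ≠ 0)).erase
      (⟨fun _ => (1 : ℂ), Helper80.trivial_isIrrCharacter⟩ : IrrCharacter G) := by
    rw [hpair]
    exact Finset.mem_insert_of_mem (Finset.mem_singleton_self _)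
  obtain ⟨hX₁T, hX₁s⟩ := Finset.mem_erase.mp hX₁
  obtain ⟨hX₂T, hX₂s⟩ := Finset.mem_erase.mp hX₂
  have hc₁ : c X₁ ≠ 0 := (Finset.mem_filter.mp hX₁s).2
  have hc₂ : c X₂ ≠ 0 := (Finset.mem_filter.mp hX₂s).2
  refine ⟨X₁, X₂, c X₁, c X₂, h12, ?_, ?_, hunit X₁ hc₁, hunit X₂ hc₂, ?_⟩
  · intro h
    exact hX₁T (Subtype.ext h)
  · intro h
    exact hX₂T (Subtype.ext h)
  · intro g
    have e : ∑ X : IrrCharacter G, classInner θ X • (X : G → ℂ)
        = (1 : ℂ) • (fun _ : G => (1 : ℂ))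
          + ((c X₁ : ℂ) • (X₁ : G → ℂ) + (c X₂ : ℂ) • (X₂ : G → ℂ)) := by
      simp only [hc]
      rw [← Finset.add_sum_erase Finset.univ _
        (Finset.mem_univ (⟨fun _ => (1 : ℂ), Helper80.trivial_isIrrCharacter⟩ : IrrCharacter G))]
      rw [hcT, Int.cast_one]
      congr 1
      rw [← Finset.sum_pair (f := fun X : IrrCharacter G => (c X : ℂ) • (X : G → ℂ)) h12, ← hpair]
      symm
      apply Finset.sum_subset
      · intro X hX
        exact Finset.mem_erase.mpr ⟨(Finset.mem_erase.mp hX).1, Finset.mem_univ X⟩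
      · intro X hX hX'
        have hXT := (Finset.mem_erase.mp hX).1
        have hcX : c X = 0 := by
          by_contra hne
          exact hX' (Finset.mem_erase.mpr ⟨hXT, Finset.mem_filter.mpr ⟨Finset.mem_univ X, hne⟩⟩)
        rw [hcX, Int.cast_zero, zero_smul]
    have h5 := congrFun (hdec.trans e) g
    rw [h5]
    simp only [Pi.add_apply, Pi.smul_apply, smul_eq_mul, mul_one]
    ring

end Cfsg.Agent.Helper39
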