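import Mathlib
import Cfsg.Agent.Helper80.CharOrtho
import Cfsg.Agent.Helper79.Quotient

/-!
# PIECE DB of CALL S3805 (helper16) — helper39

Two distinct non-principal irreducible characters with a normal subgroup `M` in their kernels
give `1 + d₁² + d₂² ≤ |G : M|`.
-/

set_option autoImplicit false
open Cfsg
open scoped ComplexConjugate

namespace Cfsg.Agent.Helper39

theorem s3_deg_bound {G : Type*} [Group G] [Finite G] (M : Subgroup G) [M.Normal] (X₁ X₂ : IrrCharacter G) (h12 : X₁ ≠ X₂)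
    (h1 : (X₁ : G → ℂ) ≠ (fun _ => (1 : ℂ))) (h2 : (X₂ : G → ℂ) ≠ (fun _ => (1 : ℂ)))
    (hk1 : ∀ x ∈ M, (X₁ : G → ℂ) x = (X₁ : G → ℂ) 1) (hk2 : ∀ x ∈ M, (X₂ : G → ℂ) x = (X₂ : G → ℂ) 1)
    (d₁ d₂ : ℕ) (hd₁ : (X₁ : G → ℂ) 1 = (d₁ : ℂ)) (hd₂ : (X₂ : G → ℂ) 1 = (d₂ : ℂ)) :
    1 + d₁ ^ 2 + d₂ ^ 2 ≤ M.index := by
  classical
  letI : Fintype (G ⧸ M) := Fintype.ofFinite _
  letI : Fintype (IrrCharacter (G ⧸ M)) := Fintype.ofFinite _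
  obtain ⟨ψ₁, hψ₁, hψ₁e⟩ := Helper79.exists_irr_deflation M X₁.2 hk1
  obtain ⟨ψ₂, hψ₂, hψ₂e⟩ := Helper79.exists_irr_deflation M X₂.2 hk2
  have h01 : (⟨fun _ => (1 : ℂ), Helper80.trivial_isIrrCharacter⟩ : IrrCharacter (G ⧸ M))
      ≠ ⟨ψ₁, hψ₁⟩ := by
    intro h
    apply h1
    funext g
    rw [← hψ₁e g]
    have h3 := congrArg (fun Ψ : IrrCharacter (G ⧸ M) => (Ψ : G ⧸ M → ℂ) (g : G ⧸ M)) h
    exact h3.symm
  have h02 : (⟨fun _ => (1 : ℂ), Helper80.trivial_isIrrCharacter⟩ : IrrCharacter (G ⧸ M))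
      ≠ ⟨ψ₂, hψ₂⟩ := by
    intro h
    apply h2
    funext g
    rw [← hψ₂e g]
    have h3 := congrArg (fun Ψ : IrrCharacter (G ⧸ M) => (Ψ : G ⧸ M → ℂ) (g : G ⧸ M)) h
    exact h3.symm
  have h12' : (⟨ψ₁, hψ₁⟩ : IrrCharacter (G ⧸ M)) ≠ ⟨ψ₂, hψ₂⟩ := by
    intro h
    apply h12
    apply Subtype.ext
    funext g
    rw [← hψ₁e g, ← hψ₂e g]
    exact congrArg (fun Ψ : IrrCharacter (G ⧸ M) => (Ψ : G ⧸ M → ℂ) (g : G ⧸ M)) h
  have hsum := Helper80.irr_sum_charDegree_sq (G := G ⧸ M)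
  have hdeg0 : charDegree (fun _ : G ⧸ M => (1 : ℂ)) = 1 := by
    have h3 := Helper80.irr_one_eq
      (⟨fun _ => (1 : ℂ), Helper80.trivial_isIrrCharacter⟩ : IrrCharacter (G ⧸ M))
    have h4 : ((charDegree (fun _ : G ⧸ M => (1 : ℂ)) : ℕ) : ℂ) = ((1 : ℕ) : ℂ) := by
      rw [Nat.cast_one]
      exact h3.symm
    exact_mod_cast h4
  have hdeg1 : charDegree ψ₁ = d₁ := by
    have h3 := Helper80.irr_one_eq (⟨ψ₁, hψ₁⟩ : IrrCharacter (G ⧸ M))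
    have h4 : ((charDegree ψ₁ : ℕ) : ℂ) = (d₁ : ℂ) := by
      rw [← hd₁, ← hψ₁e 1]
      exact h3.symm
    exact_mod_cast h4
  have hdeg2 : charDegree ψ₂ = d₂ := by
    have h3 := Helper80.irr_one_eq (⟨ψ₂, hψ₂⟩ : IrrCharacter (G ⧸ M))
    have h4 : ((charDegree ψ₂ : ℕ) : ℂ) = (d₂ : ℂ) := by
      rw [← hd₂, ← hψ₂e 1]
      exact h3.symm
    exact_mod_cast h4
  have hle : ∑ Ψ ∈ ({(⟨fun _ => (1 : ℂ), Helper80.trivial_isIrrCharacter⟩ : IrrCharacter (G ⧸ M)),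
      ⟨ψ₁, hψ₁⟩, ⟨ψ₂, hψ₂⟩} : Finset (IrrCharacter (G ⧸ M))), charDegree (Ψ : G ⧸ M → ℂ) ^ 2
      ≤ ∑ Ψ : IrrCharacter (G ⧸ M), charDegree (Ψ : G ⧸ M → ℂ) ^ 2 :=
    Finset.sum_le_sum_of_subset (Finset.subset_univ _)
  rw [Finset.sum_insert (by
    rw [Finset.mem_insert, Finset.mem_singleton]
    rintro (h | h)
    · exact h01 h
    · exact h02 h), Finset.sum_pair h12', hsum] at hle
  simp only [hdeg0, hdeg1, hdeg2] at hle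
  have hidx : Fintype.card (G ⧸ M) = M.index := by
    rw [Subgroup.index, Nat.card_eq_fintype_card]
  rw [hidx] at hle
  omega

end Cfsg.Agent.Helper39
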