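import Mathlib
import Cfsg.Agent.Helper80.CharIrr
import Cfsg.Agent.Helper78.Counting

/-!
# PIECE EV of CALL S3805 (helper16) — helper39

Values of a character at an involution are integers; for a real element `z` of order dividing
three, `X 1 - X z` is a multiple of three.
-/

set_option autoImplicit false
open Cfsg
open scoped ComplexConjugate

namespace Cfsg.Agent.Helper39

theorem s3_invol_int {G : Type*} [Group G] [Finite G] {X : G → ℂ} (hX : IsCharacter G X) {u : G} (hu : u ^ 2 = 1) : ∃ k : ℤ, X u = (k : ℂ) := by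
  classical
  obtain ⟨n, ρ, rfl⟩ := hX
  have hf : (ρ u) ^ 2 = 1 := by rw [← map_pow, hu, map_one]
  obtain ⟨ι, hι, b, μ, hb, hμ⟩ :=
    Helper80.exists_eigenbasis_of_pow_eq_one (ρ u) 2 (by norm_num) hf
  have htr : ρ.character u = ∑ i, μ i := Helper80.trace_eq_sum_of_eigenbasis b (ρ u) μ hb
  have hpm : ∀ i, ∃ ε : ℤ, μ i = (ε : ℂ) := by
    intro i
    have h1 : (μ i - 1) * (μ i + 1) = 0 := by linear_combination hμ i
    rcases mul_eq_zero.mp h1 with h | h
    · exact ⟨1, by push_cast; linear_combination h⟩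
    · exact ⟨-1, by push_cast; linear_combination h⟩
  choose ε hε using hpm
  refine ⟨∑ i, ε i, ?_⟩
  rw [htr]
  push_cast
  exact Finset.sum_congr rfl (fun i _ => hε i)

theorem s3_order_three {G : Type*} [Group G] [Finite G] {X : G → ℂ} (hX : IsCharacter G X) {z : G} (hz : z ^ 3 = 1) (hreal : X z⁻¹ = X z) : ∃ n : ℕ, X 1 - X z = 3 * (n : ℂ) := by
  classical
  obtain ⟨n, ρ, rfl⟩ := hX
  have hf : (ρ z) ^ 3 = 1 := by rw [← map_pow, hz, map_one]
  obtain ⟨ι, hι, b, μ, hb, hμ⟩ :=
    Helper80.exists_eigenbasis_of_pow_eq_one (ρ z) 3 (by norm_num) hf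
  have htr : ρ.character z = ∑ i, μ i := Helper80.trace_eq_sum_of_eigenbasis b (ρ z) μ hb
  have htr1 : ρ.character 1 = ∑ _i : ι, (1 : ℂ) :=
    Helper80.trace_eq_sum_of_eigenbasis b (ρ 1) (fun _ => 1) (fun i => by
      rw [map_one, one_smul]
      rfl)
  have hconj : ∀ i, conj (μ i) = μ i ^ 2 := by
    intro i
    have hnorm : ‖μ i‖ = 1 := Complex.norm_eq_one_of_pow_eq_one (hμ i) (by norm_num)
    have h1 : μ i * conj (μ i) = 1 := by
      rw [Complex.mul_conj, Complex.normSq_eq_norm_sq, hnorm]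
      norm_num
    have hμ0 : μ i ≠ 0 := by
      intro h
      rw [h, zero_mul] at h1
      exact zero_ne_one h1
    have h2 : μ i * (conj (μ i) - μ i ^ 2) = 0 := by linear_combination h1 - hμ i
    rcases mul_eq_zero.mp h2 with h | h
    · exact absurd h hμ0
    · exact sub_eq_zero.mp h
  have hre : ∑ i, μ i ^ 2 = ∑ i, μ i := by
    have h1 := Helper80.rep_char_inv ρ z
    rw [hreal, htr, map_sum] at h1
    rw [h1]
    exact Finset.sum_congr rfl (fun i _ => (hconj i).symm)
  have hterm : ∀ i, 2 - μ i - μ i ^ 2 = if μ i ≠ 1 then 3 else 0 := by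
    intro i
    by_cases h : μ i = 1
    · rw [if_neg (not_not.mpr h), h]
      norm_num
    · rw [if_pos h]
      have h1 : (μ i - 1) * (μ i ^ 2 + μ i + 1) = 0 := by linear_combination hμ i
      rcases mul_eq_zero.mp h1 with h2 | h2
      · exact absurd (sub_eq_zero.mp h2) h
      · linear_combination -h2
  obtain ⟨m, hm⟩ : ∃ m : ℕ, m = (Finset.univ.filter (fun i => μ i ≠ 1)).card := ⟨_, rfl⟩
  have h2x : 2 * (ρ.character 1 - ρ.character z) = 3 * (m : ℂ) := by
    calc 2 * (ρ.character 1 - ρ.character z) = ∑ i, (2 - μ i - μ i ^ 2) := by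
          rw [htr1, htr, Finset.sum_sub_distrib, Finset.sum_sub_distrib, hre]
          simp only [Finset.sum_const, Finset.card_univ, nsmul_eq_mul]
          ring
      _ = ∑ i, (if μ i ≠ 1 then (3 : ℂ) else 0) := Finset.sum_congr rfl (fun i _ => hterm i)
      _ = 3 * (m : ℂ) := by
          rw [← Finset.sum_filter, Finset.sum_const, nsmul_eq_mul, hm]
          ring
  have hint : IsIntegral ℤ (ρ.character 1 - ρ.character z) :=
    (Helper80.rep_isIntegral_char ρ 1).sub (Helper80.rep_isIntegral_char ρ z)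
  have hval : ρ.character 1 - ρ.character z = ((3 * m : ℕ) : ℂ) / ((2 : ℕ) : ℂ) := by
    push_cast
    rw [eq_div_iff (by norm_num)]
    linear_combination h2x
  rw [hval] at hint
  have hdvd : 2 ∣ 3 * m := Helper78.nat_dvd_of_isIntegral_div (by norm_num) hint
  have hdvd' : 2 ∣ m := by omega
  obtain ⟨k, hk⟩ := hdvd'
  refine ⟨k, ?_⟩
  rw [hval, hk]
  push_cast
  ring

end Cfsg.Agent.Helper39
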