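/-
helper39: piece FIXQ of CALL S1435 (helper23): `q ∈ σ(M*)` for a prime `q` with an element `a`
of order `q` centralizing `k ∈ K#` and commuting with a suitable `w ∈ H` of order `q`.
-/
import Cfsg.Agent.Helper23.BG65Defs
import Cfsg.Agent.Helper23.Fit81b
import Cfsg.Agent.Helper47.Syl
import Cfsg.Agent.S1367
import Cfsg.Agent.S1372
import Cfsg.Agent.S1425
import Cfsg.Agent.S1432

set_option autoImplicit false

namespace Cfsg.Agent.Helper39

open Cfsg Subgroup

open Cfsg.Agent.Helper23 (BG65Ctx BG65H)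

universe u

variable {G : Type u} [Group G] [Finite G] {M K U Mstar H : Subgroup G}

omit [Finite G] in
/-- An element commuting with a non-identity element of a subgroup of prime order centralizes
the subgroup. -/
theorem bg65fq_mem_centralizer {K : Subgroup G} (hKp : (Nat.card K).Prime) {k a : G} (hk : k ∈ K)
    (hk1 : k ≠ 1) (hka : k * a = a * k) : a ∈ centralizer (K : Set G) := by
  haveI := Fact.mk hKp
  have htop : zpowers (⟨k, hk⟩ : K) = ⊤ :=
    zpowers_eq_top_of_prime_card rfl (fun h1 => hk1 (congrArg Subtype.val h1))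
  rw [Subgroup.mem_centralizer_iff]
  intro y hy
  have hy' : (⟨y, hy⟩ : K) ∈ zpowers (⟨k, hk⟩ : K) := by rw [htop]; exact Subgroup.mem_top _
  obtain ⟨n, hn⟩ := Subgroup.mem_zpowers_iff.mp hy'
  have hyk : y = k ^ n := by
    have := congrArg Subtype.val hn
    simpa using this.symm
  rw [hyk]
  exact ((Commute.zpow_left (show Commute k a from hka) n)).eq

omit [Finite G] in
/-- The commutator `k w k⁻¹ w⁻¹` has order `q` when `w` has prime order `q`, commutes with
`k w k⁻¹`, and does not commute with `k`. -/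
theorem bg65fq_comm_order {q : ℕ} (hq : q.Prime) {k w : G} (hw : orderOf w = q)
    (hkw : k * w ≠ w * k) (hww : (k * w * k⁻¹) * w = w * (k * w * k⁻¹)) :
    orderOf (k * (w * k⁻¹ * w⁻¹)) = q := by
  haveI := Fact.mk hq
  apply orderOf_eq_prime
  · have e : k * (w * k⁻¹ * w⁻¹) = (k * w * k⁻¹) * w⁻¹ := by group
    have hc : Commute (k * w * k⁻¹) w⁻¹ := (show Commute (k * w * k⁻¹) w from hww).inv_right
    have hwq : w ^ q = 1 := by rw [← hw]; exact pow_orderOf_eq_one w
    rw [e, hc.mul_pow, conj_pow, inv_pow, hwq]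
    group
  · intro h1
    apply hkw
    have e : k * (w * k⁻¹ * w⁻¹) = (k * w * k⁻¹) * w⁻¹ := by group
    rw [e] at h1
    have h2 : k * w * k⁻¹ = w := mul_inv_eq_one.mp h1
    exact mul_inv_eq_iff_eq_mul.mp h2

/-- FIXQ. `q ∈ σ(M*)` if some `a` of order `q` centralizes `k ∈ K#` and commutes with `w ∈ H` of
order `q`, where `k w ≠ w k`, `w` commutes with `k w k⁻¹`, and `H` is the unique maximal subgroup
over `C_G(w)`. -/
theorem bg65_fix_sigma (c : BG65Ctx M K U Mstar) (h : BG65H M K U Mstar H) {q : ℕ}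
    (hq : q.Prime) {k a w : G} (hk : k ∈ K) (hk1 : k ≠ 1) (ha : orderOf a = q)
    (hka : k * a = a * k) (hwH : w ∈ H) (hw : orderOf w = q) (haw : a * w = w * a)
    (hkw : k * w ≠ w * k) (hww : (k * w * k⁻¹) * w = w * (k * w * k⁻¹))
    (huniq : ∀ L : Subgroup G, IsCoatom L → centralizer ({w} : Set G) ≤ L → L = H) :
    q ∈ sigma Mstar := by
  have hG := c.hG
  haveI : IsSimpleGroup G := hG.2.1
  by_contra hqσ
  have ha1 : a ≠ 1 := by
    rintro rfl
    rw [orderOf_one] at ha
    exact hq.one_lt.ne ha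
  have hw1 : w ≠ 1 := by
    rintro rfl
    rw [orderOf_one] at hw
    exact hq.one_lt.ne hw
  have hkσ : k ∈ sigmaCore Mstar := (c.hKst.le.trans inf_le_left) hk
  -- `a ∈ C_G(K) ≤ M*`
  have haK : a ∈ centralizer (K : Set G) := bg65fq_mem_centralizer h.hKp hk hk1 hka
  have haM : a ∈ Mstar :=
    ((Cfsg.Agent.S1367.result hG M c.hM K U c.hKU c.hK1 Mstar c.hMstar c.hKst c.hKstH).2 K le_rfl
      h.hKp).1 haK
  have hak : a ∈ centralizer ({k} : Set G) := Subgroup.mem_centralizer_singleton_iff.mpr hka.symm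
  have hσa : ∀ p : ℕ, p.Prime → p ∣ orderOf a → p ∉ sigma Mstar := by
    intro p hp hpa
    rw [ha] at hpa
    rw [(Nat.prime_dvd_prime_iff_eq hp hq).mp hpa]
    exact hqσ
  rcases Cfsg.Agent.S1432.result hG Mstar c.hMstar k hkσ hk1 a ⟨haM, hak⟩ ha1 hσa with
    ⟨hκ, -⟩ | ⟨-, -, hC, -⟩
  · -- `q ∈ κ(M*)`: then `q ∈ σ(M)` and `H` is conjugate to `M`
    have hqκ : q ∈ kappa Mstar := hκ q hq (by rw [ha])
    have hqM : q ∣ Nat.card Mstar := hqκ.2.1
    have hnot := c.hKstH.2.2 q hq hqκ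
    have e := Subgroup.relIndex_mul_relIndex ⊥ (sigmaCore M ⊓ centralizer (K : Set G)) Mstar
      bot_le c.hKstH.1
    rw [Subgroup.relIndex_bot_left, Subgroup.relIndex_bot_left] at e
    rw [← e] at hqM
    have hqKs : q ∣ Nat.card ↥(sigmaCore M ⊓ centralizer (K : Set G)) :=
      (hq.dvd_mul.mp hqM).resolve_right hnot
    have hqσM : q ∈ sigma M := Helper23.mem_of_dvd_card_piCoreOf (sigma M) M hq
      (hqKs.trans (Subgroup.card_dvd_of_le inf_le_left))
    have hY1 : zpowers w ≠ ⊥ := by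
      intro hb
      exact hw1 (Subgroup.zpowers_eq_bot.mp hb)
    have hY : ∀ p : ℕ, p.Prime → p ∣ Nat.card (zpowers w) → p ∈ sigma M := by
      intro p hp hpd
      rw [Nat.card_zpowers, hw] at hpd
      rw [(Nat.prime_dvd_prime_iff_eq hp hq).mp hpd]
      exact hqσM
    obtain ⟨g, hg⟩ := Cfsg.Agent.S1425.result hG M c.hM (zpowers w) hY1 hY
    obtain ⟨-, hTI, hσF⟩ := Cfsg.Agent.S1372.result hG M c.hM K U c.hKU c.hK1 c.hU1
    have hvF : g * w * g⁻¹ ∈ fittingOf M :=
      hσF (hg ⟨w, Subgroup.mem_zpowers w, by simp⟩)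
    have hv1 : g * w * g⁻¹ ≠ 1 := by
      intro h1
      apply hw1
      have h2 : g * w = g := by simpa using mul_inv_eq_one.mp h1
      simpa using h2
    have hF1 : fittingOf M ≠ ⊥ := by
      intro hb
      rw [hb, Subgroup.mem_bot] at hvF
      exact hv1 hvF
    have hNF : normalizer (fittingOf M : Set G) = M :=
      Helper23.uq_normalizer_eq hG c.hM hF1 (Helper23.f81_fittingOf_le M)
        (Helper23.f81_le_normalizer_fittingOf M)
    have hCv : centralizer ({g * w * g⁻¹} : Set G) ≤ M := by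
      intro z hz
      rw [Subgroup.mem_centralizer_singleton_iff] at hz
      rw [← hNF]
      by_contra hzn
      apply hv1
      apply hTI z hzn _ hvF
      have e2 : z * (g * w * g⁻¹) * z⁻¹ = g * w * g⁻¹ := by
        rw [hz]; group
      rw [e2]
      exact hvF
    have hCL : centralizer ({w} : Set G) ≤ M.map (MulAut.conj g⁻¹).toMonoidHom := by
      intro x hx
      rw [Subgroup.mem_centralizer_singleton_iff] at hx
      refine ⟨g * x * g⁻¹, hCv ?_, by simp [mul_assoc]⟩
      rw [Subgroup.mem_centralizer_singleton_iff]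
      calc g * x * g⁻¹ * (g * w * g⁻¹) = g * (x * w) * g⁻¹ := by group
        _ = g * (w * x) * g⁻¹ := by rw [hx]
        _ = g * w * g⁻¹ * (g * x * g⁻¹) := by group
    exact h.hnM g⁻¹ (huniq _ (Helper47.isCoatom_map_conj c.hM g⁻¹) hCL).symm
  · -- `C_G(a) ≤ M*`: then `k w k⁻¹ w⁻¹` is a `q`-element of `M*_σ`
    apply hqσ
    have hwMs : w ∈ Mstar := hC (Subgroup.mem_centralizer_singleton_iff.mpr haw.symm)
    have hMsn : Mstar ≤ normalizer (sigmaCore Mstar : Set G) :=
      Helper23.le_normalizer_piCoreOf (sigma Mstar) Mstar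
    have h3 : w * k⁻¹ * w⁻¹ ∈ sigmaCore Mstar :=
      (Subgroup.mem_normalizer_iff.mp (hMsn hwMs) k⁻¹).mp ((sigmaCore Mstar).inv_mem hkσ)
    have h4 : k * (w * k⁻¹ * w⁻¹) ∈ sigmaCore Mstar := (sigmaCore Mstar).mul_mem hkσ h3
    have h5 := Subgroup.orderOf_dvd_natCard (sigmaCore Mstar) h4
    rw [bg65fq_comm_order hq hw hkw hww] at h5
    exact Helper23.mem_of_dvd_card_piCoreOf (sigma Mstar) Mstar hq h5

end Cfsg.Agent.Helper39
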