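/-
helper39: piece INTER of CALL S1435 (helper23): `M ∩ H = U K` when `U ≤ H_σ`.
-/
import Cfsg.Agent.Helper23.BG65Defs
import Cfsg.Agent.Helper22.Transitivity
import Cfsg.Agent.Helper47.Syl
import Cfsg.Agent.S1361
import Cfsg.Agent.S1378

set_option autoImplicit false

namespace Cfsg.Agent.Helper39

open Cfsg Subgroup

open Cfsg.Agent.Helper23 (BG65Ctx BG65H)

universe u

variable {G : Type u} [Group G] [Finite G] {M K U Mstar H : Subgroup G}

/-- INTER. `M ∩ H = U K` when `U ≤ H_σ`. -/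
theorem bg65_inter (c : BG65Ctx M K U Mstar) (h : BG65H M K U Mstar H)
    (hUσ : U ≤ sigmaCore H) : M ⊓ H = U ⊔ K := by
  have hG := c.hG
  haveI : IsSimpleGroup G := hG.2.1
  have hUM : U ≤ M := c.hKU.compl.1
  have hKM : K ≤ M := c.hKU.hall.1
  have hM1 : M ≠ ⊥ := fun hb => c.hU1 (le_bot_iff.mp (hb ▸ hUM))
  -- `M_σ ∩ H_σ = 1`
  have hdisj : sigmaCore M ⊓ sigmaCore H = ⊥ := by
    by_contra hne
    have hcard : Nat.card ↥(sigmaCore M ⊓ sigmaCore H) ≠ 1 :=
      fun h1 => hne (Subgroup.card_eq_one.mp h1)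
    obtain ⟨p, hp, hpd⟩ := Nat.exists_prime_and_dvd hcard
    have h1 : p ∈ sigma M := Helper23.mem_of_dvd_card_piCoreOf (sigma M) M hp
      (hpd.trans (Subgroup.card_dvd_of_le inf_le_left))
    have h2 : p ∈ sigma H := Helper23.mem_of_dvd_card_piCoreOf (sigma H) H hp
      (hpd.trans (Subgroup.card_dvd_of_le inf_le_right))
    obtain ⟨g, hg⟩ := (Cfsg.Agent.S1378.result hG).2 M H c.hM h.hH ⟨p, h1, h2⟩
    exact h.hnM g hg
  have hMn : M ≤ normalizer (sigmaCore M : Set G) := Helper23.le_normalizer_piCoreOf (sigma M) M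
  have hHn : H ≤ normalizer (sigmaCore H : Set G) := Helper23.le_normalizer_piCoreOf (sigma H) H
  -- `M_σ ∩ H ≤ C(U)`
  have hcen : sigmaCore M ⊓ H ≤ centralizer (U : Set G) := by
    intro y hy
    rw [Subgroup.mem_centralizer_iff]
    intro u hu
    have h1 : y * u * y⁻¹ * u⁻¹ ∈ sigmaCore M ⊓ sigmaCore H := by
      refine ⟨?_, ?_⟩
      · have h3 : u * y⁻¹ * u⁻¹ ∈ sigmaCore M :=
          (Subgroup.mem_normalizer_iff.mp (hMn (hUM hu)) y⁻¹).mp ((sigmaCore M).inv_mem hy.1)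
        have h2 := (sigmaCore M).mul_mem hy.1 h3
        have e : y * (u * y⁻¹ * u⁻¹) = y * u * y⁻¹ * u⁻¹ := by group
        rwa [e] at h2
      · have h3 : y * u * y⁻¹ ∈ sigmaCore H :=
          (Subgroup.mem_normalizer_iff.mp (hHn hy.2) u).mp (hUσ hu)
        exact (sigmaCore H).mul_mem h3 ((sigmaCore H).inv_mem (hUσ hu))
    rw [hdisj, Subgroup.mem_bot] at h1
    have h4 : y * u * y⁻¹ = u := mul_inv_eq_one.mp h1
    exact (mul_inv_eq_iff_eq_mul.mp h4).symm
  -- `M_σ ∩ H = 1`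
  have hbot : sigmaCore M ⊓ H = ⊥ := by
    by_contra hne
    have hXc : sigmaCore M ⊓ centralizer (U : Set G) ≠ ⊥ := by
      intro hb
      apply hne
      rw [eq_bot_iff, ← hb]
      exact le_inf inf_le_left hcen
    obtain ⟨hCM, huq⟩ := Cfsg.Agent.S1361.result hG M c.hM K U c.hKU U le_rfl c.hU1 hXc
    apply Helper68.bg63_main hG c.hM c.hKU c.hK1 c.hU1 c.hMstar c.hKst c.hKstH
    intro n hn
    have hL : IsCoatom (M.map (MulAut.conj n).toMonoidHom) := Helper47.isCoatom_map_conj c.hM n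
    have hCL : centralizer (U : Set G) ≤ M.map (MulAut.conj n).toMonoidHom := by
      intro x hx
      refine ⟨n⁻¹ * x * n, hCM ?_, by simp [mul_assoc]⟩
      rw [Subgroup.mem_centralizer_iff] at hx ⊢
      intro u hu
      have hnu : n * u * n⁻¹ ∈ U := (Subgroup.mem_normalizer_iff.mp hn u).mp hu
      have h5 := hx _ hnu
      calc u * (n⁻¹ * x * n) = n⁻¹ * (n * u * n⁻¹ * x) * n := by group
        _ = n⁻¹ * (x * (n * u * n⁻¹)) * n := by rw [h5]
        _ = n⁻¹ * x * n * u := by group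
    have hLM := huq _ hL hCL
    have hNM : normalizer (M : Set G) = M :=
      Helper23.uq_normalizer_eq hG c.hM hM1 le_rfl le_normalizer
    rw [← hNM, Subgroup.mem_normalizer_iff]
    intro x
    constructor
    · intro hx
      have h6 : n * x * n⁻¹ ∈ M.map (MulAut.conj n).toMonoidHom := ⟨x, hx, by simp⟩
      rwa [hLM] at h6
    · intro hx
      rw [← hLM] at hx
      obtain ⟨z, hz, hzx⟩ := hx
      have h7 : z = x := by simpa using hzx
      rwa [← h7]
  apply le_antisymm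
  · intro m hm
    obtain ⟨u, hu, b, hb, rfl⟩ := c.hKU.compl.2.2.2 m hm.1
    have hbH : b ∈ H := by
      have h8 := H.mul_mem (H.inv_mem (h.hUH hu)) hm.2
      simpa using h8
    have hKn : K ≤ normalizer (sigmaCore M : Set G) := hKM.trans hMn
    obtain ⟨k, hk, s, hs, rfl⟩ := Helper22.exists_mul_of_mem_sup' hKn hb
    have hsH : s ∈ H := by
      have h9 := H.mul_mem (H.inv_mem (h.hKH hk)) hbH
      simpa using h9
    have hs1 : s = 1 := by
      have h10 : s ∈ sigmaCore M ⊓ H := ⟨hs, hsH⟩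
      rwa [hbot, Subgroup.mem_bot] at h10
    subst hs1
    rw [mul_one]
    exact (U ⊔ K).mul_mem ((le_sup_left : U ≤ U ⊔ K) hu) ((le_sup_right : K ≤ U ⊔ K) hk)
  · exact le_inf (sup_le hUM hKM) (sup_le h.hUH h.hKH)

end Cfsg.Agent.Helper39
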