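/-
helper39: CALL BGC (helper25), piece CP (double).
-/
import Cfsg.Agent.Helper1.BGZMain
import Cfsg.Agent.Helper24.BG14B1
import Cfsg.Agent.Helper41.BG13P1
import Cfsg.Agent.Helper22.BG10b
import Cfsg.Agent.Helper22.BG12a
import Cfsg.Agent.Helper14.BGCCD
import Cfsg.Agent.S1403

set_option autoImplicit false
set_option linter.unusedSectionVars false

namespace Cfsg.Agent.Helper39

open Cfsg Subgroup

universe u

variable {G : Type u} [Group G] [Finite G]

/-- CP. Coprimality for S1374. -/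
theorem bgc_coprime (hG : IsMinSimpleOddOrder G) {M N : Subgroup G} (hM : IsCoatom M)
    (hN : IsCoatom N) (hE : IsComplIn (M ⊓ N) (sigmaCore N) N) {x : G} (hxM : x ∈ M)
    (hxN : centralizer ({x} : Set G) ≤ N) :
    (Nat.card ↥(M ⊓ centralizer ({x} : Set G))).Coprime
      ((M ⊓ centralizer ({x} : Set G)).relIndex (centralizer ({x} : Set G))) := by
  classical
  have hU : Cfsg.Agent.Helper22.BGUniq G :=
    fun K hK h1 h2 => Cfsg.Agent.S1403.result hG K hK h1 h2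
  obtain ⟨⟨hle, hpi, hidx⟩, -, -⟩ := Cfsg.Agent.Helper22.bg10_sigma_hall hG hU hN
  have hSn : N ≤ normalizer (sigmaCore N : Set G) :=
    Cfsg.Agent.Helper23.le_normalizer_piCoreOf (sigma N) N
  have hxC : x ∈ centralizer ({x} : Set G) := by
    rw [Subgroup.mem_centralizer_iff]
    intro y hy
    rw [Set.mem_singleton_iff] at hy
    rw [hy]
  have hxE : x ∈ M ⊓ N := ⟨hxM, hxN hxC⟩
  have hcd := Cfsg.Agent.Helper14.bgc_cent_compl hE hSn hxE hxN
  obtain ⟨C, hC⟩ : ∃ C : Subgroup G, C = centralizer ({x} : Set G) := ⟨_, rfl⟩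
  rw [← hC] at hcd hxN ⊢
  have hMC : M ⊓ C = (M ⊓ N) ⊓ C := by
    rw [inf_assoc, inf_eq_right.mpr hxN]
  have hSnC : C ≤ normalizer ((sigmaCore N ⊓ C : Subgroup G) : Set G) := by
    intro c hc
    rw [Subgroup.mem_normalizer_iff]
    intro y
    have hcS := (Subgroup.mem_normalizer_iff.mp (hSn (hxN hc))) y
    constructor
    · rintro ⟨hy1, hy2⟩
      exact ⟨hcS.mp hy1, C.mul_mem (C.mul_mem hc hy2) (C.inv_mem hc)⟩
    · rintro ⟨hy1, hy2⟩
      refine ⟨hcS.mpr hy1, ?_⟩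
      have hy : y = c⁻¹ * (c * y * c⁻¹) * c := by group
      rw [hy]
      exact C.mul_mem (C.mul_mem (C.inv_mem hc) hy2) hc
  have hc1 := Cfsg.Agent.Helper22.bg12_card_compl hSnC hcd
  have hc2 := Cfsg.Agent.Helper22.bg12_card_compl hSn hE
  have hr1 : Nat.card ↥(M ⊓ C) * (M ⊓ C).relIndex C = Nat.card ↥C := by
    have h := Subgroup.relIndex_mul_relIndex ⊥ (M ⊓ C) C bot_le inf_le_right
    rw [Subgroup.relIndex_bot_left, Subgroup.relIndex_bot_left] at h
    exact h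
  have hr2 : Nat.card ↥(sigmaCore N) * (sigmaCore N).relIndex N = Nat.card ↥N := by
    have h := Subgroup.relIndex_mul_relIndex ⊥ (sigmaCore N) N bot_le hle
    rw [Subgroup.relIndex_bot_left, Subgroup.relIndex_bot_left] at h
    exact h
  have hposC : 0 < Nat.card ↥(M ⊓ C) := Nat.card_pos
  have hposS : 0 < Nat.card ↥(sigmaCore N) := Nat.card_pos
  have hrel : (M ⊓ C).relIndex C = Nat.card ↥(sigmaCore N ⊓ C) := by
    rw [← hMC] at hc1
    exact Nat.eq_of_mul_eq_mul_left hposC (hr1.trans hc1.symm)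
  have hEidx : Nat.card ↥(M ⊓ N) = (sigmaCore N).relIndex N := by
    have h : Nat.card ↥(sigmaCore N) * Nat.card ↥(M ⊓ N) =
        Nat.card ↥(sigmaCore N) * (sigmaCore N).relIndex N := by
      rw [hr2, mul_comm, hc2]
    exact Nat.eq_of_mul_eq_mul_left hposS h
  have hcop : (Nat.card ↥(M ⊓ N)).Coprime (Nat.card ↥(sigmaCore N)) := by
    by_contra hne
    obtain ⟨q, hq, hqd⟩ := Nat.exists_prime_and_dvd hne
    have hq1 : q ∣ Nat.card ↥(M ⊓ N) := hqd.trans (Nat.gcd_dvd_left _ _)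
    have hq2 : q ∣ Nat.card ↥(sigmaCore N) := hqd.trans (Nat.gcd_dvd_right _ _)
    rw [hEidx] at hq1
    exact hidx q hq (hpi q hq hq2) hq1
  rw [hrel]
  have hd1 : Nat.card ↥(M ⊓ C) ∣ Nat.card ↥(M ⊓ N) :=
    Subgroup.card_dvd_of_le (le_inf inf_le_left (inf_le_right.trans hxN))
  have hd2 : Nat.card ↥(sigmaCore N ⊓ C) ∣ Nat.card ↥(sigmaCore N) :=
    Subgroup.card_dvd_of_le inf_le_left
  exact Nat.Coprime.coprime_dvd_left hd1 (Nat.Coprime.coprime_dvd_right hd2 hcop)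

end Cfsg.Agent.Helper39
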