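import Mathlib
import Cfsg.Prelude.Def_Local
import Cfsg.Agent.Helper47.QS
import Cfsg.Agent.Helper52.Basic
import Cfsg.Agent.Helper22.Basic
import Cfsg.Agent.Helper29.Basic

set_option autoImplicit false

/-!
# A quasisimple normal subgroup of even order gives a component modulo the odd core (helper39)

* `hasComponent_quot_oddCore`: if `K ⊴ G` is quasisimple and contains an involution then
  `G ⧸ O(G)` has a component (the image of `K`).
-/

namespace Cfsg.Agent.Helper39

open scoped commutatorElement

theorem hasComponent_quot_oddCore {G : Type*} [Group G] [Finite G] (K : Subgroup G)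
    [hK : K.Normal] (hq : Cfsg.IsQuasisimple ↥K) (x : G) (hxK : x ∈ K) (hx : orderOf x = 2) :
    Cfsg.HasComponent (G ⧸ Cfsg.oddCore G) := by
  obtain ⟨π, hπ⟩ : ∃ π : G →* G ⧸ Cfsg.oddCore G, π = QuotientGroup.mk' (Cfsg.oddCore G) :=
    ⟨_, rfl⟩
  have hπs : Function.Surjective π := by
    rw [hπ]; exact QuotientGroup.mk'_surjective _
  have hker : π.ker = Cfsg.oddCore G := by rw [hπ]; exact QuotientGroup.ker_mk' _
  refine ⟨K.map π, ?_, ?_⟩
  · have : (K.map π).Normal := Subgroup.Normal.map hK π hπs
    exact this.isSubnormal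
  · obtain ⟨f, hf⟩ : ∃ f : ↥K →* G ⧸ Cfsg.oddCore G, f = π.comp K.subtype := ⟨_, rfl⟩
    have hrange : f.range = K.map π := by
      rw [hf, MonoidHom.range_comp, Subgroup.range_subtype]
    have hfk : ∀ y : ↥K, y ∈ f.ker ↔ (y : G) ∈ Cfsg.oddCore G := by
      intro y
      rw [MonoidHom.mem_ker, hf, MonoidHom.comp_apply, Subgroup.coe_subtype]
      constructor
      · intro h
        have : (y : G) ∈ π.ker := h
        rw [hker] at this
        exact this
      · intro h
        have : (y : G) ∈ π.ker := by rw [hker]; exact h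
        exact this
    have h1 : commutator ↥K = ⊤ := hq.1.commutator_eq_top
    have h2 : f.ker ≠ ⊤ := by
      intro htop
      have hmem : (⟨x, hxK⟩ : ↥K) ∈ f.ker := by rw [htop]; exact Subgroup.mem_top _
      rw [hfk] at hmem
      have hodd := Helper52.oddCore_orderOf_odd x hmem
      rw [hx] at hodd
      exact absurd hodd (by decide)
    have h3 : ∀ D : Subgroup ↥K, D.Normal → ⁅D, ⊤⁆ ≤ f.ker ∨ D ⊔ f.ker = ⊤ := by
      intro D hD
      rcases Helper22.quasisimple_normal hq D hD with h | h
      · right
        rw [h, top_sup_eq]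
      · left
        have hbot : ⁅D, (⊤ : Subgroup ↥K)⁆ ≤ ⊥ := by
          rw [Subgroup.commutator_le]
          intro d hd g _
          rw [Subgroup.mem_bot, commutatorElement_def]
          have hc := Subgroup.mem_center_iff.1 (h hd) g
          rw [← hc]
          group
        exact hbot.trans bot_le
    have hQ : Cfsg.IsQuasisimple (↥K ⧸ f.ker) := Helper47.qs_quotient f.ker h1 h2 h3
    have e1 : ↥K ⧸ f.ker ≃* ↥f.range := QuotientGroup.quotientKerEquivRange f
    have e2 : ↥f.range ≃* ↥(K.map π) := MulEquiv.subgroupCongr hrange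
    exact Helper29.isQuasisimple_of_mulEquiv (e1.trans e2) hQ

end Cfsg.Agent.Helper39
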