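/-
helper39: CALL S4538 piece LA2: a `p`-subgroup of `SL_n(F)` (`F` finite of characteristic `p`)
fixes a nonzero vector.
-/
import Cfsg.Agent.Helper40.DZDefs

set_option autoImplicit false

namespace Cfsg.Agent.Helper39.DZ

open Cfsg.Agent.Helper40.DZ Cfsg.Agent.Helper44.PSLn Matrix

universe u

section Mat

variable {n : ℕ} {F : Type u} [Field F]

local notation "SLn" => Matrix.SpecialLinearGroup (Fin n) F

variable [Fintype F]

/-- LA2: a `p`-subgroup of `SL_n(F)` (characteristic `p`) fixes a nonzero vector. -/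
theorem LA2 (p : ℕ) [Fact p.Prime] [CharP F p] (hn : 0 < n) (D : Subgroup SLn)
    (hD : IsPGroup p D) : fixVec D ≠ ⊥ := by
  classical
  intro hbot
  let φ : D →* ((Fin n → F) ≃ₗ[F] (Fin n → F)) :=
    (Matrix.SpecialLinearGroup.toLin' (n := Fin n) (R := F)).comp D.subtype
  letI : MulAction D (Fin n → F) := MulAction.compHom (Fin n → F) φ
  have hfix : MulAction.fixedPoints D (Fin n → F) = {0} := by
    ext v
    rw [MulAction.mem_fixedPoints, Set.mem_singleton_iff]
    constructor
    · intro h
      have hv : v ∈ fixVec D := by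
        intro d hd
        exact h ⟨d, hd⟩
      rw [hbot] at hv
      exact (Submodule.mem_bot F).mp hv
    · rintro rfl d
      exact Matrix.mulVec_zero (((d : SLn) : Matrix (Fin n) (Fin n) F))
  have hmod := hD.card_modEq_card_fixedPoints (Fin n → F)
  rw [hfix, Nat.card_coe_set_eq, Set.ncard_singleton] at hmod
  have hpF : p ∣ Fintype.card F := by
    rw [← CharP.cast_eq_zero_iff F p]
    exact Nat.cast_card_eq_zero F
  have hcard : Nat.card (Fin n → F) = Fintype.card F ^ n := by
    rw [Nat.card_eq_fintype_card, Fintype.card_fun, Fintype.card_fin]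
  have hp : p ∣ Nat.card (Fin n → F) := by
    rw [hcard]
    exact dvd_pow hpF hn.ne'
  have h1 : p ∣ 1 := (Nat.modEq_zero_iff_dvd.mp ((hmod.symm).trans (Nat.modEq_zero_iff_dvd.mpr hp)))
  exact (Fact.out : p.Prime).one_lt.ne' (Nat.dvd_one.mp h1)

end Mat

end Cfsg.Agent.Helper39.DZ
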