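import Mathlib
import Cfsg.Prelude.Def_DegreeGraph
import Cfsg.Agent.Helper39.DegreeGraphEven
import Cfsg.Agent.Helper39.SL2Degrees
import Cfsg.Agent.Helper5.SLCard
import Cfsg.Agent.Helper80.CharKer

/-!
# The character degree graph of `SL₂(q)` and `PSL₂(q)`, `q` odd (helper39)
-/

set_option autoImplicit false

namespace Cfsg.Agent.Helper39

open scoped ComplexConjugate
open Cfsg.Agent.Helper38

section Odd

variable {F : Type*} [Field F] [Fintype F] [DecidableEq F]

omit [Fintype F] [DecidableEq F] in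
theorem negSL_eq_triSL : (negSL : Matrix.SpecialLinearGroup (Fin 2) F) = triSL (-1) 0 := by
  apply Subtype.ext
  rw [negSL_coe, triSL_coe]
  simp

theorem psSL_negSL (α : MulChar F ℂ) :
    psSL α negSL = α (-1) * ((Fintype.card F : ℂ) + 1) := by
  rw [negSL_eq_triSL, psSL_eq, toGL_triSL, psGL_triGL]
  simp
  rw [MulChar.one_apply (isUnit_one.neg)]
  ring

omit [Fintype F] [DecidableEq F] in
theorem negSL_mem_center :
    (negSL : Matrix.SpecialLinearGroup (Fin 2) F) ∈
      Subgroup.center (Matrix.SpecialLinearGroup (Fin 2) F) := by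
  rw [Matrix.SpecialLinearGroup.mem_center_iff]
  refine ⟨-1, by simp, ?_⟩
  rw [negSL_coe]
  ext i j
  fin_cases i <;> fin_cases j <;> simp

omit [Fintype F] [DecidableEq F] in
theorem mem_center_sl2 {z : Matrix.SpecialLinearGroup (Fin 2) F}
    (hz : z ∈ Subgroup.center (Matrix.SpecialLinearGroup (Fin 2) F)) : z = 1 ∨ z = negSL := by
  rw [Matrix.SpecialLinearGroup.mem_center_iff] at hz
  obtain ⟨r, hr, hrA⟩ := hz
  simp only [Fintype.card_fin] at hr
  have : (r - 1) * (r + 1) = 0 := by linear_combination hr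
  rcases mul_eq_zero.1 this with h | h
  · left
    have hr1 : r = 1 := by linear_combination h
    apply Subtype.ext
    rw [← hrA, hr1]
    simp
  · right
    have hr1 : r = -1 := by linear_combination h
    apply Subtype.ext
    rw [← hrA, hr1, negSL_coe]
    ext i j
    fin_cases i <;> fin_cases j <;> simp

omit [Fintype F] [DecidableEq F] in
theorem trivial_on_center_iff {χ : Matrix.SpecialLinearGroup (Fin 2) F → ℂ} :
    (∀ z ∈ Subgroup.center (Matrix.SpecialLinearGroup (Fin 2) F), χ z = χ 1) ↔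
      χ negSL = χ 1 := by
  constructor
  · intro h
    exact h negSL negSL_mem_center
  · intro h z hz
    rcases mem_center_sl2 hz with rfl | rfl
    · rfl
    · exact h

/-- Exactly half of the multiplicative characters are even. -/
theorem card_even_mulChar (hodd : Odd (Fintype.card F)) [Fintype (MulChar F ℂ)] {k : ℕ}
    (hk : Fintype.card F = 2 * k + 1) :
    (Finset.univ.filter (fun α : MulChar F ℂ => α (-1) = 1)).card = k := by
  have hF := ringChar_ne_two_of_odd hodd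
  have h2 : (2 : F) ≠ 0 := Ring.two_ne_zero hF
  have h1 : (-1 : Fˣ) ≠ 1 := by
    intro h
    have := congrArg Units.val h
    simp only [Units.val_neg, Units.val_one] at this
    apply h2
    linear_combination -this
  have hs := sum_mulChar_apply (F := F) (-1 : Fˣ)
  rw [if_neg h1] at hs
  have hv : ∀ α : MulChar F ℂ, α (-1) = (if α (-1) = 1 then (2 : ℂ) else 0) - 1 := by
    intro α
    have h3 : α (-1) * α (-1) = 1 := by
      rw [← map_mul]
      simp
    rcases mul_self_eq_one_iff.mp h3 with h | h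
    · rw [if_pos h, h]
      norm_num
    · rw [if_neg, h]
      · norm_num
      · rw [h]
        norm_num
  simp only [Units.val_neg, Units.val_one] at hs
  rw [Finset.sum_congr rfl (fun α _ => hv α), Finset.sum_sub_distrib, Finset.sum_ite,
    Finset.sum_const_zero, add_zero, Finset.sum_const, Finset.sum_const, Finset.card_univ,
    mulChar_card_nat, hk] at hs
  simp only [nsmul_eq_mul, mul_one, Nat.add_sub_cancel] at hs
  have h4 : (((Finset.univ.filter (fun α : MulChar F ℂ => α (-1) = 1)).card : ℕ) : ℂ) =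
      ((k : ℕ) : ℂ) := by
    push_cast at hs ⊢
    linear_combination hs / 2
  exact_mod_cast h4

theorem apply_one_eq_charDegree (hodd : Odd (Fintype.card F))
    {χ : Matrix.SpecialLinearGroup (Fin 2) F → ℂ}
    (hχ : Cfsg.IsIrrCharacter (Matrix.SpecialLinearGroup (Fin 2) F) χ) :
    χ 1 = (Cfsg.charDegree χ : ℂ) := by
  have hodd' := hodd
  obtain ⟨k, hk⟩ := hodd
  rcases sl2_odd_degree_cases hodd' hk hχ with ⟨h, -⟩ | ⟨h, -⟩ | ⟨h, -⟩ | h | h | h <;>
  rw [charDegree_of_apply_one h, h]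

/-- The even characters `α` with `α² ≠ 1`: bounds for their number. -/
theorem card_even_sq_ne_one (hodd : Odd (Fintype.card F)) {k : ℕ}
    (hk : Fintype.card F = 2 * k + 1) :
    k - 2 ≤ Nat.card {α : MulChar F ℂ // α * α ≠ 1 ∧ α (-1) = 1} ∧
    Nat.card {α : MulChar F ℂ // α * α ≠ 1 ∧ α (-1) = 1} ≤ k - 1 := by
  classical
  have : Fintype (MulChar F ℂ) := Fintype.ofFinite _
  have hF := ringChar_ne_two_of_odd hodd
  have hE := card_even_mulChar hodd hk
  have hQ : Finset.univ.filter (fun α : MulChar F ℂ => α * α = 1) = {1, quadC F} := by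
    ext α
    simp only [Finset.mem_filter, Finset.mem_univ, true_and, Finset.mem_insert,
      Finset.mem_singleton]
    constructor
    · intro h
      by_cases h1 : α = 1
      · exact Or.inl h1
      · exact Or.inr (quad_char_unique h h1 quadC_mul_self (quadC_ne_one hF))
    · rintro (rfl | rfl)
      · simp
      · exact quadC_mul_self
  have hA : Finset.univ.filter (fun α : MulChar F ℂ => α * α ≠ 1 ∧ α (-1) = 1) =
      Finset.univ.filter (fun α : MulChar F ℂ => α (-1) = 1) \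
        Finset.univ.filter (fun α : MulChar F ℂ => α * α = 1) := by
    ext α
    simp only [Finset.mem_filter, Finset.mem_univ, true_and, Finset.mem_sdiff]
    tauto
  rw [Nat.card_eq_fintype_card, Fintype.card_subtype, hA]
  constructor
  · have h1 := Finset.le_card_sdiff (Finset.univ.filter (fun α : MulChar F ℂ => α * α = 1))
      (Finset.univ.filter (fun α : MulChar F ℂ => α (-1) = 1))
    rw [hE, hQ, Finset.card_pair (Ne.symm (quadC_ne_one hF))] at h1
    rw [hQ]
    exact h1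
  · have h1 : Finset.univ.filter (fun α : MulChar F ℂ => α (-1) = 1) \
        Finset.univ.filter (fun α : MulChar F ℂ => α * α = 1) ⊆
        (Finset.univ.filter (fun α : MulChar F ℂ => α (-1) = 1)).erase 1 := by
      intro α hα
      simp only [Finset.mem_filter, Finset.mem_univ, true_and, Finset.mem_sdiff] at hα
      simp only [Finset.mem_erase, Finset.mem_filter, Finset.mem_univ, true_and]
      refine ⟨?_, hα.1⟩
      rintro rfl
      exact hα.2 (by simp)
    have h2 := Finset.card_le_card h1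
    rw [Finset.card_erase_of_mem (by simp [MulChar.one_apply (isUnit_one.neg)]), hE] at h2
    exact h2

/-- The number of even irreducible characters of degree `q + 1`. -/
theorem card_even_ps (hodd : Odd (Fintype.card F)) {k : ℕ}
    (hk : Fintype.card F = 2 * k + 1) :
    2 * Nat.card {χ : Cfsg.IrrCharacter (Matrix.SpecialLinearGroup (Fin 2) F) //
      (χ : Matrix.SpecialLinearGroup (Fin 2) F → ℂ) 1 = ((2 * k + 2 : ℕ) : ℂ) ∧
      (χ : Matrix.SpecialLinearGroup (Fin 2) F → ℂ) negSL =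
        (χ : Matrix.SpecialLinearGroup (Fin 2) F → ℂ) 1} =
    Nat.card {α : MulChar F ℂ // α * α ≠ 1 ∧ α (-1) = 1} := by
  have hq1 : (Fintype.card F : ℂ) + 1 ≠ 0 := by
    have : ((Fintype.card F + 1 : ℕ) : ℂ) ≠ 0 := Nat.cast_ne_zero.mpr (Nat.succ_ne_zero _)
    exact_mod_cast this
  apply natCard_subtype_two_to_one _
    (fun α : {α : MulChar F ℂ // α * α ≠ 1 ∧ α (-1) = 1} =>
      (⟨psSL α.1, psSL_irr α.2.1⟩ : Cfsg.IrrCharacter (Matrix.SpecialLinearGroup (Fin 2) F)))
    (fun α => ⟨α.1⁻¹, fun h => α.2.1 (by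
      have h1 := congrArg (fun x => x⁻¹) h
      simpa using h1), by
      rw [MulChar.inv_apply_eq_inv', α.2.2, inv_one]⟩)
  · rintro ⟨α, hα, hα1⟩ h
    simp only [Subtype.mk.injEq] at h
    apply hα
    nth_rewrite 1 [← h]
    simp
  · rintro ⟨α, hα, hα1⟩
    constructor
    · show psSL α 1 = _
      rw [psSL_one, hk]
      push_cast
      ring
    · show psSL α negSL = psSL α 1
      rw [psSL_negSL, psSL_one, hα1, one_mul]
  · rintro χ ⟨hχ1, hχ2⟩
    rcases sl2_odd_degree_cases hodd hk χ.2 with ⟨h, -⟩ | ⟨h, -⟩ | ⟨-, α, hα, h⟩ | h | h | h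
    · exfalso
      rw [h] at hχ1
      have := Nat.cast_injective (R := ℂ) hχ1
      omega
    · exfalso
      rw [h] at hχ1
      have := Nat.cast_injective (R := ℂ) hχ1
      omega
    · refine ⟨⟨α, hα, ?_⟩, Subtype.ext h.symm⟩
      rw [h, psSL_negSL, psSL_one] at hχ2
      have h3 : (α (-1) - 1) * ((Fintype.card F : ℂ) + 1) = 0 := by linear_combination hχ2
      rcases mul_eq_zero.mp h3 with h4 | h4
      · exact sub_eq_zero.mp h4
      · exact absurd h4 hq1
    all_goals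
      exfalso
      rw [h] at hχ1
      have := Nat.cast_injective (R := ℂ) hχ1
      omega
  · rintro ⟨α, hα, hα1⟩ ⟨α', hα', hα1'⟩
    simp only [Subtype.mk.injEq]
    exact psSL_eq_iff hα hα'

theorem card_filter_degree_le (hodd : Odd (Fintype.card F))
    (S : Finset (Cfsg.IrrCharacter (Matrix.SpecialLinearGroup (Fin 2) F))) (d : ℕ) :
    (S.filter (fun χ : Cfsg.IrrCharacter (Matrix.SpecialLinearGroup (Fin 2) F) =>
      Cfsg.charDegree (χ : Matrix.SpecialLinearGroup (Fin 2) F → ℂ) = d)).card ≤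
      Nat.card {χ : Cfsg.IrrCharacter (Matrix.SpecialLinearGroup (Fin 2) F) //
        (χ : Matrix.SpecialLinearGroup (Fin 2) F → ℂ) 1 = (d : ℂ)} := by
  classical
  have : Fintype (Cfsg.IrrCharacter (Matrix.SpecialLinearGroup (Fin 2) F)) := Fintype.ofFinite _
  rw [Nat.card_eq_fintype_card, Fintype.card_subtype]
  apply Finset.card_le_card
  intro χ hχ
  rw [Finset.mem_filter] at hχ ⊢
  refine ⟨Finset.mem_univ _, ?_⟩
  rw [apply_one_eq_charDegree hodd χ.2, hχ.2]

/-- Existence of an even irreducible character of degree `q - 1`, `q ≥ 7`. -/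
theorem exists_even_cusp (hodd : Odd (Fintype.card F)) {k : ℕ}
    (hk : Fintype.card F = 2 * k + 1) (hk3 : 3 ≤ k) :
    ∃ χ : Matrix.SpecialLinearGroup (Fin 2) F → ℂ,
      Cfsg.IsIrrCharacter (Matrix.SpecialLinearGroup (Fin 2) F) χ ∧ χ 1 = ((2 * k : ℕ) : ℂ) ∧
      χ negSL = χ 1 := by
  classical
  have : Fintype (Cfsg.IrrCharacter (Matrix.SpecialLinearGroup (Fin 2) F)) := Fintype.ofFinite _
  have hF := ringChar_ne_two_of_odd hodd
  have h2 : (2 : F) ≠ 0 := Ring.two_ne_zero hF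
  by_contra hcon
  push Not at hcon
  have hsum := Cfsg.Agent.Helper80.irr_sum_sq_of_le_ker
    (Subgroup.center (Matrix.SpecialLinearGroup (Fin 2) F))
  have hidx : (Subgroup.center (Matrix.SpecialLinearGroup (Fin 2) F)).index =
      (2 * k + 1) * (2 * k * (k + 1)) := by
    have h1 := Subgroup.index_mul_card (Subgroup.center (Matrix.SpecialLinearGroup (Fin 2) F))
    rw [Cfsg.Agent.Helper5.card_center_SL2 h2, Cfsg.Agent.Helper5.card_SL2, hk] at h1
    have h3 : (2 * k + 1) ^ 2 - 1 = 4 * k * (k + 1) := by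
      apply Nat.sub_eq_of_eq_add
      ring
    rw [h3] at h1
    apply Nat.eq_of_mul_eq_mul_right (Nat.succ_pos 1)
    rw [h1]
    ring
  rw [hidx] at hsum
  obtain ⟨c1, c2, c3, c4, c5, c6⟩ := sl2_odd_degree_count_aux hodd hk (by omega)
  have hA := (card_even_sq_ne_one hodd hk).2
  have hE := card_even_ps hodd hk
  set S := Finset.univ.filter (fun χ : Cfsg.IrrCharacter (Matrix.SpecialLinearGroup (Fin 2) F) =>
    ∀ n ∈ Subgroup.center (Matrix.SpecialLinearGroup (Fin 2) F),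
      (χ : Matrix.SpecialLinearGroup (Fin 2) F → ℂ) n =
      (χ : Matrix.SpecialLinearGroup (Fin 2) F → ℂ) 1) with hS
  have hmaps : ∀ χ ∈ S, Cfsg.charDegree (χ : Matrix.SpecialLinearGroup (Fin 2) F → ℂ) ∈
      ({1, 2 * k + 1, 2 * k + 2, k + 1, k} : Finset ℕ) := by
    intro χ hχ
    rw [hS, Finset.mem_filter] at hχ
    simp only [Finset.mem_insert, Finset.mem_singleton]
    rcases sl2_odd_degree_cases hodd hk χ.2 with ⟨h, -⟩ | ⟨h, -⟩ | ⟨h, -⟩ | h | h | h
    · exact Or.inl (charDegree_of_apply_one h)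
    · exact Or.inr (Or.inl (charDegree_of_apply_one h))
    · exact Or.inr (Or.inr (Or.inl (charDegree_of_apply_one h)))
    · exact Or.inr (Or.inr (Or.inr (Or.inl (charDegree_of_apply_one h))))
    · exact Or.inr (Or.inr (Or.inr (Or.inr (charDegree_of_apply_one h))))
    · exact absurd (trivial_on_center_iff.mp hχ.2) (hcon χ.1 χ.2 h)
  replace hsum : ∑ χ ∈ S, Cfsg.charDegree (χ : Matrix.SpecialLinearGroup (Fin 2) F → ℂ) ^ 2 =
      (2 * k + 1) * (2 * k * (k + 1)) := by
    rw [← hsum]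
    apply Finset.sum_congr _ (fun _ _ => rfl)
    ext χ
    simp only [hS, Finset.mem_filter, Finset.mem_univ, true_and]
  rw [← Finset.sum_fiberwise_of_maps_to hmaps] at hsum
  have hinner : ∀ d : ℕ, ∑ χ ∈ S.filter (fun χ : Cfsg.IrrCharacter (Matrix.SpecialLinearGroup (Fin 2) F) =>
      Cfsg.charDegree (χ : Matrix.SpecialLinearGroup (Fin 2) F → ℂ) = d),
      Cfsg.charDegree (χ : Matrix.SpecialLinearGroup (Fin 2) F → ℂ) ^ 2 =
      (S.filter (fun χ : Cfsg.IrrCharacter (Matrix.SpecialLinearGroup (Fin 2) F) =>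
        Cfsg.charDegree (χ : Matrix.SpecialLinearGroup (Fin 2) F → ℂ) = d)).card * d ^ 2 := by
    intro d
    rw [Finset.sum_congr rfl (fun χ hχ => by rw [(Finset.mem_filter.mp hχ).2]),
      Finset.sum_const, smul_eq_mul]
  simp only [hinner] at hsum
  have b1 := card_filter_degree_le hodd S 1
  have b2 := card_filter_degree_le hodd S (2 * k + 1)
  have b4 := card_filter_degree_le hodd S (k + 1)
  have b5 := card_filter_degree_le hodd S k
  rw [c1] at b1
  rw [c2] at b2
  rw [c5] at b4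
  rw [c6] at b5
  have b3 : 2 * (S.filter (fun χ : Cfsg.IrrCharacter (Matrix.SpecialLinearGroup (Fin 2) F) =>
      Cfsg.charDegree (χ : Matrix.SpecialLinearGroup (Fin 2) F → ℂ) = 2 * k + 2)).card ≤ k - 1 := by
    refine le_trans ?_ hA
    rw [← hE]
    apply Nat.mul_le_mul_left
    rw [Nat.card_eq_fintype_card, Fintype.card_subtype]
    apply Finset.card_le_card
    intro χ hχ
    rw [Finset.mem_filter] at hχ ⊢
    refine ⟨Finset.mem_univ _, ?_, ?_⟩
    · rw [apply_one_eq_charDegree hodd χ.2, hχ.2]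
    · have := hχ.1
      rw [hS, Finset.mem_filter] at this
      exact trivial_on_center_iff.mp this.2
  rw [Finset.sum_insert, Finset.sum_insert, Finset.sum_insert, Finset.sum_insert,
    Finset.sum_singleton] at hsum
  · obtain ⟨j, rfl⟩ : ∃ j, k = j + 3 := ⟨k - 3, by omega⟩
    generalize (S.filter (fun χ : Cfsg.IrrCharacter (Matrix.SpecialLinearGroup (Fin 2) F) =>
      Cfsg.charDegree (χ : Matrix.SpecialLinearGroup (Fin 2) F → ℂ) = 1)).card = n1 at hsum b1
    generalize (S.filter (fun χ : Cfsg.IrrCharacter (Matrix.SpecialLinearGroup (Fin 2) F) =>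
      Cfsg.charDegree (χ : Matrix.SpecialLinearGroup (Fin 2) F → ℂ) = 2 * (j + 3) + 1)).card = n2
      at hsum b2
    generalize (S.filter (fun χ : Cfsg.IrrCharacter (Matrix.SpecialLinearGroup (Fin 2) F) =>
      Cfsg.charDegree (χ : Matrix.SpecialLinearGroup (Fin 2) F → ℂ) = 2 * (j + 3) + 2)).card = n3
      at hsum b3
    generalize (S.filter (fun χ : Cfsg.IrrCharacter (Matrix.SpecialLinearGroup (Fin 2) F) =>
      Cfsg.charDegree (χ : Matrix.SpecialLinearGroup (Fin 2) F → ℂ) = j + 3 + 1)).card = n4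
      at hsum b4
    generalize (S.filter (fun χ : Cfsg.IrrCharacter (Matrix.SpecialLinearGroup (Fin 2) F) =>
      Cfsg.charDegree (χ : Matrix.SpecialLinearGroup (Fin 2) F → ℂ) = j + 3)).card = n5
      at hsum b5
    have b3' : 2 * n3 ≤ j + 2 := by omega
    have e2 : n2 * (2 * (j + 3) + 1) ^ 2 ≤ 1 * (2 * (j + 3) + 1) ^ 2 := Nat.mul_le_mul_right _ b2
    have e3 : (2 * n3) * (2 * (j + 4) ^ 2) ≤ (j + 2) * (2 * (j + 4) ^ 2) :=
      Nat.mul_le_mul_right _ b3'
    have e4 : n4 * (j + 3 + 1) ^ 2 ≤ 2 * (j + 3 + 1) ^ 2 := Nat.mul_le_mul_right _ b4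
    have e5 : n5 * (j + 3) ^ 2 ≤ 2 * (j + 3) ^ 2 := Nat.mul_le_mul_right _ b5
    have e6 : n3 * (2 * (j + 3) + 2) ^ 2 = (2 * n3) * (2 * (j + 4) ^ 2) := by ring
    nlinarith [sq_nonneg j, Nat.zero_le (j ^ 3), Nat.zero_le (j ^ 2)]
  · simp only [Finset.mem_singleton]; omega
  · simp only [Finset.mem_insert, Finset.mem_singleton]; omega
  · simp only [Finset.mem_insert, Finset.mem_singleton]; omega
  · simp only [Finset.mem_insert, Finset.mem_singleton]; omega

/-- The character degrees of `SL₂(q)`, `q = 2k + 1 ≥ 5`. -/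
theorem charDegrees_sl2_odd (hodd : Odd (Fintype.card F)) {k : ℕ}
    (hk : Fintype.card F = 2 * k + 1) (hk2 : 2 ≤ k) :
    Cfsg.charDegrees (Matrix.SpecialLinearGroup (Fin 2) F) ⊆
      {1, 2 * k + 1, 2 * k + 2, 2 * k, k + 1, k} ∧
    2 * k + 1 ∈ Cfsg.charDegrees (Matrix.SpecialLinearGroup (Fin 2) F) ∧
    2 * k + 2 ∈ Cfsg.charDegrees (Matrix.SpecialLinearGroup (Fin 2) F) ∧
    2 * k ∈ Cfsg.charDegrees (Matrix.SpecialLinearGroup (Fin 2) F) := by
  obtain ⟨c1, c2, c3, c4, c5, c6⟩ := sl2_odd_degree_count_aux hodd hk hk2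
  have key : ∀ n : ℕ, Nat.card {χ : Cfsg.IrrCharacter (Matrix.SpecialLinearGroup (Fin 2) F) //
      (χ : Matrix.SpecialLinearGroup (Fin 2) F → ℂ) 1 = (n : ℂ)} ≠ 0 →
      n ∈ Cfsg.charDegrees (Matrix.SpecialLinearGroup (Fin 2) F) := by
    intro n hn
    have hne : Nonempty {χ : Cfsg.IrrCharacter (Matrix.SpecialLinearGroup (Fin 2) F) //
        (χ : Matrix.SpecialLinearGroup (Fin 2) F → ℂ) 1 = (n : ℂ)} := by
      by_contra hcon
      rw [not_nonempty_iff] at hcon
      exact hn Nat.card_of_isEmpty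
    obtain ⟨χ, hχ⟩ := hne
    exact ⟨χ, charDegree_of_apply_one hχ⟩
  refine ⟨?_, key _ (by rw [c2]; omega), key _ (by rw [c3]; omega), key _ (by rw [c4]; omega)⟩
  rintro d ⟨χ, rfl⟩
  simp only [Set.mem_insert_iff, Set.mem_singleton_iff]
  rcases sl2_odd_degree_cases hodd hk χ.2 with ⟨h, -⟩ | ⟨h, -⟩ | ⟨h, -⟩ | h | h | h
  · exact Or.inl (charDegree_of_apply_one h)
  · exact Or.inr (Or.inl (charDegree_of_apply_one h))
  · exact Or.inr (Or.inr (Or.inl (charDegree_of_apply_one h)))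
  · exact Or.inr (Or.inr (Or.inr (Or.inr (Or.inl (charDegree_of_apply_one h)))))
  · exact Or.inr (Or.inr (Or.inr (Or.inr (Or.inr (charDegree_of_apply_one h)))))
  · exact Or.inr (Or.inr (Or.inr (Or.inl (charDegree_of_apply_one h))))

omit [DecidableEq F] in
/-- A character of `SL₂` which is trivial on the centre gives a character degree of `PSL₂`. -/
theorem mem_charDegrees_psl2 {χ : Matrix.SpecialLinearGroup (Fin 2) F → ℂ}
    (hχ : Cfsg.IsIrrCharacter (Matrix.SpecialLinearGroup (Fin 2) F) χ) (hz : χ negSL = χ 1)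
    {d : ℕ} (hd : χ 1 = (d : ℂ)) :
    d ∈ Cfsg.charDegrees (Matrix.ProjectiveSpecialLinearGroup (Fin 2) F) := by
  obtain ⟨ψ, hψ, hψχ⟩ := Cfsg.Agent.Helper79.exists_irr_deflation
    (Subgroup.center (Matrix.SpecialLinearGroup (Fin 2) F)) hχ (trivial_on_center_iff.mpr hz)
  refine ⟨⟨ψ, hψ⟩, ?_⟩
  apply charDegree_of_apply_one
  rw [← hd, ← hψχ 1]
  rfl

/-- The character degrees of `PSL₂(q)`, `q = 2k + 1 ≥ 7`. -/
theorem charDegrees_psl2_odd (hodd : Odd (Fintype.card F)) {k : ℕ}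
    (hk : Fintype.card F = 2 * k + 1) (hk3 : 3 ≤ k) :
    Cfsg.charDegrees (Matrix.ProjectiveSpecialLinearGroup (Fin 2) F) ⊆
      {1, 2 * k + 1, 2 * k + 2, 2 * k, k + 1, k} ∧
    2 * k + 1 ∈ Cfsg.charDegrees (Matrix.ProjectiveSpecialLinearGroup (Fin 2) F) ∧
    2 * k + 2 ∈ Cfsg.charDegrees (Matrix.ProjectiveSpecialLinearGroup (Fin 2) F) ∧
    2 * k ∈ Cfsg.charDegrees (Matrix.ProjectiveSpecialLinearGroup (Fin 2) F) := by
  refine ⟨?_, ?_, ?_, ?_⟩
  · rintro d ⟨ψ, rfl⟩
    apply (charDegrees_sl2_odd hodd hk (by omega)).1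
    refine ⟨⟨fun g => (ψ : Matrix.ProjectiveSpecialLinearGroup (Fin 2) F → ℂ)
      (g : Matrix.SpecialLinearGroup (Fin 2) F ⧸
        Subgroup.center (Matrix.SpecialLinearGroup (Fin 2) F)),
      (Cfsg.Agent.Helper79.isIrrCharacter_quotient_iff _ _).mp ψ.2⟩, ?_⟩
    rfl
  · apply mem_charDegrees_psl2 (χ := psSL (1 : MulChar F ℂ) - trivSL) psSL_one_sub_irr
    · rw [Pi.sub_apply, Pi.sub_apply, psSL_negSL, psSL_one,
        MulChar.one_apply (isUnit_one.neg), one_mul]
      rfl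
    · rw [Pi.sub_apply, psSL_one, hk]
      simp [trivSL]
  · have hA := (card_even_sq_ne_one hodd hk).1
    have hne : Nonempty {α : MulChar F ℂ // α * α ≠ 1 ∧ α (-1) = 1} := by
      by_contra hcon
      rw [not_nonempty_iff] at hcon
      rw [Nat.card_of_isEmpty] at hA
      omega
    obtain ⟨α, hα, hα1⟩ := hne
    apply mem_charDegrees_psl2 (χ := psSL α) (psSL_irr hα)
    · rw [psSL_negSL, psSL_one, hα1, one_mul]
    · rw [psSL_one, hk]
      push_cast
      ring
  · obtain ⟨χ, hχ, h1, h2⟩ := exists_even_cusp hodd hk hk3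
    exact mem_charDegrees_psl2 hχ h2 h1

end Odd

section GraphOdd

/-- The degree graph of a group whose character degrees are among
`1, q, q + 1, q - 1, (q + 1) / 2, (q - 1) / 2` and include `q, q + 1, q - 1`, for `q` an odd prime
power. -/
theorem degreeGraph_of_degrees_odd {G : Type*} [Group G] {q k t n : ℕ} (ht : t.Prime)
    (hqk : q = 2 * k + 1) (hqt : q = t ^ n)
    (hD : Cfsg.charDegrees G ⊆ {1, 2 * k + 1, 2 * k + 2, 2 * k, k + 1, k})
    (h1 : 2 * k + 1 ∈ Cfsg.charDegrees G) (h2 : 2 * k + 2 ∈ Cfsg.charDegrees G)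
    (h3 : 2 * k ∈ Cfsg.charDegrees G) :
    Cfsg.degreePrimes G = {r : ℕ | r.Prime ∧ r ∣ q * (q ^ 2 - 1)} ∧
    ∀ r s : ℕ, (Cfsg.degreeGraph G).Adj r s ↔
      (r ≠ s ∧ r.Prime ∧ s.Prime ∧ r ∣ q ^ 2 - 1 ∧ s ∣ q ^ 2 - 1 ∧
        (r = 2 ∨ s = 2 ∨ (r ∣ q + 1 ∧ s ∣ q + 1) ∨ (r ∣ q - 1 ∧ s ∣ q - 1))) := by
  have hsq : q ^ 2 - 1 = (2 * k + 2) * (2 * k) := by
    rw [hqk]
    apply Nat.sub_eq_of_eq_add
    ring
  have hq1 : q + 1 = 2 * k + 2 := by omega
  have hq2 : q - 1 = 2 * k := by omega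
  rw [hsq, hq1, hq2]
  have hk1 : k + 1 ∣ 2 * k + 2 := ⟨2, by ring⟩
  have hk2 : k ∣ 2 * k := ⟨2, by ring⟩
  constructor
  · ext r
    unfold Cfsg.degreePrimes
    simp only [Set.mem_ofPred_eq]
    constructor
    · rintro ⟨hr, d, hd, hrd⟩
      refine ⟨hr, ?_⟩
      have hd' := hD hd
      simp only [Set.mem_insert_iff, Set.mem_singleton_iff] at hd'
      rcases hd' with rfl | rfl | rfl | rfl | rfl | rfl
      · exact absurd (Nat.dvd_one.mp hrd) hr.one_lt.ne'
      · rw [hqk]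
        exact Dvd.dvd.mul_right hrd _
      · exact Dvd.dvd.mul_left (Dvd.dvd.mul_right hrd _) _
      · exact Dvd.dvd.mul_left (Dvd.dvd.mul_left hrd _) _
      · exact Dvd.dvd.mul_left (Dvd.dvd.mul_right (hrd.trans hk1) _) _
      · exact Dvd.dvd.mul_left (Dvd.dvd.mul_left (hrd.trans hk2) _) _
    · rintro ⟨hr, hrd⟩
      refine ⟨hr, ?_⟩
      rcases (Nat.Prime.dvd_mul hr).mp hrd with h | h
      · exact ⟨2 * k + 1, h1, hqk ▸ h⟩
      · rcases (Nat.Prime.dvd_mul hr).mp h with h | h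
        · exact ⟨2 * k + 2, h2, h⟩
        · exact ⟨2 * k, h3, h⟩
  · intro r s
    unfold Cfsg.degreeGraph
    simp only
    constructor
    · rintro ⟨hne, hr, hs, d, hd, hrs⟩
      have hrd : r ∣ d := (Dvd.intro _ rfl).trans hrs
      have hsd : s ∣ d := (Dvd.intro_left _ rfl).trans hrs
      have hd' := hD hd
      simp only [Set.mem_insert_iff, Set.mem_singleton_iff] at hd'
      rcases hd' with rfl | rfl | rfl | rfl | rfl | rfl
      · exact absurd (Nat.dvd_one.mp hrd) hr.one_lt.ne'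
      · exfalso
        rw [← hqk, hqt] at hrd hsd
        have hr2 := (Nat.prime_dvd_prime_iff_eq hr ht).mp (hr.dvd_of_dvd_pow hrd)
        have hs2 := (Nat.prime_dvd_prime_iff_eq hs ht).mp (hs.dvd_of_dvd_pow hsd)
        exact hne (hr2.trans hs2.symm)
      · exact ⟨hne, hr, hs, Dvd.dvd.mul_right hrd _, Dvd.dvd.mul_right hsd _,
          Or.inr (Or.inr (Or.inl ⟨hrd, hsd⟩))⟩
      · exact ⟨hne, hr, hs, Dvd.dvd.mul_left hrd _, Dvd.dvd.mul_left hsd _,
          Or.inr (Or.inr (Or.inr ⟨hrd, hsd⟩))⟩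
      · exact ⟨hne, hr, hs, Dvd.dvd.mul_right (hrd.trans hk1) _,
          Dvd.dvd.mul_right (hsd.trans hk1) _,
          Or.inr (Or.inr (Or.inl ⟨hrd.trans hk1, hsd.trans hk1⟩))⟩
      · exact ⟨hne, hr, hs, Dvd.dvd.mul_left (hrd.trans hk2) _,
          Dvd.dvd.mul_left (hsd.trans hk2) _,
          Or.inr (Or.inr (Or.inr ⟨hrd.trans hk2, hsd.trans hk2⟩))⟩
    · rintro ⟨hne, hr, hs, hrq, hsq', h⟩
      refine ⟨hne, hr, hs, ?_⟩
      have hcop : Nat.Coprime r s := (Nat.coprime_primes hr hs).mpr hne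
      have two1 : 2 ∣ 2 * k + 2 := ⟨k + 1, by ring⟩
      have two2 : 2 ∣ 2 * k := ⟨k, rfl⟩
      rcases h with rfl | rfl | ⟨h1', h2'⟩ | ⟨h1', h2'⟩
      · rcases (Nat.Prime.dvd_mul hs).mp hsq' with h | h
        · exact ⟨2 * k + 2, h2, hcop.mul_dvd_of_dvd_of_dvd two1 h⟩
        · exact ⟨2 * k, h3, hcop.mul_dvd_of_dvd_of_dvd two2 h⟩
      · rcases (Nat.Prime.dvd_mul hr).mp hrq with h | h
        · exact ⟨2 * k + 2, h2, hcop.mul_dvd_of_dvd_of_dvd h two1⟩
        · exact ⟨2 * k, h3, hcop.mul_dvd_of_dvd_of_dvd h two2⟩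
      · exact ⟨2 * k + 2, h2, hcop.mul_dvd_of_dvd_of_dvd h1' h2'⟩
      · exact ⟨2 * k, h3, hcop.mul_dvd_of_dvd_of_dvd h1' h2'⟩

end GraphOdd

end Cfsg.Agent.Helper39
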