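import Mathlib
import Cfsg.Prelude.Def_Local
import Cfsg.Agent.Helper38.StdSL
import Cfsg.Agent.Helper39.CompType
import Cfsg.Agent.Helper39.LawClassical

set_option autoImplicit false
set_option linter.unusedSectionVars false

/-!
# `GL_n(q)`, `q` odd, is of component type (helper39)

For the involution `t = diag(-1, …, -1, 1)` of `GL(ι, F)` (entry `1` at `o`) the centralizer is the
group of block diagonal matrices and contains the normal subgroup `slBlock o ≅ SL(ι ∖ {o}, F)`.

* `tGL`, `mem_centralizer_tGL_iff`, `orderOf_tGL`, `tGL_not_mem_center`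
* `slBlock`, `mem_slBlock_iff`, `slBlock_normal`, `slBlock_quasisimple`
* `invGL`: an involution in `slBlock`
* `isQuasisimple_SL_of_card_two`: `SL(κ, F)` is quasisimple for `|κ| = 2`, `|F| ≥ 4`
* `gl_hasComponent`
-/

namespace Cfsg.Agent.Helper39

open Matrix

section GLComp

variable {F : Type*} [Field F] {ι : Type} [Fintype ι] [DecidableEq ι] (o : ι)

theorem tmat_sq : Helper38.tmat (F := F) o * Helper38.tmat o = 1 := by
  rw [Helper38.tmat, Matrix.diagonal_mul_diagonal, ← Matrix.diagonal_one]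
  congr 1
  funext i
  by_cases h : i = o
  · rw [if_pos h, mul_one]
  · rw [if_neg h]
    ring

/-- The involution `diag(-1, …, -1, 1)` of `GL(ι, F)`. -/
def tGL : GL ι F :=
  ⟨Helper38.tmat o, Helper38.tmat o, tmat_sq o, tmat_sq o⟩

theorem tGL_val : ((tGL (F := F) o : GL ι F) : Matrix ι ι F) = Helper38.tmat o := rfl

theorem mem_centralizer_tGL_iff (h2 : (2 : F) ≠ 0) (g : GL ι F) :
    g ∈ Subgroup.centralizer ({tGL (F := F) o} : Set (GL ι F)) ↔
      Helper38.BD o (g : Matrix ι ι F) := by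
  rw [Subgroup.mem_centralizer_iff, ← Helper38.bd_iff_comm o h2]
  constructor
  · intro h
    have h' := congrArg (fun u : GL ι F => (u : Matrix ι ι F)) (h (tGL o) rfl)
    simp only [Units.val_mul, tGL_val] at h'
    exact h'
  · intro h x hx
    rw [Set.mem_singleton_iff] at hx
    subst hx
    apply Units.ext
    rw [Units.val_mul, Units.val_mul, tGL_val]
    exact h

theorem tGL_ne_one (h2 : (2 : F) ≠ 0) (i : ι) (hi : i ≠ o) : tGL (F := F) o ≠ 1 := by
  intro h
  have h' := congrArg (fun u : GL ι F => (u : Matrix ι ι F) i i) h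
  simp only [tGL_val, Helper38.tmat, Matrix.diagonal_apply_eq, if_neg hi, Units.val_one,
    Matrix.one_apply_eq] at h'
  apply h2
  linear_combination -h'

theorem orderOf_tGL (h2 : (2 : F) ≠ 0) (i : ι) (hi : i ≠ o) : orderOf (tGL (F := F) o) = 2 := by
  apply orderOf_eq_prime
  · apply Units.ext
    rw [pow_two, Units.val_mul, tGL_val, Units.val_one]
    exact tmat_sq o
  · exact tGL_ne_one o h2 i hi

theorem tGL_not_mem_center (h2 : (2 : F) ≠ 0) (i : ι) (hi : i ≠ o) :
    tGL (F := F) o ∉ Subgroup.center (GL ι F) := by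
  intro hc
  obtain ⟨g, hg⟩ : ∃ g : GL ι F, (g : Matrix ι ι F) = Matrix.transvection i o (1 : F) :=
    ⟨Matrix.GeneralLinearGroup.mkOfDetNeZero (Matrix.transvection i o (1 : F))
      (by rw [Matrix.det_transvection_of_ne i o hi]; exact one_ne_zero), rfl⟩
  have hmem : g ∈ Subgroup.centralizer ({tGL (F := F) o} : Set (GL ι F)) := by
    rw [Subgroup.mem_centralizer_iff]
    intro x hx
    rw [Set.mem_singleton_iff] at hx
    subst hx
    exact (Subgroup.mem_center_iff.1 hc g).symm
  have hbd := (mem_centralizer_tGL_iff o h2 g).1 hmem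
  have h0 := (hbd i hi).1
  rw [hg, Matrix.transvection, Matrix.add_apply, Matrix.one_apply_ne hi,
    Matrix.single_apply_same, zero_add] at h0
  exact one_ne_zero h0

/-- The embedded `SL(ι ∖ {o}, F)` inside `GL(ι, F)`. -/
def slBlock : Subgroup (GL ι F) :=
  (Helper38.embSL (F := F) o).range.map Matrix.SpecialLinearGroup.toGL

theorem mem_slBlock_iff (y : GL ι F) :
    y ∈ slBlock (F := F) o ↔
      Helper38.BD o (y : Matrix ι ι F) ∧ (y : Matrix ι ι F) o o = 1 ∧
        (y : Matrix ι ι F).det = 1 := by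
  constructor
  · rintro ⟨s, hs, rfl⟩
    have := (Helper38.mem_embSL_range_iff o s).1 hs
    exact ⟨this.1, this.2, s.2⟩
  · rintro ⟨hbd, h1, hdet⟩
    obtain ⟨s, hs⟩ : ∃ s : Matrix.SpecialLinearGroup ι F, s.1 = (y : Matrix ι ι F) :=
      ⟨⟨_, hdet⟩, rfl⟩
    refine ⟨s, (Helper38.mem_embSL_range_iff o s).2 ⟨by rw [hs]; exact hbd, by rw [hs]; exact h1⟩,
      ?_⟩
    apply Units.ext
    exact hs

theorem slBlock_le (h2 : (2 : F) ≠ 0) :
    slBlock (F := F) o ≤ Subgroup.centralizer ({tGL (F := F) o} : Set (GL ι F)) := by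
  intro y hy
  rw [mem_centralizer_tGL_iff o h2]
  exact ((mem_slBlock_iff o y).1 hy).1

theorem slBlock_normal (h2 : (2 : F) ≠ 0) :
    ((slBlock (F := F) o).subgroupOf
      (Subgroup.centralizer ({tGL (F := F) o} : Set (GL ι F)))).Normal := by
  constructor
  intro x hx c
  rw [Subgroup.mem_subgroupOf] at hx ⊢
  rw [mem_slBlock_iff] at hx ⊢
  obtain ⟨hbd, h1, hdet⟩ := hx
  have hc := (mem_centralizer_tGL_iff o h2 c.1).1 c.2
  have hcx := (mem_centralizer_tGL_iff o h2 (c * x).1).1 (c * x).2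
  have hcxc := (mem_centralizer_tGL_iff o h2 (c * x * c⁻¹).1).1 (c * x * c⁻¹).2
  have e : (((c * x * c⁻¹ : ↥(Subgroup.centralizer ({tGL (F := F) o} : Set (GL ι F)))) : GL ι F) :
      Matrix ι ι F) = ((c : GL ι F) : Matrix ι ι F) * ((x : GL ι F) : Matrix ι ι F) *
        (((c : GL ι F)⁻¹ : GL ι F) : Matrix ι ι F) := by
    rw [Subgroup.coe_mul, Subgroup.coe_mul, Subgroup.coe_inv, Units.val_mul, Units.val_mul]
  have e' : (((c * x : ↥(Subgroup.centralizer ({tGL (F := F) o} : Set (GL ι F)))) : GL ι F) :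
      Matrix ι ι F) = ((c : GL ι F) : Matrix ι ι F) * ((x : GL ι F) : Matrix ι ι F) := by
    rw [Subgroup.coe_mul, Units.val_mul]
  have hinv : ((c : GL ι F) : Matrix ι ι F) * (((c : GL ι F)⁻¹ : GL ι F) : Matrix ι ι F) = 1 := by
    rw [← Units.val_mul, mul_inv_cancel, Units.val_one]
  refine ⟨hcxc, ?_, ?_⟩
  · rw [e, Helper38.bd_mul_oo o _ _ (e' ▸ hcx), Helper38.bd_mul_oo o _ _ hc, h1, mul_one,
      ← Helper38.bd_mul_oo o _ _ hc, hinv, Matrix.one_apply_eq]
  · rw [e, Matrix.det_mul, Matrix.det_mul, hdet, mul_one, ← Matrix.det_mul, hinv, Matrix.det_one]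

theorem slBlock_quasisimple (h2 : (2 : F) ≠ 0)
    (hκ : Cfsg.IsQuasisimple (Matrix.SpecialLinearGroup {i : ι // i ≠ o} F)) :
    Cfsg.IsQuasisimple ↥((slBlock (F := F) o).subgroupOf
      (Subgroup.centralizer ({tGL (F := F) o} : Set (GL ι F)))) := by
  have e1 : Matrix.SpecialLinearGroup {i : ι // i ≠ o} F ≃* (Helper38.embSL (F := F) o).range :=
    MonoidHom.ofInjective (Helper38.embSL_injective o)
  have e2 : (Helper38.embSL (F := F) o).range ≃* slBlock (F := F) o :=
    Subgroup.equivMapOfInjective _ _ Matrix.SpecialLinearGroup.toGL_injective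
  have e3 : ↥((slBlock (F := F) o).subgroupOf
      (Subgroup.centralizer ({tGL (F := F) o} : Set (GL ι F)))) ≃* slBlock (F := F) o :=
    Subgroup.subgroupOfEquivOfLe (slBlock_le o h2)
  exact Helper29.isQuasisimple_of_mulEquiv (e1.trans (e2.trans e3.symm)) hκ

/-- The diagonal involution with `-1` at `i` and `j`. -/
def invD (i j : ι) : ι → F := fun k => (if k = i then -1 else 1) * (if k = j then -1 else 1)

theorem invD_mul_self (i j : ι) (k : ι) : invD (F := F) i j k * invD i j k = 1 := by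
  unfold invD
  split_ifs <;> ring

/-- The involution `diag(…, -1, …, -1, …)` of `GL(ι, F)`. -/
def invGL (i j : ι) : GL ι F :=
  ⟨Matrix.diagonal (invD i j), Matrix.diagonal (invD i j),
    by rw [Matrix.diagonal_mul_diagonal, ← Matrix.diagonal_one]; congr 1; funext k
       exact invD_mul_self i j k,
    by rw [Matrix.diagonal_mul_diagonal, ← Matrix.diagonal_one]; congr 1; funext k
       exact invD_mul_self i j k⟩

theorem invGL_val (i j : ι) :
    ((invGL (F := F) i j : GL ι F) : Matrix ι ι F) = Matrix.diagonal (invD i j) := rfl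

theorem invGL_mem (i j : ι) (hi : i ≠ o) (hj : j ≠ o) :
    invGL (F := F) i j ∈ slBlock (F := F) o := by
  rw [mem_slBlock_iff, invGL_val]
  refine ⟨?_, ?_, ?_⟩
  · intro k hk
    exact ⟨Matrix.diagonal_apply_ne _ hk, Matrix.diagonal_apply_ne _ (Ne.symm hk)⟩
  · rw [Matrix.diagonal_apply_eq, invD, if_neg (Ne.symm hi), if_neg (Ne.symm hj), mul_one]
  · rw [Matrix.det_diagonal]
    unfold invD
    rw [Finset.prod_mul_distrib, Finset.prod_ite_eq' Finset.univ i (fun _ => (-1 : F)),
      Finset.prod_ite_eq' Finset.univ j (fun _ => (-1 : F)), if_pos (Finset.mem_univ _),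
      if_pos (Finset.mem_univ _)]
    ring

theorem invGL_sq (i j : ι) : invGL (F := F) i j ^ 2 = 1 := by
  apply Units.ext
  rw [pow_two, Units.val_mul, invGL_val, Units.val_one, Matrix.diagonal_mul_diagonal,
    ← Matrix.diagonal_one]
  congr 1
  funext k
  exact invD_mul_self i j k

theorem invGL_ne_one (h2 : (2 : F) ≠ 0) (i j : ι) (hij : i ≠ j) : invGL (F := F) i j ≠ 1 := by
  intro h
  have h' := congrArg (fun u : GL ι F => (u : Matrix ι ι F) i i) h
  simp only [invGL_val, Matrix.diagonal_apply_eq, invD, if_true, if_neg hij, Units.val_one,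
    Matrix.one_apply_eq] at h'
  apply h2
  linear_combination -h'

/-- A surjection `SL(Fin 2, F) → SL(κ, F)` for a two-element index type. -/
def slReindex {κ : Type*} [Fintype κ] [DecidableEq κ] (e : κ ≃ Fin 2) :
    Matrix.SpecialLinearGroup (Fin 2) F →* Matrix.SpecialLinearGroup κ F where
  toFun A := ⟨A.1.submatrix e e, by rw [Matrix.det_submatrix_equiv_self]; exact A.2⟩
  map_one' := by
    apply Subtype.ext
    show (1 : Matrix (Fin 2) (Fin 2) F).submatrix e e = 1
    exact Matrix.submatrix_one_equiv e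
  map_mul' A B := by
    apply Subtype.ext
    show (A.1 * B.1).submatrix e e = A.1.submatrix e e * B.1.submatrix e e
    exact (Matrix.submatrix_mul_equiv A.1 B.1 e e e).symm

theorem slReindex_surjective {κ : Type*} [Fintype κ] [DecidableEq κ] (e : κ ≃ Fin 2) :
    Function.Surjective (slReindex (F := F) e) := by
  intro B
  refine ⟨⟨B.1.submatrix e.symm e.symm, by rw [Matrix.det_submatrix_equiv_self]; exact B.2⟩, ?_⟩
  apply Subtype.ext
  show (B.1.submatrix e.symm e.symm).submatrix e e = B.1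
  rw [Matrix.submatrix_submatrix]
  ext a b
  simp

theorem isQuasisimple_SL_of_card_two [Fintype F] {κ : Type*} [Fintype κ] [DecidableEq κ]
    (hκ : Fintype.card κ = 2) (hF : 4 ≤ Fintype.card F) :
    Cfsg.IsQuasisimple (Matrix.SpecialLinearGroup κ F) := by
  have e : κ ≃ Fin 2 := Fintype.equivFinOfCardEq hκ
  haveI : Nontrivial κ := Fintype.one_lt_card_iff_nontrivial.1 (by omega)
  haveI hp2 : Group.IsPerfect (Matrix.SpecialLinearGroup (Fin 2) F) :=
    ⟨sl2_perfect_of_card F hF⟩
  have hperf : Group.IsPerfect (Matrix.SpecialLinearGroup κ F) :=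
    Group.IsPerfect.ofSurjective (slReindex_surjective (F := F) e)
  exact ⟨hperf, Helper42.SLn.psl_isSimpleGroup_of_perfect hperf.commutator_eq_top⟩

/-- `GL(ι, F)` (`|ι| ≥ 3`, `F` finite of odd order, not `|ι| = 3 = |F|`) has the non-central
involution `tGL o` whose centralizer modulo its odd core has a component. -/
theorem gl_hasComponent [Fintype F] [DecidableEq F] (h2 : (2 : F) ≠ 0) (i j : ι) (hi : i ≠ o)
    (hj : j ≠ o) (hij : i ≠ j)
    (hκ : Cfsg.IsQuasisimple (Matrix.SpecialLinearGroup {i : ι // i ≠ o} F)) :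
    Cfsg.HasComponent (↥(Subgroup.centralizer ({tGL (F := F) o} : Set (GL ι F))) ⧸
      Cfsg.oddCore ↥(Subgroup.centralizer ({tGL (F := F) o} : Set (GL ι F)))) := by
  haveI := slBlock_normal (F := F) o h2
  have hq := slBlock_quasisimple (F := F) o h2 hκ
  have hmem : invGL (F := F) i j ∈ Subgroup.centralizer ({tGL (F := F) o} : Set (GL ι F)) :=
    slBlock_le o h2 (invGL_mem o i j hi hj)
  refine hasComponent_quot_oddCore _ hq ⟨invGL (F := F) i j, hmem⟩ ?_ ?_
  · rw [Subgroup.mem_subgroupOf]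
    exact invGL_mem o i j hi hj
  · apply orderOf_eq_prime
    · apply Subtype.ext
      rw [Subgroup.coe_pow, Subgroup.coe_one]
      exact invGL_sq i j
    · intro h
      exact invGL_ne_one h2 i j hij (congrArg Subtype.val h)

end GLComp

end Cfsg.Agent.Helper39
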