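import Mathlib

set_option autoImplicit false

open scoped commutatorElement

/-! CALL LM (helper21, S4067), piece ETO: for `p` odd, a non-central element of order `p` in a
group with `G' ≤ Z(G)`, `|G'| = p` gives a transvection automorphism. -/

namespace Cfsg.Agent.Helper39.LM

/-- Triangular numbers `T n = n (n - 1) / 2`. -/
def lmT : ℕ → ℕ
  | 0 => 0
  | (n + 1) => lmT n + n

theorem lmT_two (n : ℕ) : 2 * lmT n + n = n * n := by
  induction n with
  | zero => rfl
  | succ n ih => simp only [lmT]; nlinarith [ih]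

theorem lmT_add (i j : ℕ) : lmT (i + j) = lmT i + lmT j + i * j := by
  induction j with
  | zero => simp [lmT]
  | succ j ih => rw [← add_assoc]; simp only [lmT]; rw [ih]; ring

theorem lm_pow_modEq {G : Type*} [Monoid G] {y : G} {p m n : ℕ} (hy : y ^ p = 1)
    (h : m ≡ n [MOD p]) : y ^ m = y ^ n := by
  have h' : m % p = n % p := h
  calc y ^ m = y ^ (m % p + p * (m / p)) := by rw [Nat.mod_add_div]
    _ = y ^ (n % p + p * (n / p)) := by
      rw [pow_add, pow_add, pow_mul, pow_mul, hy, one_pow, one_pow, h']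
    _ = y ^ n := by rw [Nat.mod_add_div]

theorem lm_key {G : Type*} [Group G] (g h X Y A B C : G) (hA : ∀ y, A * y = y * A)
    (hC : ∀ y, C * y = y * C) (hXh : X * h = C * h * X) :
    g * h * (X * Y * (A * B * C)) = g * (X * A) * (h * (Y * B)) := by
  symm
  calc g * (X * A) * (h * (Y * B)) = g * X * (A * (h * Y * B)) := by simp only [mul_assoc]
    _ = g * X * ((h * Y * B) * A) := by rw [hA]
    _ = g * (X * h) * Y * B * A := by simp only [mul_assoc]
    _ = g * (C * h * X) * Y * B * A := by rw [hXh]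
    _ = g * (C * (h * X * Y * B * A)) := by simp only [mul_assoc]
    _ = g * ((h * X * Y * B * A) * C) := by rw [hC]
    _ = g * h * (X * Y * ((B * A) * C)) := by simp only [mul_assoc]
    _ = g * h * (X * Y * (A * B * C)) := by rw [← hA B]

/-- ETO: `p` odd, a non-central element of order `p` gives a transvection automorphism. -/
theorem lm_eto {G : Type*} [Group G] [Finite G] (hZ : commutator G ≤ Subgroup.center G)
    (hc : Nat.card (commutator G) = (Nat.card G).minFac) (hodd : (Nat.card G).minFac ≠ 2)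
    (x : G) (hxZ : x ∉ Subgroup.center G) (hxp : x ^ (Nat.card G).minFac = 1) :
    ∃ σ : MulAut G, ∃ M : Subgroup G, M.index = (Nat.card G).minFac ∧ Subgroup.center G ≤ M ∧
      ∀ g : G, g ∉ M → ¬ IsConj g (σ g) := by
  classical
  have hG1 : Nat.card G ≠ 1 := by
    intro h1
    haveI : Subsingleton G := (Nat.card_eq_one_iff_unique.mp h1).1
    exact hxZ (by rw [Subsingleton.elim x 1]; exact one_mem _)
  have hpp : (Nat.card G).minFac.Prime := Nat.minFac_prime hG1
  generalize hp : (Nat.card G).minFac = p at *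
  haveI : Fact p.Prime := ⟨hpp⟩
  -- commutators are central
  have hcomm : ∀ a b : G, ⁅a, b⁆ ∈ commutator G := fun a b => by
    rw [commutator_def]
    exact Subgroup.commutator_mem_commutator (Subgroup.mem_top a) (Subgroup.mem_top b)
  have hcen : ∀ a b y : G, ⁅a, b⁆ * y = y * ⁅a, b⁆ := fun a b y =>
    ((Subgroup.mem_center_iff.mp (hZ (hcomm a b))) y).symm
  -- the non-commuting partner
  obtain ⟨a, ha⟩ : ∃ a : G, a * x ≠ x * a := by
    by_contra hcon
    push Not at hcon
    exact hxZ (Subgroup.mem_center_iff.mpr hcon)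
  obtain ⟨w, hw⟩ : ∃ w : G, w = ⁅a, x⁆ := ⟨_, rfl⟩
  have hw1 : w ≠ 1 := fun h => ha (commutatorElement_eq_one_iff_mul_comm.mp (hw ▸ h))
  have hwG : w ∈ commutator G := hw ▸ hcomm a x
  have hwp : w ^ p = 1 := by
    have := pow_card_eq_one' (G := commutator G) (x := ⟨w, hwG⟩)
    rw [hc] at this
    simpa using congrArg Subtype.val this
  have hwo : orderOf w = p := orderOf_eq_prime hwp hw1
  have hgen : ∀ g : G, ∃ i : ℕ, w ^ i = ⁅g, x⁆ := by
    intro g
    have := mem_powers_of_prime_card (G := commutator G) hc (g := ⟨w, hwG⟩)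
      (g' := ⟨⁅g, x⁆, hcomm g x⟩) (by simpa [Subtype.ext_iff] using hw1)
    obtain ⟨i, hi⟩ := (Submonoid.mem_powers_iff _ _).mp this
    exact ⟨i, by simpa using congrArg Subtype.val hi⟩
  choose i hi using hgen
  obtain ⟨v, hv⟩ : ∃ v : G, v = w⁻¹ := ⟨_, rfl⟩
  have hvG : v ∈ commutator G := by rw [hv]; exact inv_mem hwG
  have hvc : ∀ (n : ℕ) (y : G), v ^ n * y = y * v ^ n := by
    intro n y
    exact ((Subgroup.mem_center_iff.mp (hZ (pow_mem hvG n))) y).symm
  have hvp : v ^ p = 1 := by rw [hv, inv_pow, hwp, inv_one]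
  -- modular lemmas
  have hTmod : ∀ m n : ℕ, m ≡ n [MOD p] → lmT m ≡ lmT n [MOD p] := by
    intro m n hmn
    have h2 : (2 : ZMod p) ≠ 0 := by
      intro h
      have h' : ((2 : ℕ) : ZMod p) = 0 := by exact_mod_cast h
      rw [ZMod.natCast_eq_zero_iff] at h'
      exact hodd ((Nat.prime_dvd_prime_iff_eq hpp Nat.prime_two).mp h')
    have hA : (2 : ZMod p) * (lmT m : ZMod p) + (m : ZMod p) = (m : ZMod p) * m := by
      exact_mod_cast congrArg (Nat.cast : ℕ → ZMod p) (lmT_two m)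
    have hB : (2 : ZMod p) * (lmT n : ZMod p) + (n : ZMod p) = (n : ZMod p) * n := by
      exact_mod_cast congrArg (Nat.cast : ℕ → ZMod p) (lmT_two n)
    have hab : (m : ZMod p) = n := (ZMod.natCast_eq_natCast_iff m n p).mpr hmn
    have h3 : (2 : ZMod p) * ((lmT m : ZMod p) - lmT n) = 0 := by
      linear_combination hA - hB + ((m : ZMod p) + n - 1) * hab
    have h4 : (lmT m : ZMod p) - lmT n = 0 := by
      rcases mul_eq_zero.mp h3 with h | h
      · exact absurd h h2
      · exact h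
    exact (ZMod.natCast_eq_natCast_iff _ _ p).mp (sub_eq_zero.mp h4)
  have hind : ∀ m n : ℕ, m ≡ n [MOD p] → x ^ m * v ^ lmT m = x ^ n * v ^ lmT n := by
    intro m n hmn
    rw [lm_pow_modEq hxp hmn, lm_pow_modEq hvp (hTmod m n hmn)]
  -- the commutator hom
  have hmul : ∀ g h : G, ⁅g * h, x⁆ = ⁅g, x⁆ * ⁅h, x⁆ := by
    intro g h
    calc ⁅g * h, x⁆ = g * ⁅h, x⁆ * (x * g⁻¹ * x⁻¹) := by
          simp only [commutatorElement_def]; group
      _ = ⁅h, x⁆ * g * (x * g⁻¹ * x⁻¹) := by rw [← hcen h x g]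
      _ = ⁅h, x⁆ * ⁅g, x⁆ := by simp only [commutatorElement_def]; group
      _ = ⁅g, x⁆ * ⁅h, x⁆ := hcen h x _
  obtain ⟨φ, hφ⟩ : ∃ φ : G →* G, ∀ g, φ g = ⁅g, x⁆ :=
    ⟨MonoidHom.mk' (fun g => ⁅g, x⁆) hmul, fun _ => rfl⟩
  have hφr : φ.range ≤ commutator G := by
    rintro _ ⟨g, rfl⟩
    rw [hφ]
    exact hcomm g x
  have hidx : φ.ker.index = p := by
    rw [Subgroup.index_ker]
    have hdvd : Nat.card φ.range ∣ p := hc ▸ Subgroup.card_dvd_of_le hφr
    rcases (Nat.dvd_prime hpp).mp hdvd with h1 | h1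
    · exfalso
      have hb : φ.range = ⊥ := Subgroup.card_eq_one.mp h1
      have hwr : w ∈ φ.range := ⟨a, by rw [hφ, hw]⟩
      rw [hb, Subgroup.mem_bot] at hwr
      exact hw1 hwr
    · exact h1
  have hZM : Subgroup.center G ≤ φ.ker := by
    intro z hz
    rw [MonoidHom.mem_ker, hφ, commutatorElement_eq_one_iff_mul_comm]
    exact ((Subgroup.mem_center_iff.mp hz) x).symm
  -- the twisted commutation rule
  have hB0 : ∀ h : G, x * h = v ^ i h * h * x := by
    intro h
    have h1 : v ^ i h = (⁅h, x⁆)⁻¹ := by rw [hv, inv_pow, hi]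
    rw [h1, commutatorElement_def]; group
  have hBn : ∀ (h : G) (n : ℕ), x ^ n * h = v ^ (n * i h) * h * x ^ n := by
    intro h n
    induction n with
    | zero => simp
    | succ n ih =>
      calc x ^ (n + 1) * h = x ^ n * (x * h) := by rw [pow_succ, mul_assoc]
        _ = x ^ n * (v ^ i h * h * x) := by rw [hB0]
        _ = (x ^ n * v ^ i h) * h * x := by simp only [mul_assoc]
        _ = (v ^ i h * x ^ n) * h * x := by rw [hvc]
        _ = v ^ i h * (x ^ n * h) * x := by simp only [mul_assoc]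
        _ = v ^ i h * (v ^ (n * i h) * h * x ^ n) * x := by rw [ih]
        _ = v ^ ((n + 1) * i h) * h * x ^ (n + 1) := by
          rw [show (n + 1) * i h = i h + n * i h by ring, pow_add, pow_succ]
          simp only [mul_assoc]
  -- the automorphism
  obtain ⟨f, hf⟩ : ∃ f : G → G, ∀ g, f g = g * (x ^ i g * v ^ lmT (i g)) := ⟨_, fun _ => rfl⟩
  have hik : ∀ g h : G, i (g * h) ≡ i g + i h [MOD p] := by
    intro g h
    have h1 : w ^ i (g * h) = w ^ (i g + i h) := by rw [hi, hmul, pow_add, hi, hi]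
    rw [← hwo]
    exact pow_eq_pow_iff_modEq.mp h1
  have hfmul : ∀ g h : G, f (g * h) = f g * f h := by
    intro g h
    rw [hf, hf, hf, hind _ _ (hik g h), lmT_add, pow_add, pow_add, pow_add]
    exact lm_key g h (x ^ i g) (x ^ i h) (v ^ lmT (i g)) (v ^ lmT (i h)) (v ^ (i g * i h))
      (hvc _) (hvc _) (hBn h (i g))
  have hfM : ∀ g : G, ⁅g, x⁆ = 1 → f g = g := by
    intro g hg
    have h0 : i g ≡ 0 [MOD p] := by
      have h1 : w ^ i g = w ^ 0 := by rw [hi, hg, pow_zero]
      rw [← hwo]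
      exact pow_eq_pow_iff_modEq.mp h1
    rw [hf, hind _ _ h0]
    simp [lmT]
  have hker : ∀ g : G, f g = 1 → g = 1 := by
    intro g hg
    have hg' : g = (x ^ i g * v ^ lmT (i g))⁻¹ := by
      rw [hf] at hg
      exact eq_inv_of_mul_eq_one_left hg
    have hcx : Commute x (x ^ i g * v ^ lmT (i g)) :=
      Commute.mul_right ((Commute.refl x).pow_right _) (hvc _ x).symm
    have hcg : Commute x g := by rw [hg']; exact hcx.inv_right
    have h1 : ⁅g, x⁆ = 1 := commutatorElement_eq_one_iff_mul_comm.mpr hcg.eq.symm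
    rw [← hfM g h1]
    exact hg
  obtain ⟨F, hF⟩ : ∃ F : G →* G, ∀ g, F g = f g := ⟨MonoidHom.mk' f hfmul, fun _ => rfl⟩
  have hFinj : Function.Injective F :=
    (injective_iff_map_eq_one F).mpr (fun g hg => hker g (by rw [← hF]; exact hg))
  have hFbij : Function.Bijective F := ⟨hFinj, Finite.injective_iff_surjective.mp hFinj⟩
  refine ⟨MulEquiv.ofBijective F hFbij, φ.ker, hidx, hZM, ?_⟩
  intro g hgM hconj
  rw [MonoidHom.mem_ker, hφ] at hgM
  obtain ⟨c, hc'⟩ := isConj_iff.mp hconj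
  have hσ : (MulEquiv.ofBijective F hFbij) g = g * (x ^ i g * v ^ lmT (i g)) := by
    rw [← hf, ← hF]; rfl
  rw [hσ] at hc'
  have hxi : x ^ i g = ⁅g⁻¹, c⁆ * (v ^ lmT (i g))⁻¹ := by
    have h1 : x ^ i g * v ^ lmT (i g) = g⁻¹ * (c * g * c⁻¹) := by rw [hc']; group
    rw [commutatorElement_def, inv_inv, eq_mul_inv_iff_mul_eq, h1]; group
  have hxiZ : x ^ i g ∈ Subgroup.center G := by
    rw [hxi]
    exact mul_mem (hZ (hcomm _ _)) (hZ (inv_mem (pow_mem hvG _)))
  have hxa : a * x ^ i g = x ^ i g * a := (Subgroup.mem_center_iff.mp hxiZ) a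
  have h1 : v ^ (i g * i a) = 1 := by
    have h2 := hBn a (i g)
    rw [← hxa, mul_assoc] at h2
    exact mul_eq_right.mp h2.symm
  have h3 : v ^ (i g * i a) = (⁅g, x⁆)⁻¹ := by
    rw [hv, inv_pow, mul_comm, pow_mul, hi a, ← hw, hi g]
  rw [h3, inv_eq_one] at h1
  exact hgM h1

end Cfsg.Agent.Helper39.LM
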