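import Mathlib
import Cfsg.Agent.Lead.LWDefs
import Cfsg.Agent.Helper12.LWC1
import Cfsg.Agent.Helper37.LWC2

set_option autoImplicit false
set_option linter.unusedSectionVars false

namespace Cfsg.Agent.Helper39.LWC3

open Cfsg.Agent.Lead.LW
open Cfsg.Agent.Helper12.LWC1
open Cfsg.Agent.Helper37.LWC2

variable {α : Type*} [Fintype α] [DecidableEq α]

/-- a subgroup of `G` fixing `S` pointwise lies in `pstab G S` -/
theorem le_pstab_of_fix (G Q : Subgroup (Equiv.Perm α)) (hQG : Q ≤ G) (S : Finset α)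
    (hS : S ⊆ fixF Q) : Q ≤ pstab G S := by
  intro g hg
  exact ⟨hQG hg, fun a ha => (mem_fixF.1 (hS ha)) g hg⟩

-- PIECE C3  (assembly: C1 C2 + maximality)
theorem invol_on_fix (G : Subgroup (Equiv.Perm α)) (k : ℕ) (hG : KTrans G k) (Γ : Finset α)
    (hΓ : Γ.card = k) (P : Subgroup (Equiv.Perm α)) (hP : P ≤ pstab G Γ)
    (hcard : Nat.card P = 2 ^ (Nat.card (pstab G Γ)).factorization 2)
    (hnofix : ∀ δ, δ ∉ Γ → ∃ g ∈ P, g δ ≠ δ)
    (Q : Subgroup (Equiv.Perm α)) (hQ : MaxQ G k Q)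
    (Γ' : Finset α) (hΓ' : Γ'.card = k) (hsub : Γ' ⊆ fixF Q) :
    ∃ x ∈ nrm G Q, x * x ∈ Q ∧ (∀ a ∈ Γ', x a = a) ∧ ∀ a ∈ fixF Q, a ∉ Γ' → x a ≠ a := by
  obtain ⟨hQ2, ⟨Δ₀, hΔ₀, hQΔ₀⟩, hmax⟩ := hQ
  have hQG : Q ≤ G := fun g hg => (hQΔ₀ hg).1
  have hΔ₀fix : Δ₀ ⊆ fixF Q := by
    intro a ha
    rw [mem_fixF]
    intro g hg
    exact (hQΔ₀ hg).2 a ha
  have hQL : Q ≤ pstab G Γ' := le_pstab_of_fix G Q hQG Γ' hsub
  -- `Q` is not a Sylow 2-subgroup of `pstab G Γ'`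
  have hns : Nat.card Q ≠ 2 ^ (Nat.card (pstab G Γ')).factorization 2 := by
    intro hc
    have hmoves := syl_moves G k hG Γ hΓ P hP hcard hnofix Γ' hΓ' Q hQL hc
    -- a point of `Δ₀` outside `Γ'`
    have hex : ∃ a ∈ Δ₀, a ∉ Γ' := by
      by_contra hcon
      push Not at hcon
      have := Finset.card_le_card (show Δ₀ ⊆ Γ' from hcon)
      omega
    obtain ⟨a, haΔ, haΓ⟩ := hex
    obtain ⟨g, hg, hga⟩ := hmoves a haΓ
    exact hga ((mem_fixF.1 (hΔ₀fix haΔ)) g hg)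
  obtain ⟨x, hxL, hxQ, hxx, hxn, hx2⟩ := exists_normalizing (pstab G Γ') Q hQL hQ2 hns
  refine ⟨x, mem_nrm.2 ⟨hxL.1, hxn⟩, hxx, hxL.2, ?_⟩
  intro a haQ haΓ hxa
  apply hxQ
  -- `Q ⊔ zpowers x` fixes the `(k+1)`-set `insert a Γ'`
  have hcard' : (insert a Γ').card = k + 1 := by
    rw [Finset.card_insert_of_notMem haΓ, hΓ']
  have hle : Q ⊔ Subgroup.zpowers x ≤ pstab G (insert a Γ') := by
    refine sup_le ?_ ?_
    · refine le_pstab_of_fix G Q hQG _ ?_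
      intro b hb
      rcases Finset.mem_insert.1 hb with rfl | hbΓ
      · exact haQ
      · exact hsub hbΓ
    · rw [Subgroup.zpowers_le]
      refine ⟨hxL.1, fun b hb => ?_⟩
      rcases Finset.mem_insert.1 hb with rfl | hbΓ
      · exact hxa
      · exact hxL.2 b hbΓ
  have hcle := hmax (insert a Γ') (Q ⊔ Subgroup.zpowers x) hcard' hle hx2
  have heq : Q = Q ⊔ Subgroup.zpowers x := Subgroup.eq_of_le_of_card_ge le_sup_left hcle
  rw [heq]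
  exact (le_sup_right : Subgroup.zpowers x ≤ Q ⊔ Subgroup.zpowers x) (Subgroup.mem_zpowers x)

end Cfsg.Agent.Helper39.LWC3
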