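import Mathlib
import Cfsg.Prelude.Def_Characters
import Cfsg.Prelude.Def_Blocks
import Cfsg.Agent.Helper75.LatDefs
import Cfsg.Agent.Helper80.CharIrr

set_option autoImplicit false

open Cfsg Matrix

universe u

namespace Cfsg.Agent.Helper39

section Lattice

variable {G : Type u} [Group G] [Fintype G]

/-- left translation on integer functions -/
def latL (g : G) : (G → ℤ) →ₗ[ℤ] (G → ℤ) where
  toFun a := fun h => a (g⁻¹ * h)
  map_add' _ _ := rfl
  map_smul' _ _ := rfl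

theorem latL_apply (g : G) (a : G → ℤ) (h : G) : latL g a h = a (g⁻¹ * h) := rfl

theorem latL_mul (g₁ g₂ : G) : latL (g₁ * g₂) = latL g₁ ∘ₗ latL g₂ := by
  ext a h
  simp only [LinearMap.comp_apply, latL_apply, _root_.mul_inv_rev, mul_assoc]

theorem latL_one : latL (1 : G) = LinearMap.id := by
  ext a h
  simp only [latL_apply, inv_one, one_mul, LinearMap.id_apply]

/-- right convolution with `e` -/
def latR (e : G → ℤ) : (G → ℤ) →ₗ[ℤ] (G → ℤ) where
  toFun a := fun h => ∑ u : G, a u * e (u⁻¹ * h)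
  map_add' a b := by
    ext h
    simp only [Pi.add_apply, add_mul, Finset.sum_add_distrib]
  map_smul' c a := by
    ext h
    simp only [Pi.smul_apply, smul_eq_mul, RingHom.id_apply, Finset.mul_sum, mul_assoc]

theorem latR_apply (e : G → ℤ) (a : G → ℤ) (h : G) :
    latR e a h = ∑ u : G, a u * e (u⁻¹ * h) := rfl

theorem latL_latR (e : G → ℤ) (g : G) (a : G → ℤ) : latL g (latR e a) = latR e (latL g a) := by
  ext h
  simp only [latL_apply, latR_apply]
  rw [← Equiv.sum_comp (Equiv.mulLeft g⁻¹)]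
  refine Finset.sum_congr rfl (fun u _ => ?_)
  simp only [Equiv.coe_mulLeft, _root_.mul_inv_rev, inv_inv, mul_assoc, mul_inv_cancel_left]

theorem latR_latR (e : G → ℤ)
    (he : ∀ h, ∑ u, e u * e (u⁻¹ * h) = (Fintype.card G : ℤ) * e h) (a : G → ℤ) :
    latR e (latR e a) = (Fintype.card G : ℤ) • latR e a := by
  ext h
  simp only [latR_apply, Pi.smul_apply, smul_eq_mul]
  simp_rw [Finset.sum_mul, Finset.mul_sum]
  rw [Finset.sum_comm]
  refine Finset.sum_congr rfl (fun u _ => ?_)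
  have h1 := he (u⁻¹ * h)
  rw [← Equiv.sum_comp (Equiv.mulLeft u⁻¹)] at h1
  simp only [Equiv.coe_mulLeft, _root_.mul_inv_rev, inv_inv, mul_assoc, mul_inv_cancel_left] at h1
  calc ∑ v : G, a u * e (u⁻¹ * v) * e (v⁻¹ * h)
      = a u * ∑ v : G, e (u⁻¹ * v) * e (v⁻¹ * h) := by
        rw [Finset.mul_sum]
        refine Finset.sum_congr rfl (fun v _ => ?_)
        ring
    _ = (Fintype.card G : ℤ) * (a u * e (u⁻¹ * h)) := by
        rw [h1]
        ring

theorem lat_exists_aux (e : G → ℤ) (hcl : ∀ g h : G, e (h * g * h⁻¹) = e g)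
    (he : ∀ h, ∑ u, e u * e (u⁻¹ * h) = (Fintype.card G : ℤ) * e h) :
    ∃ (N : ℕ) (ρ : G →* Matrix (Fin N) (Fin N) ℤ), N ≤ Nat.card G ∧
      ∀ g : G, (ρ g).trace = e g⁻¹ := by
  classical
  have hLY : ∀ g : G, ∀ y ∈ LinearMap.range (latR e), latL g y ∈ LinearMap.range (latR e) := by
    rintro g _ ⟨a, rfl⟩
    exact ⟨latL g a, (latL_latR e g a).symm⟩
  have hRY : ∀ y ∈ LinearMap.range (latR e), latR e y = (Fintype.card G : ℤ) • y := by
    rintro _ ⟨a, rfl⟩
    exact latR_latR e he a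
  obtain ⟨N, b⟩ := Submodule.basisOfPid (Pi.basisFun ℤ G) (LinearMap.range (latR e))
  let ρ : G →* Matrix (Fin N) (Fin N) ℤ :=
    { toFun := fun g => LinearMap.toMatrix b b ((latL g).restrict (hLY g))
      map_one' := by
        have : (latL (1 : G)).restrict (hLY 1) = LinearMap.id := by
          ext y
          simp only [LinearMap.coe_restrict_apply, latL_one, LinearMap.id_apply]
        rw [this, LinearMap.toMatrix_id]
      map_mul' := fun g₁ g₂ => by
        rw [← LinearMap.toMatrix_comp b b b]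
        congr 1
        ext y
        simp only [LinearMap.coe_restrict_apply, LinearMap.comp_apply, latL_mul] }
  refine ⟨N, ρ, ?_, ?_⟩
  · have hli : LinearIndependent ℤ ((LinearMap.range (latR e)).subtype ∘ b) :=
      b.linearIndependent.map' _ (Submodule.ker_subtype _)
    have := hli.fintype_card_le_finrank
    rw [Module.finrank_pi, Fintype.card_fin] at this
    rw [Nat.card_eq_fintype_card]
    exact this
  · intro g
    change (LinearMap.toMatrix b b ((latL g).restrict (hLY g))).trace = e g⁻¹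
    rw [← LinearMap.trace_eq_matrix_trace ℤ b]
    have h1 : ∀ x, (latL g ∘ₗ latR e) x ∈ LinearMap.range (latR e) :=
      fun x => hLY g _ ⟨x, rfl⟩
    have h2 := LinearMap.trace_restrict_eq_of_forall_mem (LinearMap.range (latR e))
      (latL g ∘ₗ latR e) h1
    have h3 : (latL g ∘ₗ latR e).restrict (fun x _ => h1 x) =
        (Fintype.card G : ℤ) • (latL g).restrict (hLY g) := by
      ext y
      simp only [LinearMap.coe_restrict_apply, LinearMap.comp_apply, LinearMap.smul_apply,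
        Submodule.coe_smul, hRY y y.2, map_smul]
    rw [h3, map_smul] at h2
    have h4 : LinearMap.trace ℤ (G → ℤ) (latL g ∘ₗ latR e) = (Fintype.card G : ℤ) * e g⁻¹ := by
      rw [LinearMap.trace_eq_matrix_trace ℤ (Pi.basisFun ℤ G), Matrix.trace]
      simp only [Matrix.diag_apply, LinearMap.toMatrix_apply, Pi.basisFun_apply,
        Pi.basisFun_repr, LinearMap.comp_apply, latL_apply, latR_apply]
      have : ∀ h : G, ∑ u : G, (Pi.single h (1 : ℤ) : G → ℤ) u * e (u⁻¹ * (g⁻¹ * h)) = e g⁻¹ := by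
        intro h
        rw [Finset.sum_eq_single h]
        · rw [Pi.single_eq_same, one_mul]
          have := hcl g⁻¹ h⁻¹
          rw [inv_inv] at this
          rw [← this]
          congr 1
          group
        · intro u _ hu
          rw [Pi.single_eq_of_ne hu, zero_mul]
        · intro hh
          exact absurd (Finset.mem_univ h) hh
      simp only [this, Finset.sum_const, Finset.card_univ, nsmul_eq_mul]
    rw [h4, smul_eq_mul] at h2
    have hc : (Fintype.card G : ℤ) ≠ 0 := by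
      exact_mod_cast Fintype.card_ne_zero
    exact mul_left_cancel₀ hc h2

end Lattice

theorem lat_exists {G : Type u} [Group G] [Fintype G] (𝒪 : Finset (Cfsg.IrrCharacter G))
    (hint : ∀ g : G, ∃ n : ℤ, ∑ χ ∈ 𝒪, (χ : G → ℂ) 1 * (χ : G → ℂ) g = (n : ℂ)) :
    ∃ (N : ℕ) (ρ : G →* Matrix (Fin N) (Fin N) ℤ), N ≤ Nat.card G ∧
      ∀ g : G, (((ρ g).trace : ℤ) : ℂ) = ∑ χ ∈ 𝒪, (χ : G → ℂ) 1 * (χ : G → ℂ) g := by
  classical
  choose n hn using hint
  set e : G → ℤ := fun u => n u⁻¹ with he_def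
  have hecast : ∀ u : G, ((e u : ℤ) : ℂ) = ∑ χ ∈ 𝒪, (χ : G → ℂ) 1 * (χ : G → ℂ) u⁻¹ :=
    fun u => (hn u⁻¹).symm
  have hchar : ∀ χ : Cfsg.IrrCharacter G, IsCharacter G (χ : G → ℂ) :=
    fun χ => Cfsg.Agent.Helper80.isCharacter_of_irr χ.2
  have hcl : ∀ g h : G, e (h * g * h⁻¹) = e g := by
    intro g h
    have : ((e (h * g * h⁻¹) : ℤ) : ℂ) = ((e g : ℤ) : ℂ) := by
      rw [hecast, hecast]
      refine Finset.sum_congr rfl (fun χ _ => ?_)
      congr 1
      have h1 : (h * g * h⁻¹)⁻¹ = h * g⁻¹ * h⁻¹ := by group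
      rw [h1]
      exact Cfsg.Agent.Helper80.isCharacter_conj (hchar χ) g⁻¹ h
    exact_mod_cast this
  have he : ∀ h, ∑ u, e u * e (u⁻¹ * h) = (Fintype.card G : ℤ) * e h := by
    intro h
    have : ((∑ u, e u * e (u⁻¹ * h) : ℤ) : ℂ) = (((Fintype.card G : ℤ) * e h : ℤ) : ℂ) := by
      push_cast
      simp only [hecast]
      -- expand the double sum
      have key : ∀ χ ∈ 𝒪, ∀ θ ∈ 𝒪,
          ∑ u : G, ((χ : G → ℂ) 1 * (χ : G → ℂ) u⁻¹) * ((θ : G → ℂ) 1 * (θ : G → ℂ) (u⁻¹ * h)⁻¹)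
          = if χ = θ then (Fintype.card G : ℂ) * ((χ : G → ℂ) 1 * (χ : G → ℂ) h⁻¹) else 0 := by
        intro χ _ θ _
        have h1 := Cfsg.Agent.Helper80.irr_conv χ θ h⁻¹
        have h2 : ∀ u : G, ((χ : G → ℂ) 1 * (χ : G → ℂ) u⁻¹) *
            ((θ : G → ℂ) 1 * (θ : G → ℂ) (u⁻¹ * h)⁻¹)
            = (χ : G → ℂ) 1 * (θ : G → ℂ) 1 * ((χ : G → ℂ) u⁻¹ * (θ : G → ℂ) (u * h⁻¹)) := by
          intro u
          have h3 : (u⁻¹ * h)⁻¹ = h⁻¹ * u := by group
          rw [h3, Cfsg.Agent.Helper80.isCharacter_mul_comm (hchar θ) u h⁻¹]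
          ring
        simp only [h2]
        rw [← Finset.mul_sum, h1]
        by_cases hχθ : χ = θ
        · subst hχθ
          rw [if_pos rfl, if_pos rfl]
          have hne := Cfsg.Agent.Helper80.irr_one_ne_zero χ
          field_simp
        · rw [if_neg hχθ, if_neg hχθ, mul_zero]
      calc ∑ u : G, (∑ χ ∈ 𝒪, (χ : G → ℂ) 1 * (χ : G → ℂ) u⁻¹) *
            (∑ θ ∈ 𝒪, (θ : G → ℂ) 1 * (θ : G → ℂ) (u⁻¹ * h)⁻¹)
          = ∑ χ ∈ 𝒪, ∑ θ ∈ 𝒪, ∑ u : G, ((χ : G → ℂ) 1 * (χ : G → ℂ) u⁻¹) *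
              ((θ : G → ℂ) 1 * (θ : G → ℂ) (u⁻¹ * h)⁻¹) := by
            simp_rw [Finset.sum_mul_sum]
            rw [Finset.sum_comm]
            refine Finset.sum_congr rfl (fun χ _ => ?_)
            rw [Finset.sum_comm]
        _ = ∑ χ ∈ 𝒪, ∑ θ ∈ 𝒪,
              (if χ = θ then (Fintype.card G : ℂ) * ((χ : G → ℂ) 1 * (χ : G → ℂ) h⁻¹) else 0) := by
            refine Finset.sum_congr rfl (fun χ hχ => ?_)
            refine Finset.sum_congr rfl (fun θ hθ => ?_)
            exact key χ hχ θ hθ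
        _ = ∑ χ ∈ 𝒪, (Fintype.card G : ℂ) * ((χ : G → ℂ) 1 * (χ : G → ℂ) h⁻¹) := by
            refine Finset.sum_congr rfl (fun χ hχ => ?_)
            rw [Finset.sum_ite_eq 𝒪 χ, if_pos hχ]
        _ = (Fintype.card G : ℂ) * ∑ χ ∈ 𝒪, (χ : G → ℂ) 1 * (χ : G → ℂ) h⁻¹ := by
            rw [Finset.mul_sum]
    exact_mod_cast this
  obtain ⟨N, ρ, hN, hρ⟩ := lat_exists_aux e hcl he
  refine ⟨N, ρ, hN, fun g => ?_⟩
  rw [hρ g, hecast, inv_inv]

end Cfsg.Agent.Helper39
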