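import Mathlib
import Cfsg.Agent.Helper5.Redundant

set_option autoImplicit false

/-!
# Weighted shift ("monomial") matrices indexed by `ZMod p` and the monomial `p`-subgroup of `GL_p`
-/

namespace Cfsg.Agent.Helper39.GLp

open Matrix

section basic

variable {F : Type*} [Field F] {p : ℕ} [Fact p.Prime]

/-- The weighted shift matrix: entry `(i, i + j)` is `d i`, all other entries vanish. -/
def mon (d : ZMod p → F) (j : ZMod p) : Matrix (ZMod p) (ZMod p) F :=
  fun i l => if i + j = l then d i else 0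

theorem mon_apply (d : ZMod p → F) (j i l : ZMod p) :
    mon d j i l = if i + j = l then d i else 0 := rfl

theorem mon_mul_apply (e : ZMod p → F) (m : ZMod p) (M : Matrix (ZMod p) (ZMod p) F)
    (i l : ZMod p) : (mon e m * M) i l = e i * M (i + m) l := by
  rw [Matrix.mul_apply, Finset.sum_eq_single (i + m)]
  · rw [mon_apply, if_pos rfl]
  · intro b _ hb
    rw [mon_apply, if_neg (fun h => hb h.symm), zero_mul]
  · intro h; exact absurd (Finset.mem_univ _) h

theorem mul_mon_apply (M : Matrix (ZMod p) (ZMod p) F) (e : ZMod p → F) (m : ZMod p)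
    (i l : ZMod p) : (M * mon e m) i l = M i (l - m) * e (l - m) := by
  rw [Matrix.mul_apply, Finset.sum_eq_single (l - m)]
  · rw [mon_apply, if_pos (sub_add_cancel l m)]
  · intro b _ hb
    rw [mon_apply, if_neg (fun h => hb (eq_sub_of_add_eq h)), mul_zero]
  · intro h; exact absurd (Finset.mem_univ _) h

theorem mon_mul (d d' : ZMod p → F) (j k : ZMod p) :
    mon d j * mon d' k = mon (fun i => d i * d' (i + j)) (j + k) := by
  ext i l
  rw [mon_mul_apply, mon_apply, mon_apply, add_assoc]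
  split_ifs <;> simp

theorem mon_one : mon (fun _ => (1 : F)) (0 : ZMod p) = 1 := by
  ext i l
  rw [mon_apply, Matrix.one_apply, add_zero]

theorem mon_inj {d d' : ZMod p → F} {j k : ZMod p} (hd : ∀ i, d i ≠ 0)
    (h : mon d j = mon d' k) : j = k ∧ d = d' := by
  have key : ∀ i, i + k = i + j ∧ d' i = d i := by
    intro i
    have h1 := congrFun (congrFun h i) (i + j)
    rw [mon_apply, if_pos rfl, mon_apply] at h1
    by_cases hk : i + k = i + j
    · rw [if_pos hk] at h1; exact ⟨hk, h1.symm⟩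
    · rw [if_neg hk] at h1; exact absurd h1 (hd i)
  exact ⟨(add_left_cancel (key 0).1).symm, funext fun i => (key i).2.symm⟩

/-- The invertible weighted shift. -/
def monGL (d : ZMod p → F) (hd : ∀ i, d i ≠ 0) (j : ZMod p) : GL (ZMod p) F :=
  ⟨mon d j, mon (fun i => (d (i - j))⁻¹) (-j), by
    rw [mon_mul]
    have : (fun i => d i * (d (i + j - j))⁻¹) = fun _ => (1 : F) := by
      funext i; rw [add_sub_cancel_right, mul_inv_cancel₀ (hd i)]
    rw [this, add_neg_cancel, mon_one], by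
    rw [mon_mul]
    have : (fun i => (d (i - j))⁻¹ * d (i + -j)) = fun _ => (1 : F) := by
      funext i; rw [← sub_eq_add_neg, inv_mul_cancel₀ (hd _)]
    rw [this, neg_add_cancel, mon_one]⟩

theorem monGL_val (d : ZMod p → F) (hd : ∀ i, d i ≠ 0) (j : ZMod p) :
    ((monGL d hd j : GL (ZMod p) F) : Matrix (ZMod p) (ZMod p) F) = mon d j := rfl

theorem ne_zero_of_pow_eq_one {a : F} (h : a ^ p = 1) : a ≠ 0 := by
  rintro rfl
  rw [zero_pow (Fact.out : p.Prime).ne_zero] at h
  exact zero_ne_one h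

variable (F p) in
/-- The monomial `p`-subgroup `μ_p ≀ C_p` of `GL_p(F)`. -/
def monSub : Subgroup (GL (ZMod p) F) where
  carrier := {g | ∃ d j, (∀ i, d i ^ p = 1) ∧ (g : Matrix (ZMod p) (ZMod p) F) = mon d j}
  mul_mem' := by
    rintro a b ⟨d, j, hd, ha⟩ ⟨d', k, hd', hb⟩
    exact ⟨fun i => d i * d' (i + j), j + k, fun i => by rw [mul_pow, hd, hd', one_mul],
      by rw [Units.val_mul, ha, hb, mon_mul]⟩
  one_mem' := ⟨fun _ => 1, 0, fun _ => one_pow _, by rw [Units.val_one, mon_one]⟩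
  inv_mem' := by
    rintro a ⟨d, j, hd, ha⟩
    have hd0 : ∀ i, d i ≠ 0 := fun i => ne_zero_of_pow_eq_one (hd i)
    refine ⟨fun i => (d (i - j))⁻¹, -j, fun i => by rw [inv_pow, hd, inv_one], ?_⟩
    have : a = monGL d hd0 j := Units.ext ha
    rw [this]; rfl

theorem mem_monSub_iff (g : GL (ZMod p) F) :
    g ∈ monSub F p ↔ ∃ d j, (∀ i, d i ^ p = 1) ∧ (g : Matrix (ZMod p) (ZMod p) F) = mon d j :=
  Iff.rfl

theorem monGL_mem (d : ZMod p → F) (hd : ∀ i, d i ^ p = 1) (j : ZMod p) :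
    monGL d (fun i => ne_zero_of_pow_eq_one (hd i)) j ∈ monSub F p :=
  ⟨d, j, hd, rfl⟩

theorem card_roots [Finite F] {ω : F} (hω : IsPrimitiveRoot ω p) :
    Nat.card {a : F // a ^ p = 1} = p := by
  classical
  have := Fintype.ofFinite F
  rw [Nat.card_eq_fintype_card, Fintype.card_of_subtype (Polynomial.nthRootsFinset p (1 : F))]
  · exact hω.card_nthRootsFinset
  · intro x; rw [Polynomial.mem_nthRootsFinset (Fact.out : p.Prime).pos]

theorem card_monSub [Finite F] {ω : F} (hω : IsPrimitiveRoot ω p) :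
    Nat.card (monSub F p) = p ^ (p + 1) := by
  let f : (ZMod p → {a : F // a ^ p = 1}) × ZMod p → GL (ZMod p) F := fun x =>
    monGL (fun i => (x.1 i).1) (fun i => ne_zero_of_pow_eq_one (x.1 i).2) x.2
  have hf : Function.Injective f := by
    rintro ⟨d, j⟩ ⟨d', k⟩ h
    have h1 : mon (fun i => (d i).1) j = mon (fun i => (d' i).1) k := congrArg Units.val h
    obtain ⟨h2, h3⟩ := mon_inj (fun i => ne_zero_of_pow_eq_one (d i).2) h1
    refine Prod.ext ?_ h2
    funext i
    exact Subtype.ext (congrFun h3 i)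
  have hrange : ∀ g, g ∈ monSub F p ↔ g ∈ Set.range f := by
    intro g
    constructor
    · rintro ⟨d, j, hd, hg⟩
      exact ⟨(fun i => ⟨d i, hd i⟩, j), Units.ext hg.symm⟩
    · rintro ⟨⟨d, j⟩, rfl⟩
      exact ⟨fun i => (d i).1, j, fun i => (d i).2, rfl⟩
  rw [Nat.card_congr (Equiv.subtypeEquivRight hrange),
    ← Nat.card_congr (Equiv.ofInjective f hf), Nat.card_prod, Nat.card_fun, card_roots hω,
    Nat.card_zmod, pow_succ]

end basic

section card

variable {F : Type*} [Field F] [Fintype F] {p : ℕ} [Fact p.Prime]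

local notation "q" => Fintype.card F

theorem card_GL_factorization (hp : p ≠ 2) (h1 : p ∣ Fintype.card F - 1)
    (h2 : ¬ p ^ 2 ∣ Fintype.card F - 1) :
    (Nat.card (GL (Fin p) F)).factorization p = p + 1 := by
  have hpp : p.Prime := Fact.out
  have hodd : Odd p := hpp.odd_of_ne_two hp
  have hq1 : 1 < Fintype.card F := Fintype.one_lt_card
  have hqp : ¬ p ∣ q := by
    intro h
    have : p ∣ q - (q - 1) := Nat.dvd_sub h h1
    rw [Nat.sub_sub_self hq1.le] at this
    exact hpp.one_lt.ne' (Nat.dvd_one.1 this)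
  have hv1 : padicValNat p (q - 1) = 1 := by
    have hne : q - 1 ≠ 0 := by omega
    have ha : 1 ≤ padicValNat p (q - 1) :=
      (padicValNat_dvd_iff_le hne).1 (by simpa using h1)
    have hb : ¬ 2 ≤ padicValNat p (q - 1) := fun h => h2 ((padicValNat_dvd_iff_le hne).2 h)
    omega
  have hterm : ∀ i : Fin p, (q ^ p - q ^ (i : ℕ)).factorization p =
      1 + (if (i : ℕ) = 0 then 1 else 0) := by
    intro i
    have hi : (i : ℕ) < p := i.isLt
    have hm : p - (i : ℕ) ≠ 0 := by omega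
    have e1 : q ^ p - q ^ (i : ℕ) = q ^ (i : ℕ) * (q ^ (p - (i : ℕ)) - 1) := by
      rw [Nat.mul_sub, mul_one, ← pow_add, Nat.add_sub_cancel' hi.le]
    have hne1 : q ^ (i : ℕ) ≠ 0 := pow_ne_zero _ (by omega)
    have hne2 : q ^ (p - (i : ℕ)) - 1 ≠ 0 := by
      have : 1 < q ^ (p - (i : ℕ)) := Nat.one_lt_pow hm hq1
      omega
    rw [e1, Nat.factorization_mul hne1 hne2, Finsupp.add_apply, Nat.factorization_pow,
      Finsupp.smul_apply, Nat.factorization_eq_zero_of_not_dvd hqp, smul_zero, zero_add,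
      Nat.factorization_def _ hpp]
    have e2 : q ^ (p - (i : ℕ)) - 1 = q ^ (p - (i : ℕ)) - 1 ^ (p - (i : ℕ)) := by rw [one_pow]
    rw [e2, padicValNat.pow_sub_pow hodd hq1 h1 hqp hm, hv1]
    congr 1
    by_cases h0 : (i : ℕ) = 0
    · rw [if_pos h0, h0, Nat.sub_zero, padicValNat_self]
    · rw [if_neg h0]
      exact padicValNat.eq_zero_of_not_dvd (Nat.not_dvd_of_pos_of_lt (by omega) (by omega))
  rw [Matrix.card_GL_field, Nat.factorization_prod, Finset.sum_apply']
  · simp_rw [hterm]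
    rw [Finset.sum_add_distrib, Finset.sum_const, Finset.card_univ, Fintype.card_fin,
      smul_eq_mul, mul_one, Finset.sum_eq_single (⟨0, hpp.pos⟩ : Fin p)]
    · simp
    · intro b _ hb
      rw [if_neg]
      intro h
      exact hb (Fin.ext h)
    · intro h; exact absurd (Finset.mem_univ _) h
  · intro i _
    have hi : (i : ℕ) < p := i.isLt
    have : q ^ (i : ℕ) < q ^ p := Nat.pow_lt_pow_right hq1 hi
    omega

theorem exists_root (h1 : p ∣ Fintype.card F - 1) : ∃ ω : F, IsPrimitiveRoot ω p := by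
  classical
  have hdvd : p ∣ Nat.card Fˣ := by rwa [Nat.card_eq_fintype_card, Fintype.card_units]
  obtain ⟨ω, hω⟩ := exists_prime_orderOf_dvd_card' p hdvd
  refine ⟨(ω : F), ?_⟩
  have := IsPrimitiveRoot.orderOf (ω : F)
  rwa [orderOf_units, hω] at this

omit [Fact p.Prime] in
theorem natCast_ne_zero (h1 : p ∣ Fintype.card F - 1) : (p : F) ≠ 0 := by
  intro h0
  obtain ⟨m, hm⟩ := h1
  have hq1 : 1 < Fintype.card F := Fintype.one_lt_card
  have : (Fintype.card F : F) = 0 := Nat.cast_card_eq_zero F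
  have e : Fintype.card F = p * m + 1 := by omega
  rw [e] at this
  push_cast at this
  rw [h0, zero_mul, zero_add] at this
  exact one_ne_zero this

/-- Reindexing isomorphism of general linear groups. -/
noncomputable def glReindex {m n : Type*} [Fintype m] [DecidableEq m] [Fintype n] [DecidableEq n]
    (e : m ≃ n) : GL m F ≃* GL n F :=
  Units.mapEquiv (Matrix.reindexAlgEquiv F F e).toMulEquiv

theorem exists_monSylow (hp : p ≠ 2) (h1 : p ∣ Fintype.card F - 1)
    (h2 : ¬ p ^ 2 ∣ Fintype.card F - 1) :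
    ∃ Q : Sylow p (GL (ZMod p) F), (Q : Subgroup (GL (ZMod p) F)) = monSub F p := by
  obtain ⟨ω, hω⟩ := exists_root (p := p) h1
  have e : Fin p ≃ ZMod p := Fintype.equivOfCardEq (by rw [Fintype.card_fin, ZMod.card])
  have hcard : Nat.card (GL (ZMod p) F) = Nat.card (GL (Fin p) F) :=
    Nat.card_congr (glReindex e).symm.toEquiv
  exact ⟨Sylow.ofCard (monSub F p)
    (by rw [card_monSub hω, hcard, card_GL_factorization hp h1 h2]), Sylow.coe_ofCard _ _⟩

end card

section Two

open scoped Pointwise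

variable {G : Type*} [Group G] {p : ℕ}

/-- `x` lies in two distinct Sylow `p`-subgroups. -/
def TwoSyl (p : ℕ) (x : G) : Prop := ∃ P P' : Sylow p G, P ≠ P' ∧ x ∈ P ∧ x ∈ P'

theorem TwoSyl.exists_ne {x : G} (h : TwoSyl p x) (Q : Sylow p G) :
    ∃ P : Sylow p G, P ≠ Q ∧ x ∈ P := by
  obtain ⟨P, P', hne, hP, hP'⟩ := h
  by_cases hPQ : P = Q
  · exact ⟨P', fun h => hne (hPQ.trans h.symm), hP'⟩
  · exact ⟨P, hPQ, hP⟩

theorem mem_smul_sylow_iff (g x : G) (Q : Sylow p G) : x ∈ g • Q ↔ g⁻¹ * x * g ∈ Q := by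
  show x ∈ MulAut.conj g • (Q : Subgroup G) ↔ _
  rw [Subgroup.mem_pointwise_smul_iff_inv_smul_mem, MulAut.smul_def, ← map_inv,
    MulAut.conj_apply, inv_inv]
  rfl

theorem TwoSyl.conj {x : G} (h : TwoSyl p x) (g : G) : TwoSyl p (g * x * g⁻¹) := by
  obtain ⟨P, P', hne, hP, hP'⟩ := h
  refine ⟨g • P, g • P', fun h => hne (smul_left_cancel g h), ?_, ?_⟩
  · rw [mem_smul_sylow_iff]; simpa [mul_assoc] using hP
  · rw [mem_smul_sylow_iff]; simpa [mul_assoc] using hP'

theorem twoSyl_of_commute {x g : G} (Q : Sylow p G) (hx : x ∈ Q) (hc : g * x = x * g)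
    (hg : g • Q ≠ Q) : TwoSyl p x := by
  refine ⟨g • Q, Q, hg, ?_, hx⟩
  rw [mem_smul_sylow_iff, mul_assoc, ← hc, inv_mul_cancel_left]
  exact hx

theorem smul_ne_of_conj_not_mem (Q : Sylow p G) (g y : G) (hy : y ∈ Q)
    (h : g * y * g⁻¹ ∉ Q) : g • Q ≠ Q := by
  intro hgQ
  apply h
  have : g * y * g⁻¹ ∈ g • Q := by
    rw [mem_smul_sylow_iff]; simpa [mul_assoc] using hy
  rwa [hgQ] at this

theorem smul_ne_of_pelement [Finite G] [Fact p.Prime] (Q : Sylow p G) (c : G) (k : ℕ)
    (hc : orderOf c = p ^ k) (hcQ : c ∉ Q) : c • Q ≠ Q := by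
  intro h
  rw [Sylow.smul_eq_iff_mem_normalizer] at h
  apply hcQ
  have h2 : Subgroup.zpowers c ≤ Subgroup.normalizer ((Q : Subgroup G) : Set G) := by
    rw [Subgroup.zpowers_le]; exact h
  exact Helper5.pgroup_le_sylow_of_le_normalizer p _
    (Helper5.isPGroup_zpowers_of_orderOf p c k hc) Q h2 (Subgroup.mem_zpowers c)

theorem redSyl_of_mulEquiv {H : Type*} [Group H] [Finite G] [Fact p.Prime] (e : G ≃* H)
    (h : Helper5.RedSyl p G) : Helper5.RedSyl p H := by
  obtain ⟨Q, hQ⟩ := h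
  have hs : Function.Surjective e.toMonoidHom := e.surjective
  refine ⟨Q.mapSurjective hs, ?_⟩
  rintro y ⟨k, hk⟩
  obtain ⟨P, hPQ, hxP⟩ := hQ (e.symm y) ⟨k, by rw [← hk]; exact e.symm.orderOf_eq y⟩
  refine ⟨P.mapSurjective hs, ?_, ?_⟩
  · intro h
    apply hPQ
    have h1 : (P : Subgroup G).map e.toMonoidHom = (Q : Subgroup G).map e.toMonoidHom := by
      have := congrArg (fun S : Sylow p H => (S : Subgroup H)) h
      simpa using this
    exact Sylow.ext (Subgroup.map_injective e.injective h1)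
  · have : y = e.toMonoidHom (e.symm y) := (e.apply_symm_apply y).symm
    rw [this]; exact Subgroup.mem_map_of_mem _ hxP

end Two

end Cfsg.Agent.Helper39.GLp
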