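import Mathlib
import Cfsg.Agent.Helper39.MonGL

set_option autoImplicit false

/-!
# Every element of the monomial Sylow `p`-subgroup of `GL_p(F)` lies in a second Sylow subgroup
-/

namespace Cfsg.Agent.Helper39.GLp

open Matrix

variable {F : Type*} [Field F] {p : ℕ} [Fact p.Prime]

/-- Diagonal element with `ω` at position `i₀` and `1` elsewhere. -/
def aGL (ω : F) (hω : ω ^ p = 1) (i₀ : ZMod p) : GL (ZMod p) F :=
  monGL (fun i => if i = i₀ then ω else 1)
    (fun i => by split_ifs; exacts [ne_zero_of_pow_eq_one hω, one_ne_zero]) 0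

theorem aGL_mem (ω : F) (hω : ω ^ p = 1) (i₀ : ZMod p) : aGL ω hω i₀ ∈ monSub F p :=
  ⟨fun i => if i = i₀ then ω else 1, 0,
    fun i => by show (if i = i₀ then ω else 1) ^ p = 1; split_ifs; exacts [hω, one_pow _], rfl⟩

theorem aGL_val (ω : F) (hω : ω ^ p = 1) (i₀ : ZMod p) :
    ((aGL ω hω i₀ : GL (ZMod p) F) : Matrix (ZMod p) (ZMod p) F) =
      mon (fun i => if i = i₀ then ω else 1) 0 := rfl

theorem pow_mon_zero (d : ZMod p → F) (j : ZMod p) :
    ∀ (k : ℕ) (i l : ZMod p), i + (k : ZMod p) * j ≠ l → (mon d j ^ k) i l = 0 := by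
  intro k
  induction k with
  | zero =>
    intro i l h
    rw [pow_zero, Matrix.one_apply_ne]
    intro h'; apply h; rw [Nat.cast_zero, zero_mul, add_zero, h']
  | succ k ih =>
    intro i l h
    rw [pow_succ, mul_mon_apply, ih i (l - j), zero_mul]
    intro h'; apply h
    rw [Nat.cast_succ, add_mul, one_mul, ← add_assoc, h', sub_add_cancel]

theorem mon_pow_p (d : ZMod p → F) (hd : ∀ i, d i ≠ 0) (j : ZMod p) (hj : j ≠ 0) :
    mon d j ^ p = ((mon d j ^ p) 0 0) • (1 : Matrix (ZMod p) (ZMod p) F) := by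
  obtain ⟨Y, hY⟩ : ∃ Y, Y = mon d j ^ p := ⟨_, rfl⟩
  rw [← hY]
  have hdiag : ∀ i l, i ≠ l → Y i l = 0 := by
    intro i l h
    rw [hY]
    apply pow_mon_zero
    rwa [ZMod.natCast_self, zero_mul, add_zero]
  have hcomm : Y * mon d j = mon d j * Y := by rw [hY, ← pow_succ, ← pow_succ']
  have hstep : ∀ i, Y (i + j) (i + j) = Y i i := by
    intro i
    have h1 := congrFun (congrFun hcomm i) (i + j)
    rw [mul_mon_apply, mon_mul_apply, add_sub_cancel_right, mul_comm] at h1
    exact (mul_left_cancel₀ (hd i) h1).symm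
  have hconst : ∀ k : ℕ, Y ((k : ZMod p) * j) ((k : ZMod p) * j) = Y 0 0 := by
    intro k
    induction k with
    | zero => rw [Nat.cast_zero, zero_mul]
    | succ k ih => rw [Nat.cast_succ, add_mul, one_mul, hstep, ih]
  have hall : ∀ i, Y i i = Y 0 0 := by
    intro i
    have := hconst (i * j⁻¹).val
    rwa [ZMod.natCast_zmod_val, inv_mul_cancel_right₀ hj] at this
  ext i l
  rw [Matrix.smul_apply, Matrix.one_apply, smul_eq_mul]
  by_cases h : i = l
  · subst h; rw [if_pos rfl, mul_one, hall]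
  · rw [if_neg h, mul_zero, hdiag i l h]

theorem two_lt (hp2 : p ≠ 2) : 2 < p := by
  have := (Fact.out : p.Prime).two_le
  omega

theorem add_self_ne_zero (hp2 : p ≠ 2) {j : ZMod p} (hj : j ≠ 0) : j + j ≠ 0 := by
  intro h
  have h2 : ((2 : ℕ) : ZMod p) * j = 0 := by rw [Nat.cast_ofNat, two_mul, h]
  rcases mul_eq_zero.1 h2 with h3 | h3
  · rw [ZMod.natCast_eq_zero_iff] at h3
    have := Nat.le_of_dvd (by norm_num) h3
    have := two_lt hp2
    omega
  · exact hj h3

theorem natCast_mul_eq {j : ZMod p} (hj : j ≠ 0) {k n : ℕ} (hk : k < p) (hn : n < p)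
    (h : (k : ZMod p) * j = (n : ZMod p) * j) : k = n := by
  have h1 : (k : ZMod p) = (n : ZMod p) := mul_right_cancel₀ hj h
  rw [ZMod.natCast_eq_natCast_iff'] at h1
  rwa [Nat.mod_eq_of_lt hk, Nat.mod_eq_of_lt hn] at h1

theorem caseA_exists (d : ZMod p → F) (hd : ∀ i, d i ≠ 0) (j : ZMod p) (hj : j ≠ 0)
    (hp2 : p ≠ 2) (hX : mon d j ^ p = 1) (ω : F) (hω : ω ^ p = 1) (hω1 : ω ≠ 1)
    (hpF : (p : F) ≠ 0) :
    ∃ c : GL (ZMod p) F, c ^ p = 1 ∧
      (c : Matrix (ZMod p) (ZMod p) F) * mon d j = mon d j * (c : Matrix (ZMod p) (ZMod p) F) ∧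
      c ∉ monSub F p := by
  have hpp : p.Prime := Fact.out
  have h2p := two_lt hp2
  obtain ⟨X, hXdef⟩ : ∃ X, X = mon d j := ⟨_, rfl⟩
  rw [← hXdef] at hX ⊢
  obtain ⟨S, hS⟩ : ∃ S, S = ∑ k ∈ Finset.range p, X ^ k := ⟨_, rfl⟩
  have hXS : X * S = S := by
    have := mul_geom_sum X p
    rw [hX, sub_self, ← hS, sub_mul, one_mul, sub_eq_zero] at this
    exact this
  have hSX : S * X = S := by
    have := geom_sum_mul X p
    rw [hX, sub_self, ← hS, mul_sub, mul_one, sub_eq_zero] at this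
    exact this
  have hpowS : ∀ k : ℕ, X ^ k * S = S := by
    intro k
    induction k with
    | zero => rw [pow_zero, one_mul]
    | succ k ih => rw [pow_succ, mul_assoc, hXS, ih]
  have hSS : S * S = (p : F) • S := by
    calc S * S = (∑ k ∈ Finset.range p, X ^ k) * S := by rw [← hS]
      _ = ∑ k ∈ Finset.range p, X ^ k * S := Finset.sum_mul _ _ _
      _ = ∑ k ∈ Finset.range p, S := Finset.sum_congr rfl (fun k _ => hpowS k)
      _ = (p : F) • S := by rw [Finset.sum_const, Finset.card_range, Nat.cast_smul_eq_nsmul]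
  have hS1 : S 0 j = d 0 := by
    rw [hS, Matrix.sum_apply, Finset.sum_eq_single 1]
    · rw [pow_one, hXdef, mon_apply, zero_add, if_pos rfl]
    · intro k hk hk1
      rw [hXdef]
      apply pow_mon_zero
      rw [zero_add]
      intro h
      apply hk1
      exact natCast_mul_eq hj (Finset.mem_range.1 hk) hpp.one_lt
        (by rw [h, Nat.cast_one, one_mul])
    · intro h; exact absurd (Finset.mem_range.2 hpp.one_lt) h
  have hS2 : S 0 (j + j) = d 0 * d j := by
    rw [hS, Matrix.sum_apply, Finset.sum_eq_single 2]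
    · rw [pow_two, hXdef, mon_mul_apply, mon_apply, zero_add, if_pos rfl]
    · intro k hk hk1
      rw [hXdef]
      apply pow_mon_zero
      rw [zero_add]
      intro h
      apply hk1
      exact natCast_mul_eq hj (Finset.mem_range.1 hk) h2p
        (by rw [h, Nat.cast_ofNat, two_mul])
    · intro h; exact absurd (Finset.mem_range.2 h2p) h
  obtain ⟨κ, hκ⟩ : ∃ κ : F, κ = (ω - 1) / p := ⟨_, rfl⟩
  have hκ0 : κ ≠ 0 := by
    rw [hκ]; exact div_ne_zero (sub_ne_zero.2 hω1) hpF
  obtain ⟨C, hC⟩ : ∃ C : Matrix (ZMod p) (ZMod p) F, C = 1 + κ • S := ⟨_, rfl⟩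
  have hCpow : ∀ n : ℕ, C ^ n = 1 + ((ω ^ n - 1) / p) • S := by
    intro n
    induction n with
    | zero => rw [pow_zero, pow_zero, sub_self, zero_div, zero_smul, add_zero]
    | succ n ih =>
      rw [pow_succ, ih, hC]
      have e : (ω ^ (n + 1) - 1) / (p : F) =
          (ω ^ n - 1) / p + κ + (ω ^ n - 1) / p * κ * p := by
        rw [hκ]; field_simp; ring
      rw [e]
      calc (1 + ((ω ^ n - 1) / (p : F)) • S) * (1 + κ • S)
          = 1 + κ • S + ((ω ^ n - 1) / (p : F)) • S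
              + ((ω ^ n - 1) / (p : F) * κ) • (S * S) := by
            rw [mul_add, add_mul, add_mul, one_mul, mul_one, one_mul, Matrix.smul_mul,
              Matrix.mul_smul, smul_smul]
            abel
        _ = 1 + ((ω ^ n - 1) / p + κ + (ω ^ n - 1) / p * κ * p) • S := by
            rw [hSS]; module
  have hCp : C ^ p = 1 := by rw [hCpow, hω, sub_self, zero_div, zero_smul, add_zero]
  refine ⟨Units.ofPowEqOne C p hCp hpp.ne_zero, Units.pow_ofPowEqOne _ _, ?_, ?_⟩
  · show C * X = X * C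
    rw [hC, add_mul, mul_add, one_mul, mul_one, Matrix.smul_mul, Matrix.mul_smul, hSX, hXS]
  · rintro ⟨e, m, he, hc⟩
    have hc' : C = mon e m := hc
    have hjj := add_self_ne_zero hp2 hj
    have h1 := congrFun (congrFun hc' 0) j
    rw [hC, Matrix.add_apply, Matrix.smul_apply, Matrix.one_apply_ne hj.symm, hS1, smul_eq_mul,
      zero_add, mon_apply, zero_add] at h1
    have h2 := congrFun (congrFun hc' 0) (j + j)
    rw [hC, Matrix.add_apply, Matrix.smul_apply, Matrix.one_apply_ne hjj.symm, hS2, smul_eq_mul,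
      zero_add, mon_apply, zero_add] at h2
    by_cases hm : m = j
    · rw [if_neg (by rw [hm]; intro h; exact hj (by simpa using h))] at h2
      exact mul_ne_zero hκ0 (mul_ne_zero (hd 0) (hd j)) h2
    · rw [if_neg hm] at h1
      exact mul_ne_zero hκ0 (hd 0) h1

theorem caseB_exists (d : ZMod p → F) (hd : ∀ i, d i ≠ 0) (j : ZMod p) (hj : j ≠ 0)
    (hp2 : p ≠ 2) (δ : F) (hδ : δ ≠ 1)
    (hX : mon d j ^ p = δ • (1 : Matrix (ZMod p) (ZMod p) F))
    (ω : F) (hω : ω ^ p = 1) (hω1 : ω ≠ 1) :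
    ∃ h : GL (ZMod p) F,
      (h : Matrix (ZMod p) (ZMod p) F) * mon d j = mon d j * (h : Matrix (ZMod p) (ZMod p) F) ∧
      h * aGL ω hω 0 * h⁻¹ ∉ monSub F p := by
  have hδ' : (1 : F) - δ ≠ 0 := sub_ne_zero.2 (Ne.symm hδ)
  have hsm : (1 : Matrix (ZMod p) (ZMod p) F) - δ • (1 : Matrix (ZMod p) (ZMod p) F) =
      (1 - δ) • (1 : Matrix (ZMod p) (ZMod p) F) := by rw [sub_smul, one_smul]
  obtain ⟨h, hh⟩ : ∃ h : GL (ZMod p) F, (h : Matrix (ZMod p) (ZMod p) F) = 1 - mon d j :=
    ⟨⟨1 - mon d j, (1 - δ)⁻¹ • ∑ k ∈ Finset.range p, mon d j ^ k, by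
      rw [Matrix.mul_smul, mul_neg_geom_sum, hX, hsm, smul_smul, inv_mul_cancel₀ hδ', one_smul],
      by
      rw [Matrix.smul_mul, geom_sum_mul_neg, hX, hsm, smul_smul, inv_mul_cancel₀ hδ',
        one_smul]⟩, rfl⟩
  refine ⟨h, ?_, ?_⟩
  · rw [hh, sub_mul, mul_sub, one_mul, mul_one]
  · rintro ⟨e, m, he, hz⟩
    have hmat : mon e m * (1 - mon d j) =
        (1 - mon d j) * mon (fun i => if i = (0 : ZMod p) then ω else 1) 0 := by
      have h3 : (h * aGL ω hω 0 * h⁻¹) * h = h * aGL ω hω 0 := inv_mul_cancel_right _ _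
      have h4 := congrArg Units.val h3
      rw [Units.val_mul, hz, Units.val_mul, hh, aGL_val] at h4
      exact h4
    have E : ∀ l, e 0 * ((if m = l then 1 else 0) - (if m + j = l then d m else 0)) =
        ((if (0 : ZMod p) = l then 1 else 0) - (if j = l then d 0 else 0)) *
          (if l = 0 then ω else 1) := by
      intro l
      have := congrFun (congrFun hmat 0) l
      rw [mon_mul_apply, mul_mon_apply, zero_add, sub_zero, Matrix.sub_apply, Matrix.sub_apply,
        Matrix.one_apply, Matrix.one_apply, mon_apply, mon_apply, zero_add] at this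
      exact this
    have he0 : e 0 ≠ 0 := ne_zero_of_pow_eq_one (he 0)
    have hω0 : ω ≠ 0 := ne_zero_of_pow_eq_one hω
    have hjj := add_self_ne_zero hp2 hj
    by_cases hm0 : m = 0
    · subst hm0
      have E0 := E 0
      simp only [if_true, zero_add, if_neg hj, sub_zero, mul_one, one_mul] at E0
      have Ej := E j
      simp only [if_neg hj.symm, zero_add, if_true, zero_sub, if_neg hj, mul_one, mul_neg,
        neg_inj] at Ej
      have : e 0 = 1 := mul_right_cancel₀ (hd 0) (by rw [Ej, one_mul])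
      exact hω1 (E0.symm.trans this)
    · by_cases hmj : m = j
      · subst hmj
        have E0 := E 0
        simp only [if_neg hm0, if_neg hjj, sub_zero, mul_zero, if_true, one_mul] at E0
        exact hω0 E0.symm
      · have Em := E m
        have hmm : ¬ (m + j = m) := by intro h; exact hj (by simpa using h)
        simp only [if_true, if_neg hmm, sub_zero, mul_one,
          if_neg (Ne.symm hm0), if_neg (Ne.symm hmj), zero_mul] at Em
        exact he0 Em

omit [Fact p.Prime] in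
theorem transv_apply (i i' r l : ZMod p) :
    (transvection i i' (1 : F)) r l =
      (if r = l then 1 else 0) + (if i = r ∧ i' = l then 1 else 0) := by
  rw [transvection, Matrix.add_apply, Matrix.one_apply, Matrix.single_apply]

theorem caseC_exists (d : ZMod p → F) (i i' : ZMod p) (hii : i ≠ i') (heq : d i = d i')
    (ω : F) (hω : ω ^ p = 1) (hω1 : ω ≠ 1) :
    ∃ g : GL (ZMod p) F,
      (g : Matrix (ZMod p) (ZMod p) F) * mon d 0 = mon d 0 * (g : Matrix (ZMod p) (ZMod p) F) ∧
      g * aGL ω hω i * g⁻¹ ∉ monSub F p := by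
  obtain ⟨g, hg⟩ : ∃ g : GL (ZMod p) F,
      (g : Matrix (ZMod p) (ZMod p) F) = transvection i i' (1 : F) :=
    ⟨⟨transvection i i' 1, transvection i i' (-1), by
      rw [transvection_mul_transvection_same _ _ hii, add_neg_cancel, transvection_zero], by
      rw [transvection_mul_transvection_same _ _ hii, neg_add_cancel, transvection_zero]⟩, rfl⟩
  refine ⟨g, ?_, ?_⟩
  · rw [hg]
    ext r l
    rw [mul_mon_apply, mon_mul_apply, sub_zero, add_zero, transv_apply]
    by_cases hrl : r = l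
    · subst hrl; ring
    · rw [if_neg hrl, zero_add]
      by_cases h : i = r ∧ i' = l
      · rw [if_pos h, ← h.1, ← h.2, heq]; ring
      · rw [if_neg h, zero_mul, mul_zero]
  · rintro ⟨e, m, he, hz⟩
    have hmat : mon e m * transvection i i' (1 : F) =
        transvection i i' (1 : F) * mon (fun r => if r = i then ω else 1) 0 := by
      have h3 : (g * aGL ω hω i * g⁻¹) * g = g * aGL ω hω i := inv_mul_cancel_right _ _
      have h4 := congrArg Units.val h3
      rw [Units.val_mul, hz, Units.val_mul, hg, aGL_val] at h4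
      exact h4
    have E : ∀ l, e i * ((if i + m = l then 1 else 0) + (if i = i + m ∧ i' = l then 1 else 0)) =
        ((if i = l then 1 else 0) + (if i = i ∧ i' = l then 1 else 0)) *
          (if l = i then ω else 1) := by
      intro l
      have := congrFun (congrFun hmat i) l
      rw [mon_mul_apply, mul_mon_apply, sub_zero, transv_apply, transv_apply] at this
      exact this
    have hω0 : ω ≠ 0 := ne_zero_of_pow_eq_one hω
    by_cases hm0 : m = 0
    · subst hm0
      have E0 := E i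
      simp only [add_zero, if_true, true_and, if_neg (Ne.symm hii), mul_one, one_mul] at E0
      have E1 := E i'
      simp only [add_zero, if_neg hii, and_self, if_true, zero_add, mul_one,
        if_neg (Ne.symm hii)] at E1
      exact hω1 (E0.symm.trans E1)
    · have E0 := E i
      have hmm : ¬ (i + m = i) := by intro h; exact hm0 (by simpa using h)
      simp only [if_neg hmm, Ne.symm hii, and_false, if_false, add_zero,
        mul_zero, if_true, one_mul] at E0
      exact hω0 E0.symm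

theorem caseD_exists (d : ZMod p → F) (hd : ∀ i, d i ^ p = 1) (hinj : Function.Injective d) :
    ∃ V : GL (ZMod p) F, mon d 0 * (V : Matrix (ZMod p) (ZMod p) F) =
      (V : Matrix (ZMod p) (ZMod p) F) * mon (fun _ => 1) (-1) := by
  have hpp : p.Prime := Fact.out
  let e : Fin p ≃ ZMod p :=
    { toFun := fun a => ((a : ℕ) : ZMod p)
      invFun := fun k => ⟨k.val, ZMod.val_lt k⟩
      left_inv := fun a => Fin.ext (ZMod.val_natCast_of_lt a.isLt)
      right_inv := fun k => ZMod.natCast_zmod_val k }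
  obtain ⟨Vm, hVm⟩ : ∃ Vm : Matrix (ZMod p) (ZMod p) F, Vm = fun i k => d i ^ k.val := ⟨_, rfl⟩
  have hsub : Vm = (vandermonde (d ∘ e)).submatrix e.symm e.symm := by
    ext i k
    rw [hVm, Matrix.submatrix_apply, vandermonde_apply, Function.comp_apply,
      Equiv.apply_symm_apply]
    rfl
  have hdet : Vm.det ≠ 0 := by
    rw [hsub, Matrix.det_submatrix_equiv_self]
    exact Matrix.det_vandermonde_ne_zero_iff.2 (hinj.comp e.injective)
  refine ⟨Matrix.GeneralLinearGroup.mkOfDetNeZero Vm hdet, ?_⟩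
  show mon d 0 * Vm = Vm * mon (fun _ => 1) (-1)
  ext i k
  rw [mon_mul_apply, mul_mon_apply, add_zero, sub_neg_eq_add, mul_one, hVm]
  show d i * d i ^ k.val = d i ^ (k + 1).val
  have : Fact (1 < p) := ⟨hpp.one_lt⟩
  rw [ZMod.val_add, ZMod.val_one, ← pow_eq_pow_mod _ (hd i), pow_succ']

section main

variable [Finite F]

theorem twoSyl_shift (hp2 : p ≠ 2) (ω : F) (hω : ω ^ p = 1) (hω1 : ω ≠ 1) (hpF : (p : F) ≠ 0)
    (Q : Sylow p (GL (ZMod p) F)) (hQ : (Q : Subgroup (GL (ZMod p) F)) = monSub F p)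
    (x : GL (ZMod p) F) (d : ZMod p → F) (hd : ∀ i, d i ^ p = 1) (j : ZMod p) (hj : j ≠ 0)
    (hx : (x : Matrix (ZMod p) (ZMod p) F) = mon d j) : TwoSyl p x := by
  have hpp : p.Prime := Fact.out
  have hd0 : ∀ i, d i ≠ 0 := fun i => ne_zero_of_pow_eq_one (hd i)
  have hxQ : x ∈ (Q : Subgroup (GL (ZMod p) F)) := by rw [hQ]; exact ⟨d, j, hd, hx⟩
  by_cases hδ : (mon d j ^ p) 0 0 = 1
  · have hX : mon d j ^ p = 1 := by rw [mon_pow_p d hd0 j hj, hδ, one_smul]
    obtain ⟨c, hcp, hcomm, hcQ⟩ := caseA_exists d hd0 j hj hp2 hX ω hω hω1 hpF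
    have hc : c * x = x * c := Units.ext (by rw [Units.val_mul, Units.val_mul, hx]; exact hcomm)
    obtain ⟨k, -, hk⟩ := (Nat.dvd_prime_pow hpp).1
      (show orderOf c ∣ p ^ 1 by rw [pow_one]; exact orderOf_dvd_of_pow_eq_one hcp)
    have hcQ' : c ∉ (Q : Subgroup (GL (ZMod p) F)) := by rw [hQ]; exact hcQ
    exact twoSyl_of_commute Q hxQ hc (smul_ne_of_pelement Q c k hk hcQ')
  · obtain ⟨h, hcomm, hnot⟩ := caseB_exists d hd0 j hj hp2 _ hδ (mon_pow_p d hd0 j hj) ω hω hω1
    have hc : h * x = x * h := Units.ext (by rw [Units.val_mul, Units.val_mul, hx]; exact hcomm)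
    have ha : aGL ω hω 0 ∈ (Q : Subgroup (GL (ZMod p) F)) := by rw [hQ]; exact aGL_mem ω hω 0
    have hnot' : h * aGL ω hω 0 * h⁻¹ ∉ (Q : Subgroup (GL (ZMod p) F)) := by rw [hQ]; exact hnot
    exact twoSyl_of_commute Q hxQ hc (smul_ne_of_conj_not_mem Q h _ ha hnot')

theorem twoSyl_of_mem (hp2 : p ≠ 2) (ω : F) (hω : ω ^ p = 1) (hω1 : ω ≠ 1) (hpF : (p : F) ≠ 0)
    (Q : Sylow p (GL (ZMod p) F)) (hQ : (Q : Subgroup (GL (ZMod p) F)) = monSub F p)
    (x : GL (ZMod p) F) (hx : x ∈ monSub F p) : TwoSyl p x := by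
  have hxQ : x ∈ (Q : Subgroup (GL (ZMod p) F)) := by rw [hQ]; exact hx
  obtain ⟨d, j, hd, hxv⟩ := hx
  by_cases hj : j = 0
  · subst hj
    by_cases hinj : Function.Injective d
    · obtain ⟨V, hV⟩ := caseD_exists d hd hinj
      have hT := twoSyl_shift hp2 ω hω hω1 hpF Q hQ
        (monGL (fun _ => (1 : F)) (fun _ => one_ne_zero) (-1)) (fun _ => 1) (fun _ => one_pow p)
        (-1) (neg_ne_zero.2 one_ne_zero) rfl
      have hconj : x = V * monGL (fun _ => (1 : F)) (fun _ => one_ne_zero) (-1) * V⁻¹ := by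
        rw [eq_mul_inv_iff_mul_eq]
        exact Units.ext (by rw [Units.val_mul, Units.val_mul, hxv]; exact hV)
      rw [hconj]; exact hT.conj V
    · rw [Function.not_injective_iff] at hinj
      obtain ⟨i, i', heq, hne⟩ := hinj
      obtain ⟨g, hcomm, hnot⟩ := caseC_exists d i i' hne heq ω hω hω1
      have hc : g * x = x * g :=
        Units.ext (by rw [Units.val_mul, Units.val_mul, hxv]; exact hcomm)
      have ha : aGL ω hω i ∈ (Q : Subgroup (GL (ZMod p) F)) := by rw [hQ]; exact aGL_mem ω hω i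
      have hnot' : g * aGL ω hω i * g⁻¹ ∉ (Q : Subgroup (GL (ZMod p) F)) := by
        rw [hQ]; exact hnot
      exact twoSyl_of_commute Q hxQ hc (smul_ne_of_conj_not_mem Q g _ ha hnot')
  · exact twoSyl_shift hp2 ω hω hω1 hpF Q hQ x d hd j hj hxv

end main

theorem redSyl_GL_zmod [Fintype F] (hp : p ≠ 2) (h1 : p ∣ Fintype.card F - 1)
    (h2 : ¬ p ^ 2 ∣ Fintype.card F - 1) : Helper5.RedSyl p (GL (ZMod p) F) := by
  have hpp : p.Prime := Fact.out
  obtain ⟨Q, hQ⟩ := exists_monSylow hp h1 h2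
  obtain ⟨ω, hω⟩ := exists_root (p := p) h1
  have hωp : ω ^ p = 1 := hω.pow_eq_one
  have hω1 : ω ≠ 1 := hω.ne_one hpp.one_lt
  refine ⟨Q, ?_⟩
  rintro x ⟨k, hk⟩
  by_cases hx : x ∈ (Q : Subgroup (GL (ZMod p) F))
  · exact (twoSyl_of_mem hp ω hωp hω1 (natCast_ne_zero h1) Q hQ x (by rw [← hQ]; exact hx)).exists_ne Q
  · obtain ⟨P, hP⟩ := (Helper5.isPGroup_zpowers_of_orderOf p x k hk).exists_le_sylow
    exact ⟨P, fun h => hx (h ▸ hP (Subgroup.mem_zpowers x)), hP (Subgroup.mem_zpowers x)⟩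

theorem redSyl_GL_fin [Fintype F] (hp : p ≠ 2) (h1 : p ∣ Fintype.card F - 1)
    (h2 : ¬ p ^ 2 ∣ Fintype.card F - 1) : Helper5.RedSyl p (GL (Fin p) F) := by
  have e : Fin p ≃ ZMod p := Fintype.equivOfCardEq (by rw [Fintype.card_fin, ZMod.card])
  exact redSyl_of_mulEquiv (glReindex e).symm (redSyl_GL_zmod hp h1 h2)

end Cfsg.Agent.Helper39.GLp
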