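import Cfsg.Agent.Helper55.N9Defs
import Cfsg.Agent.Helper39.N9Aux

/-!
# S4409 (CALL of helper55): shared helper lemmas for the pieces of helper39, part 2
(the extension `Z ⊔ zpowers x` of a subgroup `Z` by an element `x` centralizing `Z` with
`x ^ 2 ∈ Z`, `x ∉ Z`).
-/

set_option autoImplicit false

namespace Cfsg.Agent.Helper39.N9

open Subgroup Cfsg.Agent.Helper55.N9
open scoped commutatorElement

variable {G : Type*} [Group G]

theorem n9a_ext2 (Z : Subgroup G) (x : G) (hxZ : x ∉ Z) (hx2 : x ^ 2 ∈ Z)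
    (hcomm : ∀ z ∈ Z, x * z = z * x) :
    (∀ b ∈ Z ⊔ zpowers x, b ∈ Z ∨ b * x ∈ Z) ∧ Z.relIndex (Z ⊔ zpowers x) = 2 := by
  have hcx : ∀ a : G, a * x ∈ Z → x * a = a * x := by
    intro a ha
    have h1 := hcomm (a * x) ha
    exact mul_right_cancel (b := x) (by rw [mul_assoc]; exact h1)
  let B : Subgroup G :=
    { carrier := {b | b ∈ Z ∨ b * x ∈ Z}
      mul_mem' := by
        rintro a b (ha | ha) (hb | hb)
        · left; exact mul_mem ha hb
        · right
          have e : a * b * x = a * (b * x) := mul_assoc a b x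
          rw [e]; exact mul_mem ha hb
        · right
          have e : a * b * x = a * x * b := by
            rw [mul_assoc, ← hcomm b hb, ← mul_assoc]
          rw [e]; exact mul_mem ha hb
        · left
          have hxb := hcx b hb
          have e : a * b = (a * x) * (b * x) * (x ^ 2)⁻¹ := by
            calc a * b = a * (b * x) * x⁻¹ := by group
              _ = a * (x * b) * x⁻¹ := by rw [hxb]
              _ = a * x * (b * x) * (x ^ 2)⁻¹ := by rw [pow_two]; group
          rw [e]; exact mul_mem (mul_mem ha hb) (inv_mem hx2)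
      one_mem' := Or.inl (one_mem Z)
      inv_mem' := by
        rintro a (ha | ha)
        · left; exact inv_mem ha
        · right
          have hxa := hcx a ha
          have hxa' : a⁻¹ * x = x * a⁻¹ := by
            rw [eq_mul_inv_iff_mul_eq, mul_assoc, hxa, ← mul_assoc, inv_mul_cancel, one_mul]
          have e : a⁻¹ * x = (a * x)⁻¹ * x ^ 2 := by
            calc a⁻¹ * x = x⁻¹ * (x * a⁻¹) * x := by group
              _ = x⁻¹ * (a⁻¹ * x) * x := by rw [hxa']
              _ = (a * x)⁻¹ * x ^ 2 := by rw [pow_two]; group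
          rw [e]; exact mul_mem (inv_mem ha) hx2 }
  have hle : Z ⊔ zpowers x ≤ B :=
    sup_le (fun z hz => Or.inl hz)
      (zpowers_le.mpr (Or.inr (by rw [← pow_two]; exact hx2)))
  refine ⟨fun b hb => hle hb, ?_⟩
  rw [relIndex_eq_two_iff]
  refine ⟨x, mem_sup_right (mem_zpowers x), fun b hb => ?_⟩
  have hno : b ∈ Z → b * x ∈ Z → False := by
    intro h1 h2
    apply hxZ
    have h3 := Z.mul_mem (Z.inv_mem h1) h2
    rwa [inv_mul_cancel_left] at h3
  rcases hle hb with h | h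
  · exact Or.inr ⟨h, fun h' => hno h h'⟩
  · exact Or.inl ⟨h, fun h' => hno h' h⟩

theorem n9a_ext2_comm (Z : Subgroup G) (x : G) (hab : ∀ a ∈ Z, ∀ b ∈ Z, a * b = b * a)
    (hcomm : ∀ z ∈ Z, x * z = z * x) :
    ∀ a ∈ Z ⊔ zpowers x, ∀ b ∈ Z ⊔ zpowers x, a * b = b * a := by
  have h1 : ∀ z ∈ Z, Z ⊔ zpowers x ≤ centralizer ({z} : Set G) := fun z hz =>
    sup_le (fun a ha => mem_centralizer_singleton_iff.mpr (hab a ha z hz))
      (zpowers_le.mpr (mem_centralizer_singleton_iff.mpr (hcomm z hz)))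
  have h2 : Z ⊔ zpowers x ≤ centralizer ({x} : Set G) :=
    sup_le (fun a ha => mem_centralizer_singleton_iff.mpr (hcomm a ha).symm)
      (zpowers_le.mpr (mem_centralizer_singleton_iff.mpr rfl))
  have h3 : Z ⊔ zpowers x ≤ centralizer ((Z ⊔ zpowers x : Subgroup G) : Set G) := by
    apply sup_le
    · intro z hz
      rw [mem_centralizer_iff]
      intro a ha
      exact mem_centralizer_singleton_iff.mp (h1 z hz ha)
    · apply zpowers_le.mpr
      rw [mem_centralizer_iff]
      intro a ha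
      exact mem_centralizer_singleton_iff.mp (h2 ha)
  intro a ha b hb
  exact mem_centralizer_iff.mp (h3 hb) a ha

/-- the extension as a commutative subgroup of twice the order. -/
theorem n9a_ext2_card [Finite G] (Z : Subgroup G) (x : G) (hxZ : x ∉ Z) (hx2 : x ^ 2 ∈ Z)
    (hcomm : ∀ z ∈ Z, x * z = z * x) :
    Nat.card ↥(Z ⊔ zpowers x) = Nat.card Z * 2 := by
  have h := n9a_card_relIndex (le_sup_left : Z ≤ Z ⊔ zpowers x)
  rw [(n9a_ext2 Z x hxZ hx2 hcomm).2] at h
  exact h.symm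

/-- generator data of a cyclic subgroup. -/
theorem n9a_cyclic_gen (Z : Subgroup G) (hcyc : IsCyclic ↥Z) :
    ∃ g : G, g ∈ Z ∧ Z = zpowers g := by
  obtain ⟨g₀, hg₀⟩ := hcyc.exists_generator
  refine ⟨(g₀ : G), g₀.2, ?_⟩
  apply le_antisymm
  · intro z hz
    obtain ⟨i, hi⟩ := mem_zpowers_iff.mp (hg₀ ⟨z, hz⟩)
    refine mem_zpowers_iff.mpr ⟨i, ?_⟩
    have := congrArg (fun y : ↥Z => (y : G)) hi
    simpa only [Subgroup.coe_zpow] using this
  · exact zpowers_le.mpr g₀.2

/-- in a cyclic group of order divisible by 4, the elements of square one are squares. -/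
theorem n9a_inv_mem_sq (g : G) (h4 : 4 ∣ orderOf g) (c : G) (hc : c ∈ zpowers g)
    (hc2 : c ^ 2 = 1) : c ∈ zpowers (g ^ 2) := by
  obtain ⟨i, hi⟩ := mem_zpowers_iff.mp hc
  rw [← hi, ← zpow_natCast, ← zpow_mul] at hc2
  have h6 : (orderOf g : ℤ) ∣ i * ((2 : ℕ) : ℤ) := orderOf_dvd_iff_zpow_eq_one.mpr hc2
  have h7 : ((4 : ℕ) : ℤ) ∣ i * ((2 : ℕ) : ℤ) := (Int.natCast_dvd_natCast.mpr h4).trans h6
  have h8 : (2 : ℤ) ∣ i := by
    obtain ⟨t, ht⟩ := h7
    refine ⟨t, ?_⟩
    push_cast at ht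
    omega
  obtain ⟨j, rfl⟩ := h8
  rw [← hi]
  refine mem_zpowers_iff.mpr ⟨j, ?_⟩
  rw [← zpow_natCast, ← zpow_mul]
  norm_num

/-- the squares of a cyclic 2-group of order `2 ^ n`, `n ≥ 1`, have index 2. -/
theorem n9a_sq_relIndex [Finite G] (g : G) (n : ℕ) (hn : 1 ≤ n) (hord : orderOf g = 2 ^ n) :
    (zpowers (g ^ 2)).relIndex (zpowers g) = 2 := by
  have hle : zpowers (g ^ 2) ≤ zpowers g := zpowers_le.mpr (pow_mem (mem_zpowers g) 2)
  have h5 := n9a_card_relIndex hle
  rw [Nat.card_zpowers, Nat.card_zpowers, orderOf_pow] at h5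
  have h6 : (orderOf g).gcd 2 = 2 := by
    apply Nat.gcd_eq_right
    rw [hord]
    exact dvd_pow_self 2 (by omega)
  rw [h6, hord] at h5
  obtain ⟨k, rfl⟩ : ∃ k, n = k + 1 := ⟨n - 1, by omega⟩
  rw [pow_succ, Nat.mul_div_cancel _ (by norm_num)] at h5
  exact Nat.eq_of_mul_eq_mul_left (by positivity) h5

end Cfsg.Agent.Helper39.N9
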