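import Cfsg.Agent.Helper55.N9Defs
import Cfsg.Agent.Helper39.N9Aux

/-!
# S4409 (CALL of helper55), piece C2b (helper39).
-/

set_option autoImplicit false

namespace Cfsg.Agent.Helper39.N9

open Subgroup Cfsg.Agent.Helper55.N9
open scoped commutatorElement

variable {G : Type*} [Group G] [Finite G]

theorem n9a_q8_not_comm : ¬ ∀ a b : QuaternionGroup 2, a * b = b * a := by
  intro h
  have h1 := h (QuaternionGroup.a 1) (QuaternionGroup.xa 0)
  revert h1
  decide

-- C2b
theorem n9_case2_frat (T : Tools G) (X K : Subgroup G) (c : Core X K) (hXK : ⁅X, K⁆ = X)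
    (hni : NoIdx2 K X)
    (hna : ¬ ∀ a ∈ X, ∀ b ∈ X, a * b = b * a)
    (hs : ∀ Y : Subgroup G, Y ≤ X → Y ≠ X → K ≤ normalizer (Y : Set G) →
      ¬ Y ≤ centralizer (K : Set G) → MinCfg K Y ∧ (IsV4 Y ∨ IsQ8 Y))
    (hmf : ∀ Y : Subgroup G, Y ≤ X → MinCfg K Y → MinFacts K Y)
    (hsq : ∀ x ∈ X, x ^ 2 ∈ zc X) :
    ∀ M : Subgroup G, M ≤ X → M.relIndex X = 2 → zc X ≤ M := by
  classical
  intro M hMX hidx
  have hZX : zc X ≤ X := inf_le_left
  have hKZ := n9a_zc_inv X K c.inv
  by_cases hZK : zc X ≤ centralizer (K : Set G)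
  · intro v hv
    exact T.norm_trick X K c.pX c.odd c.inv hni v (hZX hv) (hZK hv) M hMX hidx
  · obtain ⟨hmin, hV⟩ := hs (zc X) hZX (n9a_zc_ne hna) hKZ hZK
    have hV4 : IsV4 (zc X) := by
      rcases hV with h | h
      · exact h
      · exfalso
        obtain ⟨e⟩ := h
        apply n9a_q8_not_comm
        intro a b
        have h1 : e.symm a * e.symm b = e.symm b * e.symm a :=
          Subtype.ext (n9a_zc_comm (e.symm a).2 (e.symm b).2.1)
        rw [← map_mul, ← map_mul] at h1
        exact e.symm.injective h1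
    have mf := hmf (zc X) hZX hmin
    by_contra hle
    have hWrel : (zc X ⊓ M).relIndex (zc X) = 2 := by
      rw [inf_relIndex_left]
      have h1 : M.relIndex (zc X) ≤ M.relIndex X :=
        relIndex_le_of_le_right hZX (by rw [hidx]; norm_num)
      rw [hidx] at h1
      have h2 : M.relIndex (zc X) ≠ 1 := fun h => hle (relIndex_eq_one.mp h)
      have h3 : M.relIndex (zc X) ≠ 0 := Subgroup.index_ne_zero_of_finite
      omega
    have hWcard : Nat.card ↥(zc X ⊓ M) = 2 := by
      have := n9a_card_relIndex (inf_le_left : zc X ⊓ M ≤ zc X)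
      rw [hWrel, hV4.1] at this
      omega
    have hsqW : ∀ x ∈ X, x ^ 2 ∈ zc X ⊓ M := by
      intro x hx
      refine ⟨hsq x hx, ?_⟩
      have h1 : (M.subgroupOf X).index = 2 := hidx
      have h2 := sq_mem_of_index_two h1 (⟨x, hx⟩ : ↥X)
      rw [mem_subgroupOf] at h2
      simpa using h2
    by_cases hex : ∃ x ∈ X, x ^ 2 ≠ 1
    · obtain ⟨x, hx, hx2⟩ := hex
      apply mf.noidx2 (zc X ⊓ M) inf_le_left hWrel
      apply n9a_normalizer_of_conj
      intro k hk u hu
      by_cases hu1 : u = 1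
      · rw [hu1, mul_one, mul_inv_cancel]
        exact one_mem _
      · obtain ⟨y, hy, hyuniq⟩ := (Nat.card_eq_two_iff' (1 : ↥(zc X ⊓ M))).mp hWcard
        have e1 : (⟨u, hu⟩ : ↥(zc X ⊓ M)) = y :=
          hyuniq _ (fun h => hu1 (congrArg Subtype.val h))
        have e2 : (⟨x ^ 2, hsqW x hx⟩ : ↥(zc X ⊓ M)) = y :=
          hyuniq _ (fun h => hx2 (congrArg Subtype.val h))
        have e3 : u = x ^ 2 := congrArg Subtype.val (e1.trans e2.symm)
        rw [e3, ← conj_pow]
        exact hsqW _ (n9a_conj_mem c.inv hk hx)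
    · apply hna
      push_neg at hex
      intro a ha b hb
      have h1 := hex a ha
      have h2 := hex b hb
      have h3 := hex (a * b) (mul_mem ha hb)
      have ha' : a⁻¹ = a := inv_eq_of_mul_eq_one_right (by rw [← pow_two]; exact h1)
      have hb' : b⁻¹ = b := inv_eq_of_mul_eq_one_right (by rw [← pow_two]; exact h2)
      have hab' : (a * b)⁻¹ = a * b := inv_eq_of_mul_eq_one_right (by rw [← pow_two]; exact h3)
      calc a * b = (a * b)⁻¹ := hab'.symm
        _ = b⁻¹ * a⁻¹ := mul_inv_rev a b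
        _ = b * a := by rw [ha', hb']

end Cfsg.Agent.Helper39.N9
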