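import Cfsg.Agent.Helper55.N9Defs
import Cfsg.Agent.Helper39.N9Aux
import Cfsg.Agent.Helper39.N9Aux2

/-!
# S4409 (CALL of helper55), piece M5b (helper39).
-/

set_option autoImplicit false

namespace Cfsg.Agent.Helper39.N9

open Subgroup Cfsg.Agent.Helper55.N9
open scoped commutatorElement

variable {G : Type*} [Group G] [Finite G]

-- M5b
theorem n9_min_center2 (T : Tools G) (K D : Subgroup G) (h : MinCfg K D) (mf : MinFacts K D)
    (hD : IsPGroup 2 D) (hK : Odd (Nat.card K))
    (hna : ¬ ∀ a ∈ D, ∀ b ∈ D, a * b = b * a) (hN : NoA8 D) :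
    Nat.card (zc D) = 2 := by
  classical
  haveI : Fact (Nat.Prime 2) := ⟨Nat.prime_two⟩
  obtain ⟨hsq, hcomle, hZK, hZne⟩ := mf.sq hna
  have hZD : zc D ≤ D := inf_le_left
  have hpZ : IsPGroup 2 (zc D) := hD.to_le hZD
  have habZ : ∀ a ∈ zc D, ∀ b ∈ zc D, a * b = b * a := fun a ha b hb => n9a_zc_comm ha hb.1
  have hNo : NoA8 (zc D) := hN.mono hZD
  have hcomne := n9a_comm_ne_bot hna
  have hcomsq := n9a_comm_sq hsq
  obtain ⟨n, hn⟩ := IsPGroup.iff_card.mp hpZ
  obtain ⟨x, hxD, hxZ⟩ : ∃ x ∈ D, x ∉ zc D := by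
    by_contra hcon
    push_neg at hcon
    exact hZne (le_antisymm hZD hcon)
  have hxcomm : ∀ z ∈ zc D, x * z = z * x := fun z hz => (n9a_zc_comm hz hxD).symm
  have hZne1 : zc D ≠ ⊥ := by
    intro hbot
    rw [hbot] at hcomle
    exact hcomne (le_bot_iff.mp hcomle)
  have hn1 : n ≠ 0 := by
    rintro rfl
    rw [pow_zero] at hn
    exact hZne1 (Subgroup.card_eq_one.mp hn)
  by_cases hcyc : IsCyclic ↥(zc D)
  · by_contra hcard
    have hn2 : 2 ≤ n := by
      by_contra hlt
      have h1 : n = 1 := by omega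
      rw [h1, pow_one] at hn
      exact hcard hn
    obtain ⟨g, hgZ, hZeq⟩ := n9a_cyclic_gen (zc D) hcyc
    have hord : orderOf g = 2 ^ n := by
      rw [← hn, hZeq, Nat.card_zpowers]
    have h4 : 4 ∣ orderOf g := by
      rw [hord]
      exact pow_dvd_pow 2 hn2
    have hWle : zpowers (g ^ 2) ≤ zc D := zpowers_le.mpr (pow_mem hgZ 2)
    have hWrel : (zpowers (g ^ 2)).relIndex (zc D) = 2 := by
      rw [hZeq]
      exact n9a_sq_relIndex g n (by omega) hord
    have hinvW : ∀ c ∈ zc D, c ^ 2 = 1 → c ∈ zpowers (g ^ 2) := by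
      intro c hc hc2
      rw [hZeq] at hc
      exact n9a_inv_mem_sq g h4 c hc hc2
    have hcomW : ∀ a ∈ D, ∀ b ∈ D, ⁅a, b⁆ ∈ zpowers (g ^ 2) := by
      intro a ha b hb
      have hc : ⁅a, b⁆ ∈ (⁅D, D⁆ : Subgroup G) := commutator_mem_commutator ha hb
      exact hinvW _ (hcomle hc) (hcomsq _ hc)
    have hWK : ∀ k ∈ K, ∀ w ∈ zpowers (g ^ 2), k * w * k⁻¹ = w := by
      intro k hk w hw
      have h1 : w ∈ centralizer (K : Set G) := hZK (hWle hw)
      rw [mem_centralizer_iff] at h1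
      rw [h1 k hk, mul_inv_cancel_right]
    -- the product of two elements of the centre outside the squares is a square
    have hprod : ∀ a ∈ zc D, ∀ b ∈ zc D, a ∉ zpowers (g ^ 2) → b ∉ zpowers (g ^ 2) →
        a * b ∈ zpowers (g ^ 2) := by
      intro a ha b hb haW hbW
      have hidx : ((zpowers (g ^ 2)).subgroupOf (zc D)).index = 2 := hWrel
      have h1 := Subgroup.mul_mem_iff_of_index_two hidx (a := ⟨a, ha⟩) (b := ⟨b, hb⟩)
      rw [mem_subgroupOf, mem_subgroupOf, mem_subgroupOf] at h1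
      exact h1.mpr ⟨fun h' => absurd h' haW, fun h' => absurd h' hbW⟩
    have hsqmul : ∀ a b : G, (a * b) ^ 2 = a ^ 2 * ⁅a⁻¹, b⁆ * b ^ 2 := by
      intro a b
      rw [commutatorElement_def, pow_two, pow_two, pow_two]
      group
    -- all squares of `D` are squares of the centre
    have hsqW : ∀ y ∈ D, y ^ 2 ∈ zpowers (g ^ 2) := by
      by_contra hcon
      push_neg at hcon
      obtain ⟨a, haD, haW⟩ := hcon
      let M : Subgroup G :=
        { carrier := {y | y ∈ D ∧ y ^ 2 ∈ zpowers (g ^ 2)}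
          mul_mem' := by
            rintro y₁ y₂ ⟨h1, h1'⟩ ⟨h2, h2'⟩
            refine ⟨mul_mem h1 h2, ?_⟩
            rw [hsqmul]
            exact mul_mem (mul_mem h1' (hcomW _ (inv_mem h1) _ h2)) h2'
          one_mem' := ⟨one_mem _, by rw [one_pow]; exact one_mem _⟩
          inv_mem' := by
            rintro y ⟨h1, h1'⟩
            refine ⟨inv_mem h1, ?_⟩
            rw [inv_pow]
            exact inv_mem h1' }
      have hMD : M ≤ D := fun y hy => hy.1
      have hMne : a ∉ M := fun hy => haW hy.2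
      have hMdvd : M.relIndex D ∣ 2 := by
        rw [relIndex_dvd_two_iff]
        refine ⟨a, haD, fun b hb => ?_⟩
        by_cases hbM : b ^ 2 ∈ zpowers (g ^ 2)
        · exact Or.inr ⟨hb, hbM⟩
        · left
          refine ⟨mul_mem hb haD, ?_⟩
          rw [hsqmul]
          have hc := hcomW _ (inv_mem hb) _ haD
          have hcZ : ⁅b⁻¹, a⁆ ∈ zc D := hWle hc
          have e : b ^ 2 * ⁅b⁻¹, a⁆ * a ^ 2 = ⁅b⁻¹, a⁆ * (b ^ 2 * a ^ 2) := by
            rw [habZ _ (hsq b hb) _ hcZ, mul_assoc]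
          rw [e]
          exact mul_mem hc (hprod _ (hsq b hb) _ (hsq a haD) hbM haW)
      have hMrel : M.relIndex D = 2 := by
        have h1 : M.relIndex D ≠ 1 := fun h' => hMne (relIndex_eq_one.mp h' haD)
        rcases (Nat.dvd_prime Nat.prime_two).mp hMdvd with h' | h'
        · exact absurd h' h1
        · exact h'
      apply mf.noidx2 M hMD hMrel
      apply n9a_normalizer_of_conj
      intro k hk y hy
      refine ⟨n9a_conj_mem h.inv hk hy.1, ?_⟩
      rw [conj_pow, hWK k hk _ hy.2]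
      exact hy.2
    -- the involution `u = x w⁻¹`
    obtain ⟨j, hj⟩ := mem_zpowers_iff.mp (hsqW x hxD)
    obtain ⟨w, hw⟩ : ∃ w : G, w = g ^ j := ⟨_, rfl⟩
    have hwZ : w ∈ zc D := by rw [hw]; exact zpow_mem hgZ j
    have hw2 : w ^ 2 = x ^ 2 := by
      rw [hw, ← hj, ← zpow_natCast, ← zpow_natCast, ← zpow_mul, ← zpow_mul, mul_comm]
    have hxw : x * w⁻¹ = w⁻¹ * x := hxcomm _ (inv_mem hwZ)
    obtain ⟨u, hu⟩ : ∃ u : G, u = x * w⁻¹ := ⟨_, rfl⟩
    have huD : u ∈ D := by rw [hu]; exact mul_mem hxD (inv_mem (hZD hwZ))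
    have huZ : u ∉ zc D := by
      intro huZ
      apply hxZ
      have : x = u * w := by rw [hu]; group
      rw [this]
      exact mul_mem huZ hwZ
    have hu2 : u ^ 2 = 1 := by
      rw [hu, pow_two]
      calc x * w⁻¹ * (x * w⁻¹) = x * (w⁻¹ * x) * w⁻¹ := by group
        _ = x * (x * w⁻¹) * w⁻¹ := by rw [hxw]
        _ = x ^ 2 * (w ^ 2)⁻¹ := by rw [pow_two, pow_two]; group
        _ = 1 := by rw [hw2, mul_inv_cancel]
    obtain ⟨t, ht⟩ : ∃ t : G, t = g ^ 2 ^ (n - 2) := ⟨_, rfl⟩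
    have htZ : t ∈ zc D := by rw [ht]; exact pow_mem hgZ _
    have hto : orderOf t = 4 := by
      rw [ht, orderOf_pow, hord]
      have h1 : Nat.gcd (2 ^ n) (2 ^ (n - 2)) = 2 ^ (n - 2) :=
        Nat.gcd_eq_right (pow_dvd_pow 2 (Nat.sub_le n 2))
      rw [h1, Nat.pow_div (Nat.sub_le n 2) (by norm_num)]
      have h2 : n - (n - 2) = 2 := by omega
      rw [h2]
    have hZ4le : zpowers t ≤ zc D := zpowers_le.mpr htZ
    have huZ4 : u ∉ zpowers t := fun h' => huZ (hZ4le h')
    have hu2' : u ^ 2 ∈ zpowers t := by rw [hu2]; exact one_mem _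
    have hucomm : ∀ z ∈ zpowers t, u * z = z * u := fun z hz =>
      (n9a_zc_comm (hZ4le hz) huD).symm
    obtain ⟨hchar, -⟩ := n9a_ext2 (zpowers t) u huZ4 hu2' hucomm
    have hAcomm := n9a_ext2_comm (zpowers t) u
      (fun a ha b hb => habZ a (hZ4le ha) b (hZ4le hb)) hucomm
    have hAcard : Nat.card ↥(zpowers t ⊔ zpowers u) = 8 := by
      rw [n9a_ext2_card (zpowers t) u huZ4 hu2' hucomm, Nat.card_zpowers, hto]
    have hAD : zpowers t ⊔ zpowers u ≤ D := sup_le (hZ4le.trans hZD) (zpowers_le.mpr huD)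
    have ht4 : ∀ z ∈ zpowers t, z ^ 4 = 1 := by
      intro z hz
      obtain ⟨i, rfl⟩ := mem_zpowers_iff.mp hz
      rw [← zpow_natCast, ← zpow_mul, mul_comm, zpow_mul, zpow_natCast]
      have : t ^ 4 = 1 := by rw [← hto]; exact pow_orderOf_eq_one t
      rw [this, one_zpow]
    have hexp : ∀ b ∈ zpowers t ⊔ zpowers u, b ^ 4 = 1 := by
      intro b hb
      rcases hchar b hb with h1 | h1
      · exact ht4 b h1
      · have hcm : Commute (b * u) u⁻¹ := by
          have := hucomm _ h1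
          exact (Commute.inv_left (this : Commute u (b * u))).symm
        have e : b = b * u * u⁻¹ := by group
        rw [e, hcm.mul_pow, ht4 _ h1, inv_pow]
        have : u ^ 4 = 1 := by
          have : u ^ 4 = (u ^ 2) ^ 2 := by rw [← pow_mul]
          rw [this, hu2, one_pow]
        rw [this, inv_one, one_mul]
    apply hN
    refine ⟨zpowers t ⊔ zpowers u, hAD, ⟨⟨fun a b => Subtype.ext (hAcomm a a.2 b b.2)⟩⟩, ?_, hAcard⟩
    intro hc
    obtain ⟨a, ha⟩ := hc.exists_generator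
    have hoa : orderOf a = 8 := by
      rw [orderOf_eq_card_of_forall_mem_zpowers ha, hAcard]
    have ha4 : a ^ 4 = 1 := by
      apply Subtype.ext
      have := hexp a a.2
      simpa using this
    have h8 := orderOf_dvd_of_pow_eq_one ha4
    rw [hoa] at h8
    omega
  · have h4 : Nat.card (zc D) ≤ 4 := by
      rcases T.ab8 (zc D) hpZ habZ hNo with h' | h'
      · exact absurd h' hcyc
      · exact h'
    have hn2 : n = 2 := by
      rw [hn] at h4
      have hle : n ≤ 2 := by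
        by_contra hgt
        have : 2 ^ 3 ≤ 2 ^ n := Nat.pow_le_pow_right (by norm_num) (by omega)
        omega
      interval_cases n
      · exact absurd rfl hn1
      · exfalso
        apply hcyc
        rw [pow_one] at hn
        exact isCyclic_of_prime_card hn
      · rfl
    rw [hn2] at hn
    exfalso
    have hAcomm := n9a_ext2_comm (zc D) x habZ hxcomm
    have hAcard : Nat.card ↥(zc D ⊔ zpowers x) = 8 := by
      rw [n9a_ext2_card (zc D) x hxZ (hsq x hxD) hxcomm, hn]
      norm_num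
    apply hN
    refine ⟨zc D ⊔ zpowers x, sup_le hZD (zpowers_le.mpr hxD),
      ⟨⟨fun a b => Subtype.ext (hAcomm a a.2 b b.2)⟩⟩, ?_, hAcard⟩
    intro hc
    apply hcyc
    haveI := hc
    have e := Subgroup.subgroupOfEquivOfLe (le_sup_left : zc D ≤ zc D ⊔ zpowers x)
    exact isCyclic_of_surjective e e.surjective

end Cfsg.Agent.Helper39.N9
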