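import Mathlib

set_option autoImplicit false

/-!
helper39: piece SPIN4 (double) of CALL NP (helper13; row S5989).
-/

namespace Cfsg.Agent.Helper39.NP5989

/-- SPIN4 [M, pure Mathlib]: a permutation with `σ⁴ = 1` and `σ²` fixed-point-free has all cycles of
length `4`. -/
theorem np_sign_four {α : Type*} [Fintype α] [DecidableEq α] (σ : Equiv.Perm α) (h4 : σ ^ 4 = 1)
    (hf : ∀ x, σ (σ x) ≠ x) :
    4 ∣ Fintype.card α ∧ Equiv.Perm.sign σ = (-1) ^ (Fintype.card α / 4) := by
  have hall : ∀ n ∈ σ.cycleType, n = 4 := by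
    intro n hn
    have h1 : n ∣ 4 := (Equiv.Perm.dvd_of_mem_cycleType hn).trans (orderOf_dvd_of_pow_eq_one h4)
    have h2 : 2 ≤ n := Equiv.Perm.two_le_of_mem_cycleType hn
    have h3 : n ≠ 2 := by
      rintro rfl
      rw [Equiv.Perm.cycleType_def, Multiset.mem_map] at hn
      obtain ⟨c, hc, hcard⟩ := hn
      have hc' : c ∈ σ.cycleFactorsFinset := hc
      rw [Equiv.Perm.mem_cycleFactorsFinset_iff] at hc'
      have hsw : c.IsSwap := Equiv.Perm.card_support_eq_two.mp hcard
      obtain ⟨a, b, hab, rfl⟩ := hsw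
      have ha : a ∈ (Equiv.swap a b).support := by
        rw [Equiv.Perm.mem_support, Equiv.swap_apply_left]
        exact hab.symm
      have hb : b ∈ (Equiv.swap a b).support := by
        rw [Equiv.Perm.mem_support, Equiv.swap_apply_right]
        exact hab
      have e1 : σ a = b := by rw [← hc'.2 a ha, Equiv.swap_apply_left]
      have e2 : σ b = a := by rw [← hc'.2 b hb, Equiv.swap_apply_right]
      exact hf a (by rw [e1, e2])
    have h5 : n ≤ 4 := Nat.le_of_dvd (by norm_num) h1
    interval_cases n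
    · exact absurd rfl h3
    · exact absurd h1 (by norm_num)
    · rfl
  have hrep : σ.cycleType = Multiset.replicate (Multiset.card σ.cycleType) 4 :=
    Multiset.eq_replicate.mpr ⟨rfl, hall⟩
  have hsupp : σ.support = Finset.univ := by
    ext x
    simp only [Equiv.Perm.mem_support, Finset.mem_univ, iff_true]
    intro hx
    exact hf x (by rw [hx, hx])
  have hsum : σ.cycleType.sum = Fintype.card α := by
    rw [Equiv.Perm.sum_cycleType, hsupp, Finset.card_univ]
  have hsum' : Fintype.card α = Multiset.card σ.cycleType * 4 := by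
    rw [← hsum]
    conv_lhs => rw [hrep]
    simp only [Multiset.sum_replicate, smul_eq_mul]
  refine ⟨⟨Multiset.card σ.cycleType, by rw [hsum']; ring⟩, ?_⟩
  rw [Equiv.Perm.sign_of_cycleType, hsum, hsum']
  have h6 : Multiset.card σ.cycleType * 4 / 4 = Multiset.card σ.cycleType := by omega
  rw [h6, pow_add, mul_comm (Multiset.card σ.cycleType) 4, pow_mul]
  have h7 : ((-1 : ℤˣ)) ^ 4 = 1 := by decide
  rw [h7, one_pow, one_mul]

end Cfsg.Agent.Helper39.NP5989
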