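import Mathlib
import Cfsg.Agent.Helper95.OTSDefs

set_option autoImplicit false

/-!
# CALL OTS (helper95, S5972): piece MAX (helper39, double).
Port of `ti_orth` (`Cfsg/Agent/Helper11/TIORTH.lean`) and `ti_max`
(`Cfsg/Agent/Helper59/TIMAXTI.lean`) to symmetric forms.
-/

namespace Cfsg.Agent.Helper39.OTS

open Module Polynomial
open Cfsg.Agent.Helper13.TIsp Cfsg.Agent.Helper42.SpGroup Cfsg.Agent.Helper42.SpModels
open Cfsg.Agent.Helper95.OTS

variable {F : Type*} [Field F] {V : Type*} [AddCommGroup V] [Module F V] [FiniteDimensional F V]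
  (B : LinearMap.BilinForm F V)

/-- the perp of `W` inside a nondegenerate `D` (symmetric form). -/
theorem otsmax_orth (hsym : ∀ u v, B u v = B v u) (D W : Submodule F V) (hD : NondegOn B D)
    (hW : W ≤ D) :
    ∃ P : Submodule F V, (∀ v, v ∈ P ↔ v ∈ D ∧ ∀ w ∈ W, B v w = 0) ∧
      finrank F P + finrank F W = finrank F D := by
  have hB' : ∀ x y : D, (B.restrict D) x y = B x y := fun x y => rfl
  have hker : W.comap D.subtype ⊓ LinearMap.ker (B.restrict D) = ⊥ := by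
    rw [eq_bot_iff]
    rintro x ⟨-, hx⟩
    rw [Submodule.mem_bot]
    have hx' : (B.restrict D) x = 0 := LinearMap.mem_ker.mp hx
    apply Subtype.ext
    apply hD x x.2
    intro w hw
    have h3 : (B.restrict D) x ⟨w, hw⟩ = 0 := by rw [hx']; rfl
    exact h3
  have hfin := LinearMap.BilinForm.finrank_add_finrank_orthogonal' (B := B.restrict D)
    (W.comap D.subtype)
  rw [hker, finrank_bot, add_zero] at hfin
  have hW'fin : finrank F (W.comap D.subtype) = finrank F W := by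
    rw [← Submodule.finrank_map_subtype_eq D (W.comap D.subtype), Submodule.map_comap_subtype,
      inf_eq_right.mpr hW]
  refine ⟨((B.restrict D).orthogonal (W.comap D.subtype)).map D.subtype, ?_, ?_⟩
  · intro v
    constructor
    · rintro ⟨x, hx, rfl⟩
      refine ⟨x.2, fun w hw => ?_⟩
      have h4 : (B.restrict D) ⟨w, hW hw⟩ x = 0 := hx ⟨w, hW hw⟩ hw
      rw [hB'] at h4
      rw [hsym]
      exact h4
    · rintro ⟨hvD, hv⟩
      refine ⟨⟨v, hvD⟩, ?_, rfl⟩
      intro n hn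
      show (B.restrict D) n ⟨v, hvD⟩ = 0
      rw [hB', hsym]
      exact hv n hn
  · rw [Submodule.finrank_map_subtype_eq, ← hW'fin]
    omega

/-- PIECE MAX (port of `ti_max` in `Cfsg/Agent/Helper59/TIMAXTI.lean`; it needs the symmetric
analogue of `ti_orth` (`Cfsg/Agent/Helper11/TIORTH.lean`), port it into your file; `ti_compl`
(`Cfsg.Agent.Helper58.TI5955.ti_compl`) is form-free and can be used as is). -/
theorem sym_max (hsym : ∀ u v, B u v = B v u) (T : Module.End F V) (hT : Preserves B T) (N : ℕ)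
    (hN : (N : F) ≠ 0) (hTN : T ^ N = 1) (D : Submodule F V) (hDT : D.map T ≤ D)
    (hD : NondegOn B D) :
    ∃ W U : Submodule F V, W ≤ D ∧ U ≤ D ∧ TI B W ∧ W.map T ≤ W ∧ U.map T ≤ U ∧
      finrank F D = 2 * finrank F W + finrank F U ∧
      ∀ W' : Submodule F V, W' ≤ U → TI B W' → W'.map T ≤ W' → W' = ⊥ := by
  classical
  -- the set of dimensions of invariant t.i. subspaces of `D`
  have hex : ∃ k, ∃ W : Submodule F V, W ≤ D ∧ TI B W ∧ W.map T ≤ W ∧ finrank F W = k :=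
    ⟨0, ⊥, bot_le, fun u hu v _ => by
      rw [Submodule.mem_bot] at hu; rw [hu]; simp, by simp, by simp⟩
  have hbd : ∀ k, (∃ W : Submodule F V, W ≤ D ∧ TI B W ∧ W.map T ≤ W ∧ finrank F W = k) →
      k ≤ finrank F V := by
    rintro k ⟨W, -, -, -, rfl⟩
    exact Submodule.finrank_le W
  obtain ⟨W, hWD, hWTI, hWT, hWmax⟩ : ∃ W : Submodule F V, W ≤ D ∧ TI B W ∧ W.map T ≤ W ∧
      ∀ W₂ : Submodule F V, W₂ ≤ D → TI B W₂ → W₂.map T ≤ W₂ → finrank F W₂ ≤ finrank F W := by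
    obtain ⟨W, h1, h2, h3, h4⟩ := Nat.findGreatest_spec (P := fun k => ∃ W : Submodule F V,
      W ≤ D ∧ TI B W ∧ W.map T ≤ W ∧ finrank F W = k) (hbd _ hex.choose_spec) hex.choose_spec
    refine ⟨W, h1, h2, h3, fun W₂ hW₂D hW₂TI hW₂T => ?_⟩
    rw [h4]
    exact Nat.le_findGreatest (hbd _ ⟨W₂, hW₂D, hW₂TI, hW₂T, rfl⟩) ⟨W₂, hW₂D, hW₂TI, hW₂T, rfl⟩
  -- the inverse of `T` on invariant subspaces
  have hNpos : 0 < N := by
    rcases Nat.eq_zero_or_pos N with h | h
    · rw [h] at hN; simp at hN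
    · exact h
  have hinv : ∀ v, T ((T ^ (N - 1)) v) = v := by
    intro v
    have h : T * T ^ (N - 1) = 1 := by
      rw [← pow_succ', Nat.sub_add_cancel hNpos, hTN]
    have h2 := congrArg (fun S : Module.End F V => S v) h
    simpa using h2
  have hpowmem : ∀ (X : Submodule F V), X.map T ≤ X → ∀ k : ℕ, ∀ v ∈ X, (T ^ k) v ∈ X := by
    intro X hX k
    induction k with
    | zero => intro v hv; simpa using hv
    | succ k ih =>
      intro v hv
      rw [pow_succ']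
      exact hX ⟨_, ih v hv, rfl⟩
  -- the perp of `W` in `D`
  obtain ⟨P, hP, hdim⟩ := otsmax_orth B hsym D W hD hWD
  have hWP : W ≤ P := fun v hv => (hP v).mpr ⟨hWD hv, fun w hw => hWTI v hv w hw⟩
  have hPD : P ≤ D := fun v hv => ((hP v).mp hv).1
  have hPT : P.map T ≤ P := by
    rintro _ ⟨v, hv, rfl⟩
    obtain ⟨hvD, hvW⟩ := (hP v).mp hv
    refine (hP _).mpr ⟨hDT ⟨v, hvD, rfl⟩, fun w hw => ?_⟩
    have h1 : B (T v) w = B (T v) (T ((T ^ (N - 1)) w)) := by rw [hinv]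
    rw [h1, hT]
    exact hvW _ (hpowmem W hWT (N - 1) w hw)
  obtain ⟨U, hUP, hUT, hWU, hWUP⟩ :=
    Cfsg.Agent.Helper58.TI5955.ti_compl T N hN hTN W P hWP hWT hPT
  have hdimP : finrank F P = finrank F W + finrank F U := by
    have h := Submodule.finrank_sup_add_finrank_inf_eq W U
    rw [hWU, hWUP, finrank_bot] at h
    omega
  refine ⟨W, U, hWD, hUP.trans hPD, hWTI, hWT, hUT, by omega, ?_⟩
  intro W' hW'U hW'TI hW'T
  -- `W ⊔ W'` is invariant and t.i.
  have hsupTI : TI B (W ⊔ W') := by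
    intro u hu v hv
    obtain ⟨u₁, hu₁, u₂, hu₂, rfl⟩ := Submodule.mem_sup.mp hu
    obtain ⟨v₁, hv₁, v₂, hv₂, rfl⟩ := Submodule.mem_sup.mp hv
    have h12 : B u₁ v₂ = 0 := by
      rw [hsym]
      exact ((hP v₂).mp (hUP (hW'U hv₂))).2 u₁ hu₁
    have h21 : B u₂ v₁ = 0 := ((hP u₂).mp (hUP (hW'U hu₂))).2 v₁ hv₁
    simp only [map_add, LinearMap.add_apply]
    rw [hWTI u₁ hu₁ v₁ hv₁, hW'TI u₂ hu₂ v₂ hv₂, h12, h21]
    simp
  have hsupT : (W ⊔ W').map T ≤ W ⊔ W' := by
    rw [Submodule.map_sup]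
    exact sup_le_sup hWT hW'T
  have hsupD : W ⊔ W' ≤ D := sup_le hWD ((hW'U.trans hUP).trans hPD)
  have hmax := hWmax (W ⊔ W') hsupD hsupTI hsupT
  have hinf : W ⊓ W' = ⊥ := by
    apply le_bot_iff.mp
    rw [← hWU]
    exact inf_le_inf_left W hW'U
  have h := Submodule.finrank_sup_add_finrank_inf_eq W W'
  rw [hinf, finrank_bot] at h
  have h0 : finrank F W' = 0 := by omega
  exact Submodule.finrank_eq_zero.mp h0

end Cfsg.Agent.Helper39.OTS
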