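-- helper39: piece LA13 of CALL S2358 (helper6): a group of matrices over a finite field commuting
-- with an element of prime order `p` in dimension 7, `q` of order 6 modulo `p`, and of order prime
-- to `q - 1`, is cyclic (it acts faithfully by scalars on an eigenvector over the algebraic closure).
import Mathlib
import Cfsg.Agent.Helper80.Ree2358LA0

set_option autoImplicit false

namespace Cfsg.Agent.Helper39

open Matrix

/-- Coordinatewise Frobenius powers commute with matrices defined over the small field. -/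
theorem ree2358_frob_mulVec {K L : Type*} [Field K] [Fintype K] [Field L] [Algebra K L]
    (M : Matrix (Fin 7) (Fin 7) K) (v : Fin 7 → L) (k : ℕ) :
    (M.map (algebraMap K L)).mulVec (fun i => v i ^ Fintype.card K ^ k)
      = fun i => ((M.map (algebraMap K L)).mulVec v i) ^ Fintype.card K ^ k := by
  have hτ : ∀ x : L, ((FiniteField.frobeniusAlgHom K L) ^ k) x = x ^ Fintype.card K ^ k := by
    intro x
    rw [AlgHom.coe_pow, FiniteField.coe_frobeniusAlgHom, pow_iterate]
  have hMτ : (M.map (algebraMap K L)).map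
      (((FiniteField.frobeniusAlgHom K L) ^ k : L →ₐ[K] L) : L →+* L)
      = M.map (algebraMap K L) := by
    ext i j
    simp only [Matrix.map_apply]
    exact ((FiniteField.frobeniusAlgHom K L) ^ k).commutes (M i j)
  funext i
  have h1 := RingHom.map_mulVec (((FiniteField.frobeniusAlgHom K L) ^ k : L →ₐ[K] L) : L →+* L)
    (M.map (algebraMap K L)) v i
  rw [hMτ] at h1
  have h2 : ((((FiniteField.frobeniusAlgHom K L) ^ k : L →ₐ[K] L) : L →+* L) ∘ v)
      = fun i => v i ^ Fintype.card K ^ k := by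
    funext j
    exact hτ (v j)
  rw [h2] at h1
  rw [← h1]
  exact hτ _

/-- The abstract form: a basis of eigenvectors with distinct eigenvalues, one vector rational,
the others Frobenius conjugates of one vector. -/
theorem ree2358_cyclic_aux {K L : Type*} [Field K] [Fintype K] [Field L] [Algebra K L]
    (A : Matrix (Fin 7) (Fin 7) K) (μ : Fin 7 → L) (hμ : Function.Injective μ)
    (v₀ : Fin 7 → K) (v₁ : Fin 7 → L) (b : Fin 7 → Fin 7 → L)
    (hb0 : b 0 = fun i => algebraMap K L (v₀ i))
    (hbs : ∀ k : Fin 6, b k.succ = fun i => v₁ i ^ Fintype.card K ^ (k : ℕ))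
    (hli : LinearIndependent L b)
    (heig : ∀ j, (A.map (algebraMap K L)).mulVec (b j) = μ j • b j)
    (Γ : Subgroup (GL (Fin 7) K))
    (hΓ : ∀ g ∈ Γ, (g : Matrix (Fin 7) (Fin 7) K) * A = A * (g : Matrix (Fin 7) (Fin 7) K))
    (hcop : Nat.Coprime (Nat.card Γ) (Fintype.card K - 1)) : IsCyclic Γ := by
  classical
  have hφinj : Function.Injective (algebraMap K L) := (algebraMap K L).injective
  let B : Module.Basis (Fin 7) L (Fin 7 → L) :=
    basisOfLinearIndependentOfCardEqFinrank hli (by simp)
  have hB : ∀ j, B j = b j := fun j => by simp [B]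
  -- eigenvectors for `μ j` are multiples of `b j`
  have hline : ∀ (j : Fin 7) (w : Fin 7 → L),
      (A.map (algebraMap K L)).mulVec w = μ j • w → ∃ c : L, w = c • b j := by
    intro j w hw
    have hsum : w = ∑ i, (B.repr w i) • b i := by
      conv_lhs => rw [← B.sum_repr w]
      simp only [hB]
    have h1 : ∑ i, (B.repr w i * (μ i - μ j)) • b i = 0 := by
      have e1 : (A.map (algebraMap K L)).mulVec w = ∑ i, (B.repr w i * μ i) • b i := by
        conv_lhs => rw [hsum]
        rw [Matrix.mulVec_sum]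
        apply Finset.sum_congr rfl
        intro i _
        rw [Matrix.mulVec_smul, heig i, smul_smul]
      have e2 : μ j • w = ∑ i, (B.repr w i * μ j) • b i := by
        conv_lhs => rw [hsum]
        rw [Finset.smul_sum]
        apply Finset.sum_congr rfl
        intro i _
        rw [smul_smul, mul_comm]
      have e3 : ∑ i, (B.repr w i * μ i) • b i - ∑ i, (B.repr w i * μ j) • b i = 0 := by
        rw [← e1, ← e2, hw, sub_self]
      rw [← e3, ← Finset.sum_sub_distrib]
      apply Finset.sum_congr rfl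
      intro i _
      rw [← sub_smul, mul_sub]
    have h2 := Fintype.linearIndependent_iff.mp hli _ h1
    refine ⟨B.repr w j, ?_⟩
    conv_lhs => rw [hsum]
    apply Finset.sum_eq_single j
    · intro i _ hij
      have h3 := h2 i
      have h4 : μ i - μ j ≠ 0 := sub_ne_zero.mpr (fun h => hij (hμ h))
      rw [(mul_eq_zero.mp h3).resolve_right h4, zero_smul]
    · intro h
      exact absurd (Finset.mem_univ j) h
  have hcomm : ∀ g ∈ Γ, ((g : Matrix (Fin 7) (Fin 7) K).map (algebraMap K L))
      * A.map (algebraMap K L)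
      = A.map (algebraMap K L) * ((g : Matrix (Fin 7) (Fin 7) K).map (algebraMap K L)) := by
    intro g hg
    rw [← Matrix.map_mul, ← Matrix.map_mul, hΓ g hg]
  have hgline : ∀ g ∈ Γ, ∀ j, ∃ c : L,
      ((g : Matrix (Fin 7) (Fin 7) K).map (algebraMap K L)).mulVec (b j) = c • b j := by
    intro g hg j
    apply hline j
    rw [Matrix.mulVec_mulVec, ← hcomm g hg, ← Matrix.mulVec_mulVec, heig j, Matrix.mulVec_smul]
  have hb_ne : ∀ j, b j ≠ 0 := fun j => hli.ne_zero j
  have hb1 : b (Fin.succ 0) = v₁ := by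
    rw [hbs]
    funext i
    simp
  obtain ⟨i₀, hi₀⟩ : ∃ i, v₁ i ≠ 0 := by
    by_contra hall
    push Not at hall
    exact hb_ne (Fin.succ 0) (by rw [hb1]; funext i; exact hall i)
  obtain ⟨i₁, hi₁⟩ : ∃ i, v₀ i ≠ 0 := by
    by_contra hall
    push Not at hall
    exact hb_ne 0 (by rw [hb0]; funext i; simp [hall i])
  have hd : ∀ g ∈ Γ, ((g : Matrix (Fin 7) (Fin 7) K).map (algebraMap K L)).mulVec v₁
      = (((g : Matrix (Fin 7) (Fin 7) K).map (algebraMap K L)).mulVec v₁ i₀ / v₁ i₀) • v₁ := by
    intro g hg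
    obtain ⟨c, hc⟩ := hgline g hg (Fin.succ 0)
    rw [hb1] at hc
    have hc' : c = ((g : Matrix (Fin 7) (Fin 7) K).map (algebraMap K L)).mulVec v₁ i₀ / v₁ i₀ := by
      rw [hc, Pi.smul_apply, smul_eq_mul, mul_div_assoc, div_self hi₀, mul_one]
    rw [← hc']
    exact hc
  -- the scalar by which `g` acts on `v₁`
  let d : Γ →* L :=
    { toFun := fun g => (((g : GL (Fin 7) K) : Matrix (Fin 7) (Fin 7) K).map
        (algebraMap K L)).mulVec v₁ i₀ / v₁ i₀
      map_one' := by
        show ((((1 : Γ) : GL (Fin 7) K) : Matrix (Fin 7) (Fin 7) K).map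
          (algebraMap K L)).mulVec v₁ i₀ / v₁ i₀ = 1
        rw [Subgroup.coe_one, Units.val_one,
          Matrix.map_one _ (map_zero (algebraMap K L)) (map_one (algebraMap K L)),
          Matrix.one_mulVec, div_self hi₀]
      map_mul' := by
        intro g h
        show ((((g * h : Γ) : GL (Fin 7) K) : Matrix (Fin 7) (Fin 7) K).map
          (algebraMap K L)).mulVec v₁ i₀ / v₁ i₀ = _
        rw [Subgroup.coe_mul, Units.val_mul, Matrix.map_mul, ← Matrix.mulVec_mulVec, hd h h.2,
          Matrix.mulVec_smul, hd g g.2]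
        simp only [Pi.smul_apply, smul_eq_mul]
        field_simp }
  have hdef : ∀ g : Γ, d g = (((g : GL (Fin 7) K) : Matrix (Fin 7) (Fin 7) K).map
      (algebraMap K L)).mulVec v₁ i₀ / v₁ i₀ := fun g => rfl
  have hker : ∀ g : Γ, d g = 1 → g = 1 := by
    intro g hg1
    have hgΓ := g.2
    obtain ⟨G, hG⟩ : ∃ G : Matrix (Fin 7) (Fin 7) K,
        G = ((g : GL (Fin 7) K) : Matrix (Fin 7) (Fin 7) K) := ⟨_, rfl⟩
    have hfix1 : (G.map (algebraMap K L)).mulVec v₁ = v₁ := by
      rw [hG, hd g hgΓ, ← hdef g, hg1, one_smul]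
    have hfixs : ∀ k : Fin 6, (G.map (algebraMap K L)).mulVec (b k.succ) = b k.succ := by
      intro k
      rw [hbs, ree2358_frob_mulVec, hfix1]
    obtain ⟨c₀, hc₀⟩ := hgline g hgΓ 0
    rw [← hG, hb0] at hc₀
    have hmap : (G.map (algebraMap K L)).mulVec (fun i => algebraMap K L (v₀ i))
        = fun i => algebraMap K L (G.mulVec v₀ i) := by
      funext i
      exact (RingHom.map_mulVec (algebraMap K L) G v₀ i).symm
    rw [hmap] at hc₀
    have hφi₁ : algebraMap K L (v₀ i₁) ≠ 0 := by
      intro h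
      exact hi₁ (hφinj (by rw [h, map_zero]))
    have hc₀' : c₀ = algebraMap K L (G.mulVec v₀ i₁ / v₀ i₁) := by
      have h1 := congrFun hc₀ i₁
      simp only [Pi.smul_apply, smul_eq_mul] at h1
      rw [map_div₀, h1, mul_div_assoc, div_self hφi₁, mul_one]
    have hGv : G.mulVec v₀ = (G.mulVec v₀ i₁ / v₀ i₁) • v₀ := by
      funext i
      apply hφinj
      have h1 := congrFun hc₀ i
      simp only [Pi.smul_apply, smul_eq_mul] at h1 ⊢
      rw [h1, hc₀', map_mul]
    obtain ⟨c, hc⟩ : ∃ c : K, c = G.mulVec v₀ i₁ / v₀ i₁ := ⟨_, rfl⟩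
    rw [← hc] at hGv
    have hpow : ∀ m : ℕ, (G ^ m).mulVec v₀ = c ^ m • v₀ := by
      intro m
      induction m with
      | zero => simp
      | succ m ih =>
        rw [pow_succ, ← Matrix.mulVec_mulVec, hGv, Matrix.mulVec_smul, ih, smul_smul, pow_succ,
          mul_comm]
    have hGn : G ^ Nat.card Γ = 1 := by
      have h1 : g ^ Nat.card Γ = 1 := pow_card_eq_one'
      have h2 : ((g ^ Nat.card Γ : Γ) : GL (Fin 7) K) = 1 := by
        rw [h1]
        rfl
      rw [Subgroup.coe_pow] at h2
      have h3 := congrArg (fun x : GL (Fin 7) K => (x : Matrix (Fin 7) (Fin 7) K)) h2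
      rw [Units.val_pow_eq_pow_val, Units.val_one] at h3
      rw [hG]
      exact h3
    have hcn : c ^ Nat.card Γ = 1 := by
      have h1 := hpow (Nat.card Γ)
      rw [hGn, Matrix.one_mulVec] at h1
      have h2 := congrFun h1 i₁
      simp only [Pi.smul_apply, smul_eq_mul] at h2
      have h3 : (c ^ Nat.card Γ - 1) * v₀ i₁ = 0 := by linear_combination -h2
      rcases mul_eq_zero.mp h3 with h4 | h4
      · exact sub_eq_zero.mp h4
      · exact absurd h4 hi₁
    have hc0 : c ≠ 0 := by
      intro h0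
      rw [h0, zero_pow Nat.card_pos.ne'] at hcn
      exact zero_ne_one hcn
    have hcq : c ^ (Fintype.card K - 1) = 1 := FiniteField.pow_card_sub_one_eq_one c hc0
    have hc1 : c = 1 := by
      have h1 : c ^ Nat.gcd (Nat.card Γ) (Fintype.card K - 1) = 1 :=
        pow_gcd_eq_one.mpr ⟨hcn, hcq⟩
      have h2 : Nat.gcd (Nat.card Γ) (Fintype.card K - 1) = 1 := hcop
      rw [h2, pow_one] at h1
      exact h1
    have hfix0 : (G.map (algebraMap K L)).mulVec (b 0) = b 0 := by
      rw [hb0, hmap, hGv, hc1, one_smul]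
    have hfix : ∀ j, (G.map (algebraMap K L)).mulVec (b j) = b j := by
      intro j
      exact Fin.cases hfix0 hfixs j
    have hG1 : G.map (algebraMap K L) = 1 := by
      apply Matrix.toLin'.injective
      apply B.ext
      intro j
      rw [hB, Matrix.toLin'_apply, hfix j, Matrix.toLin'_one, LinearMap.id_apply]
    have hG1' : G = 1 := by
      apply Matrix.map_injective hφinj
      show G.map (algebraMap K L) = (1 : Matrix (Fin 7) (Fin 7) K).map (algebraMap K L)
      rw [hG1, Matrix.map_one _ (map_zero (algebraMap K L)) (map_one (algebraMap K L))]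
    apply Subtype.ext
    apply Units.ext
    rw [← hG, hG1']
    rfl
  have hinj : Function.Injective d := by
    intro g h hgh
    have h1 : d (g⁻¹ * h) = 1 := by
      rw [map_mul, ← hgh, ← map_mul, inv_mul_cancel, map_one]
    have h2 := hker _ h1
    exact inv_mul_eq_one.mp h2
  exact isCyclic_of_injective_ringHom d hinj

theorem isCyclic_of_commute_order_six {K : Type*} [Field K] [Fintype K] {p : ℕ} (hp : p.Prime)
    (hpK : ¬ p ∣ Fintype.card K)
    (hord : ∀ k : ℕ, 0 < k → k < 6 → ¬ p ∣ Fintype.card K ^ k - 1)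
    (h6 : p ∣ Fintype.card K ^ 6 - 1)
    (A : Matrix (Fin 7) (Fin 7) K) (hA : A ^ p = 1) (hA1 : A ≠ 1)
    (Γ : Subgroup (GL (Fin 7) K))
    (hΓ : ∀ g ∈ Γ, (g : Matrix (Fin 7) (Fin 7) K) * A = A * (g : Matrix (Fin 7) (Fin 7) K))
    (hcop : Nat.Coprime (Nat.card Γ) (Fintype.card K - 1)) : IsCyclic Γ := by
  classical
  obtain ⟨lam, v₀, v₁, hlamp, hlam1, hAv₀, hAv₁, hli⟩ :=
    Cfsg.Agent.Helper80.exists_frobenius_eigenbasis hp hpK hord h6 A hA hA1
  have hqpos : 0 < Fintype.card K := Fintype.card_pos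
  have : Fact p.Prime := ⟨hp⟩
  have hlamord : orderOf lam = p := orderOf_eq_prime hlamp hlam1
  have hlam0 : lam ≠ 0 := by
    intro h
    rw [h, zero_pow hp.ne_zero] at hlamp
    exact zero_ne_one hlamp
  have hqk : ∀ k : ℕ, lam ^ Fintype.card K ^ k ≠ 1 := by
    intro k h
    have h1 : p ∣ Fintype.card K ^ k := by
      rw [← hlamord]
      exact orderOf_dvd_of_pow_eq_one h
    exact hpK (hp.dvd_of_dvd_pow h1)
  have hqij : ∀ i j : ℕ, i < j → j < 6 →
      lam ^ Fintype.card K ^ i ≠ lam ^ Fintype.card K ^ j := by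
    intro i j hij hj h
    have hle : Fintype.card K ^ i ≤ Fintype.card K ^ j := Nat.pow_le_pow_right hqpos hij.le
    have h1 : lam ^ (Fintype.card K ^ j - Fintype.card K ^ i) = 1 := by
      have h5 : lam ^ Fintype.card K ^ i * lam ^ (Fintype.card K ^ j - Fintype.card K ^ i) =
          lam ^ Fintype.card K ^ i * 1 := by
        rw [← pow_add, Nat.add_sub_cancel' hle, mul_one, h]
      exact mul_left_cancel₀ (pow_ne_zero _ hlam0) h5
    have h2 : p ∣ Fintype.card K ^ j - Fintype.card K ^ i := by
      rw [← hlamord]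
      exact orderOf_dvd_of_pow_eq_one h1
    have h3 : Fintype.card K ^ j - Fintype.card K ^ i =
        Fintype.card K ^ i * (Fintype.card K ^ (j - i) - 1) := by
      rw [Nat.mul_sub, mul_one, ← pow_add, Nat.add_sub_cancel' hij.le]
    rw [h3] at h2
    rcases hp.dvd_mul.mp h2 with h4 | h4
    · exact hpK (hp.dvd_of_dvd_pow h4)
    · exact hord (j - i) (Nat.sub_pos_of_lt hij) (by omega) h4
  have hμinj : Function.Injective
      (Fin.cases 1 (fun k : Fin 6 => lam ^ Fintype.card K ^ (k : ℕ)) :
        Fin 7 → AlgebraicClosure K) := by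
    intro a b hab
    induction a using Fin.cases with
    | zero =>
      induction b using Fin.cases with
      | zero => rfl
      | succ b =>
        have h1 : (1 : AlgebraicClosure K) = lam ^ Fintype.card K ^ (b : ℕ) := hab
        exact absurd h1.symm (hqk b)
    | succ a =>
      induction b using Fin.cases with
      | zero =>
        have h1 : lam ^ Fintype.card K ^ (a : ℕ) = (1 : AlgebraicClosure K) := hab
        exact absurd h1 (hqk a)
      | succ b =>
        have h1 : lam ^ Fintype.card K ^ (a : ℕ) = lam ^ Fintype.card K ^ (b : ℕ) := hab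
        congr 1
        apply Fin.ext
        by_contra hne
        rcases Nat.lt_or_gt_of_ne hne with h | h
        · exact hqij a b h b.2 h1
        · exact hqij b a h a.2 h1.symm
  obtain ⟨b, hb⟩ : ∃ b : Fin 7 → Fin 7 → AlgebraicClosure K,
      b = fun j : Fin 7 => (Fin.cases (fun i => algebraMap K (AlgebraicClosure K) (v₀ i))
        (fun (k : Fin 6) (i : Fin 7) => v₁ i ^ (Fintype.card K ^ (k : ℕ))) j :
          Fin 7 → AlgebraicClosure K) := ⟨_, rfl⟩
  obtain ⟨μ, hμdef⟩ : ∃ μ : Fin 7 → AlgebraicClosure K,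
      μ = Fin.cases 1 (fun k : Fin 6 => lam ^ Fintype.card K ^ (k : ℕ)) := ⟨_, rfl⟩
  rw [← hb] at hli
  rw [← hμdef] at hμinj
  have hb0 : b 0 = fun i => algebraMap K (AlgebraicClosure K) (v₀ i) := by
    rw [hb]
    simp only [Fin.cases_zero]
  have hbs : ∀ k : Fin 6, b k.succ = fun i => v₁ i ^ Fintype.card K ^ (k : ℕ) := by
    intro k
    rw [hb]
    simp only [Fin.cases_succ]
  have hμ0 : μ 0 = 1 := by
    rw [hμdef]
    rfl
  have hμs : ∀ k : Fin 6, μ k.succ = lam ^ Fintype.card K ^ (k : ℕ) := by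
    intro k
    rw [hμdef]
    rfl
  have heig : ∀ j : Fin 7, (A.map (algebraMap K (AlgebraicClosure K))).mulVec (b j)
      = μ j • b j := by
    intro j
    induction j using Fin.cases with
    | zero =>
      rw [hb0, hμ0, one_smul]
      funext i
      have h1 := RingHom.map_mulVec (algebraMap K (AlgebraicClosure K)) A v₀ i
      rw [hAv₀] at h1
      exact h1.symm
    | succ k =>
      rw [hbs, hμs, ree2358_frob_mulVec, hAv₁]
      funext i
      simp only [Pi.smul_apply, smul_eq_mul, mul_pow]
  exact ree2358_cyclic_aux A μ hμinj v₀ v₁ b hb0 hbs hli heig Γ hΓ hcop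

end Cfsg.Agent.Helper39
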