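import Mathlib

/-!
# PIECE Y of CALL S2359 (helper6) — helper39

A `p`-element is conjugate into a subgroup containing a Sylow `p`-subgroup.
-/

set_option autoImplicit false

namespace Cfsg.Agent.Helper39

theorem exists_conj_mem_of_factorization_eq {G : Type*} [Group G] [Finite G] {p : ℕ}
    [Fact p.Prime] (D : Subgroup G)
    (hD : (Nat.card D).factorization p = (Nat.card G).factorization p)
    (x : G) (k : ℕ) (hx : x ^ p ^ k = 1) : ∃ g : G, g * x * g⁻¹ ∈ D := by
  classical
  -- a Sylow `p`-subgroup of `D`, pushed to `G`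
  obtain ⟨Q⟩ : Nonempty (Sylow p D) := inferInstance
  have hQcard : Nat.card (Q : Subgroup D) = p ^ (Nat.card D).factorization p :=
    Sylow.card_eq_multiplicity Q
  have hmapcard : Nat.card ((Q : Subgroup D).map D.subtype)
      = p ^ (Nat.card G).factorization p := by
    rw [Nat.card_congr ((Q : Subgroup D).equivMapOfInjective D.subtype
      D.subtype_injective).symm.toEquiv, hQcard, hD]
  let Q' : Sylow p G := Sylow.ofCard ((Q : Subgroup D).map D.subtype) hmapcard
  have hQ'D : (Q' : Subgroup G) ≤ D := by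
    intro y hy
    obtain ⟨z, -, rfl⟩ := Subgroup.mem_map.mp hy
    exact z.2
  -- `zpowers x` is a `p`-group
  have hxp : IsPGroup p (Subgroup.zpowers x) := by
    intro y
    obtain ⟨n, hn⟩ := Subgroup.mem_zpowers_iff.mp y.2
    refine ⟨k, ?_⟩
    apply Subtype.ext
    rw [Subgroup.coe_pow, ← hn, Subgroup.coe_one, ← zpow_natCast, ← zpow_mul, mul_comm, zpow_mul,
      zpow_natCast, hx, one_zpow]
  obtain ⟨S, hS⟩ := hxp.exists_le_sylow
  obtain ⟨g, hg⟩ := MulAction.exists_smul_eq G S Q'
  refine ⟨g, hQ'D ?_⟩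
  rw [← hg, Sylow.smul_def, Sylow.pointwise_smul_def]
  have hxS : x ∈ (S : Subgroup G) := hS (Subgroup.mem_zpowers x)
  have h3 := Subgroup.smul_mem_pointwise_smul x (MulAut.conj g) (S : Subgroup G) hxS
  rwa [MulAut.smul_def, MulAut.conj_apply] at h3
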