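import Mathlib
import Cfsg.Agent.Helper39.Ree2359Y

/-!
# PIECE A of CALL S2359 (helper6) — helper39

If `D` is abelian, contains the centralizer of each of its elements of order `> 2` and contains
Sylow subgroups for the primes dividing the odd order of the abelian subgroup `H ≠ 1`, then the
centralizer of every non-trivial subgroup of `H` is one fixed conjugate of `D`.
-/

set_option autoImplicit false

namespace Cfsg.Agent.Helper39

theorem centralizer_eq_conj_of_selfcent {G : Type*} [Group G] [Finite G] (D : Subgroup G)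
    (hDcomm : ∀ x ∈ D, ∀ y ∈ D, x * y = y * x)
    (hD : ∀ h ∈ D, h * h ≠ 1 → ∀ c : G, c * h = h * c → c ∈ D)
    (H : Subgroup G) (hHcomm : ∀ x ∈ H, ∀ y ∈ H, x * y = y * x)
    (hodd : Odd (Nat.card H)) (h1 : 1 < Nat.card H)
    (hSyl : ∀ p : ℕ, p.Prime → p ∣ Nat.card H →
      (Nat.card D).factorization p = (Nat.card G).factorization p) :
    ∃ g : G, ∀ A : Subgroup G, A ≤ H → A ≠ ⊥ →
      Subgroup.centralizer (A : Set G) = D.map (MulAut.conj g).toMonoidHom := by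
  classical
  -- elements of `H` of square one are trivial
  have hsq : ∀ y ∈ H, y * y = 1 → y = 1 := by
    intro y hy hyy
    have h3 : orderOf y ∣ 2 := orderOf_dvd_of_pow_eq_one (by rw [pow_two]; exact hyy)
    have h4 : orderOf y ∣ Nat.card H := by
      have h5 := orderOf_dvd_natCard (⟨y, hy⟩ : H)
      rwa [Subgroup.orderOf_mk] at h5
    have h6 : orderOf y ≠ 2 := by
      intro h
      rw [h] at h4
      exact (Nat.not_even_iff_odd.mpr hodd) (even_iff_two_dvd.mpr h4)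
    have h7 : orderOf y = 1 := by
      have h8 := Nat.le_of_dvd (by norm_num) h3
      have h9 : orderOf y ≠ 0 := fun h => by rw [h] at h3; omega
      omega
    exact orderOf_eq_one_iff.mp h7
  -- a prime divisor of `|H|` and an element of that order
  have hpp : (Nat.card H).minFac.Prime := Nat.minFac_prime (by omega)
  have hpdvd : (Nat.card H).minFac ∣ Nat.card H := Nat.minFac_dvd _
  have : Fact (Nat.card H).minFac.Prime := ⟨hpp⟩
  obtain ⟨x', hx'⟩ := exists_prime_orderOf_dvd_card' (G := H) (Nat.card H).minFac hpdvd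
  have hx'1 : (x' : G) ≠ 1 := by
    intro h
    have h3 : x' = 1 := Subtype.ext h
    rw [h3, orderOf_one] at hx'
    exact hpp.one_lt.ne' hx'.symm
  have hx'p : (x' : G) ^ (Nat.card H).minFac ^ 1 = 1 := by
    rw [pow_one, ← hx', ← Subgroup.coe_pow, pow_orderOf_eq_one, Subgroup.coe_one]
  obtain ⟨g₀, hg₀⟩ := exists_conj_mem_of_factorization_eq D
    (hSyl _ hpp hpdvd) (x' : G) 1 hx'p
  have hhh : g₀ * (x' : G) * g₀⁻¹ * (g₀ * (x' : G) * g₀⁻¹) ≠ 1 := by
    intro h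
    apply hx'1
    apply hsq _ x'.2
    have h3 : (x' : G) * (x' : G) = g₀⁻¹ * (g₀ * (x' : G) * g₀⁻¹ * (g₀ * (x' : G) * g₀⁻¹)) * g₀ := by
      group
    rw [h3, h, mul_one, inv_mul_cancel]
  -- `g₀ H g₀⁻¹ ≤ D`
  have hHD : ∀ y ∈ H, g₀ * y * g₀⁻¹ ∈ D := by
    intro y hy
    apply hD _ hg₀ hhh
    have h3 := hHcomm y hy (x' : G) x'.2
    calc g₀ * y * g₀⁻¹ * (g₀ * (x' : G) * g₀⁻¹) = g₀ * (y * (x' : G)) * g₀⁻¹ := by group
      _ = g₀ * ((x' : G) * y) * g₀⁻¹ := by rw [h3]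
      _ = g₀ * (x' : G) * g₀⁻¹ * (g₀ * y * g₀⁻¹) := by group
  refine ⟨g₀⁻¹, ?_⟩
  intro A hAH hA
  ext c
  rw [Subgroup.mem_centralizer_iff, Subgroup.mem_map]
  constructor
  · intro hc
    obtain ⟨⟨y, hyA⟩, hy1⟩ := (Subgroup.ne_bot_iff_exists_ne_one).mp hA
    have hy1' : y ≠ 1 := fun h => hy1 (Subtype.ext h)
    have hyH : y ∈ H := hAH hyA
    have hyy : g₀ * y * g₀⁻¹ * (g₀ * y * g₀⁻¹) ≠ 1 := by
      intro h
      apply hy1'
      apply hsq _ hyH
      have h3 : y * y = g₀⁻¹ * (g₀ * y * g₀⁻¹ * (g₀ * y * g₀⁻¹)) * g₀ := by group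
      rw [h3, h, mul_one, inv_mul_cancel]
    have hcD : g₀ * c * g₀⁻¹ ∈ D := by
      apply hD _ (hHD y hyH) hyy
      have h3 := hc y hyA
      calc g₀ * c * g₀⁻¹ * (g₀ * y * g₀⁻¹) = g₀ * (c * y) * g₀⁻¹ := by group
        _ = g₀ * (y * c) * g₀⁻¹ := by rw [h3]
        _ = g₀ * y * g₀⁻¹ * (g₀ * c * g₀⁻¹) := by group
    refine ⟨g₀ * c * g₀⁻¹, hcD, ?_⟩
    rw [MulEquiv.coe_toMonoidHom, MulAut.conj_apply]
    group
  · rintro ⟨d, hd, rfl⟩ a ha
    rw [MulEquiv.coe_toMonoidHom, MulAut.conj_apply, inv_inv]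
    have h3 := hDcomm (g₀ * a * g₀⁻¹) (hHD a (hAH ha)) d hd
    calc a * (g₀⁻¹ * d * g₀) = g₀⁻¹ * (g₀ * a * g₀⁻¹ * d) * g₀ := by group
      _ = g₀⁻¹ * (d * (g₀ * a * g₀⁻¹)) * g₀ := by rw [h3]
      _ = g₀⁻¹ * d * g₀ * a := by group
end Cfsg.Agent.Helper39
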