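import Mathlib

/-!
# PIECE I of CALL S2359 (helper6) — helper39

A self-centralizing elementary abelian subgroup of order 8 whose normalizer has order 168:
all its involutions are conjugate.
-/

set_option autoImplicit false

namespace Cfsg.Agent.Helper39

theorem conj_of_card_normalizer_168 {G : Type*} [Group G] [Finite G] (S : Subgroup G)
    (h8 : Nat.card S = 8) (h2 : ∀ x ∈ S, x * x = 1)
    (hC : Subgroup.centralizer (S : Set G) = S)
    (hN : Nat.card (Subgroup.normalizer (S : Set G)) = 168) :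
    ∀ x ∈ S, ∀ y ∈ S, x ≠ 1 → y ≠ 1 → ∃ g : G, g * x * g⁻¹ = y := by
  classical
  have : Fintype G := Fintype.ofFinite G
  have : Fact (Nat.Prime 7) := ⟨by norm_num⟩
  obtain ⟨τ', hτ'⟩ := exists_prime_orderOf_dvd_card' (G := Subgroup.normalizer (S : Set G)) 7
    (by rw [hN]; norm_num)
  have hτo : orderOf (τ' : G) = 7 := by rw [Subgroup.orderOf_coe, hτ']
  have hτN : (τ' : G) ∈ Subgroup.normalizer (S : Set G) := τ'.2
  obtain ⟨τ, hτ⟩ : ∃ τ : G, τ = (τ' : G) := ⟨_, rfl⟩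
  rw [← hτ] at hτo hτN
  have hτS : τ ∉ S := by
    intro h
    have h3 : τ ^ 2 = 1 := by rw [pow_two]; exact h2 τ h
    have h4 := orderOf_dvd_of_pow_eq_one h3
    rw [hτo] at h4
    omega
  have hτC : τ ∉ Subgroup.centralizer (S : Set G) := by rw [hC]; exact hτS
  rw [Subgroup.mem_centralizer_iff] at hτC
  push Not at hτC
  obtain ⟨x₀, hx₀S, hx₀⟩ := hτC
  have hx₀1 : x₀ ≠ 1 := by
    rintro rfl
    exact hx₀ (by rw [one_mul, mul_one])
  have hpowN : ∀ i : ℕ, τ ^ i ∈ Subgroup.normalizer (S : Set G) := fun i =>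
    Subgroup.pow_mem _ hτN i
  have hfS : ∀ i : ℕ, τ ^ i * x₀ * (τ ^ i)⁻¹ ∈ S := fun i =>
    (Subgroup.mem_normalizer_iff.mp (hpowN i) x₀).mp hx₀S
  have hf1 : ∀ i : ℕ, τ ^ i * x₀ * (τ ^ i)⁻¹ ≠ 1 := by
    intro i h
    apply hx₀1
    have h3 : x₀ = (τ ^ i)⁻¹ * (τ ^ i * x₀ * (τ ^ i)⁻¹) * τ ^ i := by group
    rw [h3, h, mul_one, inv_mul_cancel]
  -- injectivity
  have hinj : ∀ i j : ℕ, i < j → j < 7 → τ ^ i * x₀ * (τ ^ i)⁻¹ ≠ τ ^ j * x₀ * (τ ^ j)⁻¹ := by
    intro i j hij hj h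
    have hcomm : τ ^ (j - i) * x₀ = x₀ * τ ^ (j - i) := by
      have h3 : τ ^ j = τ ^ i * τ ^ (j - i) := by rw [← pow_add, Nat.add_sub_cancel' hij.le]
      rw [h3] at h
      have h4 : x₀ = τ ^ (j - i) * x₀ * (τ ^ (j - i))⁻¹ := by
        have h5 := congrArg (fun t => (τ ^ i)⁻¹ * t * τ ^ i) h
        have e1 : (τ ^ i)⁻¹ * (τ ^ i * x₀ * (τ ^ i)⁻¹) * τ ^ i = x₀ := by group
        have e2 : (τ ^ i)⁻¹ * (τ ^ i * τ ^ (j - i) * x₀ * (τ ^ i * τ ^ (j - i))⁻¹) * τ ^ i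
            = τ ^ (j - i) * x₀ * (τ ^ (j - i))⁻¹ := by group
        rw [e1, e2] at h5
        exact h5
      calc τ ^ (j - i) * x₀ = τ ^ (j - i) * x₀ * (τ ^ (j - i))⁻¹ * τ ^ (j - i) := by group
        _ = x₀ * τ ^ (j - i) := by rw [← h4]
    have hcop : (j - i).Coprime (orderOf τ) := by
      rw [hτo]
      apply Nat.Coprime.symm
      rw [Nat.Prime.coprime_iff_not_dvd (by norm_num)]
      intro hd
      have := Nat.le_of_dvd (by omega) hd
      omega
    obtain ⟨m, hm⟩ := exists_pow_eq_self_of_coprime hcop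
    have hc : Commute (τ ^ (j - i)) x₀ := hcomm
    have hc2 : Commute ((τ ^ (j - i)) ^ m) x₀ := hc.pow_left m
    rw [hm] at hc2
    exact hx₀ hc2.eq.symm
  -- the seven conjugates are all the involutions
  have hcardS : (Finset.univ.filter (fun g : G => g ∈ S)).card = 8 := by
    rw [← h8, Nat.card_eq_fintype_card, Fintype.card_subtype]
  have hT : ((Finset.univ.filter (fun g : G => g ∈ S)).erase 1).card = 7 := by
    rw [Finset.card_erase_of_mem (by simp [S.one_mem]), hcardS]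
  have himg : (Finset.range 7).image (fun i : ℕ => τ ^ i * x₀ * (τ ^ i)⁻¹)
      = (Finset.univ.filter (fun g : G => g ∈ S)).erase 1 := by
    apply Finset.eq_of_subset_of_card_le
    · intro g hg
      obtain ⟨i, -, rfl⟩ := Finset.mem_image.mp hg
      exact Finset.mem_erase.mpr ⟨hf1 i, Finset.mem_filter.mpr ⟨Finset.mem_univ _, hfS i⟩⟩
    · rw [hT, Finset.card_image_of_injOn, Finset.card_range]
      intro i hi j hj hij
      rw [Finset.coe_range, Set.mem_Iio] at hi hj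
      by_contra hne
      rcases lt_or_gt_of_ne hne with h | h
      · exact hinj i j h hj hij
      · exact hinj j i h hi hij.symm
  intro x hx y hy hx1 hy1
  have hxT : x ∈ (Finset.range 7).image (fun i : ℕ => τ ^ i * x₀ * (τ ^ i)⁻¹) := by
    rw [himg]
    exact Finset.mem_erase.mpr ⟨hx1, Finset.mem_filter.mpr ⟨Finset.mem_univ _, hx⟩⟩
  have hyT : y ∈ (Finset.range 7).image (fun i : ℕ => τ ^ i * x₀ * (τ ^ i)⁻¹) := by
    rw [himg]
    exact Finset.mem_erase.mpr ⟨hy1, Finset.mem_filter.mpr ⟨Finset.mem_univ _, hy⟩⟩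
  obtain ⟨i, -, rfl⟩ := Finset.mem_image.mp hxT
  obtain ⟨j, -, rfl⟩ := Finset.mem_image.mp hyT
  refine ⟨τ ^ j * (τ ^ i)⁻¹, ?_⟩
  group

end Cfsg.Agent.Helper39
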