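import Mathlib

/-!
# PIECE N of CALL S2359 (helper6) — helper39

The `p`-parts of `q - 1` and `q + 1` in the order `q ^ 3 (q - 1) (q ^ 3 + 1)`, `p` odd.
-/

set_option autoImplicit false

namespace Cfsg.Agent.Helper39

theorem ree_factorization_sub {q p : ℕ} (hq : 1 < q) (hp : p.Prime) (hp2 : p ≠ 2)
    (hpd : p ∣ q - 1) :
    (q - 1).factorization p = (q ^ 3 * (q - 1) * (q ^ 3 + 1)).factorization p := by
  obtain ⟨m, rfl⟩ : ∃ m, q = m + 2 := ⟨q - 2, by omega⟩
  have e1 : m + 2 - 1 = m + 1 := by omega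
  rw [e1] at hpd ⊢
  have hpq : ¬ p ∣ m + 2 := by
    intro h
    have h1 : p ∣ 1 := (Nat.dvd_add_right hpd).mp h
    exact hp.one_lt.ne' (Nat.dvd_one.mp h1)
  have hpq3 : ¬ p ∣ (m + 2) ^ 3 := fun h => hpq (hp.dvd_of_dvd_pow h)
  have hp3 : ¬ p ∣ (m + 2) ^ 3 + 1 := by
    intro h
    have e : (m + 2) ^ 3 + 1 = (m + 1) * ((m + 2) ^ 2 + (m + 2) + 1) + 2 := by ring
    rw [e] at h
    have h2 : p ∣ 2 := (Nat.dvd_add_right (Dvd.dvd.mul_right hpd _)).mp h
    have h3 := Nat.le_of_dvd (by norm_num) h2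
    have h4 := hp.two_le
    omega
  rw [Nat.factorization_mul (by positivity) (by positivity),
    Nat.factorization_mul (by positivity) (by positivity)]
  simp only [Finsupp.add_apply]
  rw [Nat.factorization_eq_zero_of_not_dvd hpq3, Nat.factorization_eq_zero_of_not_dvd hp3]
  omega

theorem ree_factorization_add {q p : ℕ} (hq3 : 3 ∣ q) (hq : 1 < q) (hp : p.Prime) (hp2 : p ≠ 2)
    (hpd : p ∣ q + 1) :
    (q + 1).factorization p = (q ^ 3 * (q - 1) * (q ^ 3 + 1)).factorization p := by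
  obtain ⟨m, rfl⟩ : ∃ m, q = m + 2 := ⟨q - 2, by omega⟩
  have e1 : m + 2 - 1 = m + 1 := by omega
  rw [e1]
  have hpq : ¬ p ∣ m + 2 := by
    intro h
    have h1 : p ∣ 1 := (Nat.dvd_add_right h).mp hpd
    exact hp.one_lt.ne' (Nat.dvd_one.mp h1)
  have hpq3 : ¬ p ∣ (m + 2) ^ 3 := fun h => hpq (hp.dvd_of_dvd_pow h)
  have hpm : ¬ p ∣ m + 1 := by
    intro h
    have e : m + 2 + 1 = (m + 1) + 2 := by ring
    rw [e] at hpd
    have h2 : p ∣ 2 := (Nat.dvd_add_right h).mp hpd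
    have h3 := Nat.le_of_dvd (by norm_num) h2
    have h4 := hp.two_le
    omega
  have hpt : ¬ p ∣ m * m + 3 * m + 3 := by
    intro h
    have e : m * m + 3 * m + 3 = (m + 2 + 1) * m + 3 := by ring
    rw [e] at h
    have h2 : p ∣ 3 := (Nat.dvd_add_right (Dvd.dvd.mul_right hpd _)).mp h
    have h3 : p = 3 := by
      have h5 := Nat.le_of_dvd (by norm_num) h2
      have h4 := hp.two_le
      omega
    rw [h3] at hpd
    have h6 : 3 ∣ 1 := (Nat.dvd_add_right hq3).mp hpd
    omega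
  have e3 : (m + 2) ^ 3 + 1 = (m + 2 + 1) * (m * m + 3 * m + 3) := by ring
  rw [e3, Nat.factorization_mul (by positivity) (by positivity),
    Nat.factorization_mul (by positivity) (by positivity),
    Nat.factorization_mul (by positivity) (by positivity)]
  simp only [Finsupp.add_apply]
  rw [Nat.factorization_eq_zero_of_not_dvd hpq3, Nat.factorization_eq_zero_of_not_dvd hpm,
    Nat.factorization_eq_zero_of_not_dvd hpt]
  omega

end Cfsg.Agent.Helper39
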