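import Mathlib

/-!
# PIECE X of CALL S2359 (helper6) — helper39

A finite group of order prime to 3 and not divisible by 8 in which the centralizers of the three
involutions of a four-group are abelian: the four-group is central (Burnside transfer).
-/

set_option autoImplicit false

namespace Cfsg.Agent.Helper39

section FourGroup

variable {C : Type*} [Group C]

/-- The four-group generated by two commuting involutions. -/
def ree2359Four (a b : C) (ha2 : a * a = 1) (hb2 : b * b = 1) (hcomm : a * b = b * a) :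
    Subgroup C where
  carrier := {x | x = 1 ∨ x = a ∨ x = b ∨ x = a * b}
  mul_mem' := by
    have e1 : a * (a * b) = b := by rw [← mul_assoc, ha2, one_mul]
    have e2 : b * a = a * b := hcomm.symm
    have e3 : b * (a * b) = a := by rw [← mul_assoc, e2, mul_assoc, hb2, mul_one]
    have e4 : a * b * a = b := by rw [mul_assoc, e2, e1]
    have e5 : a * b * b = a := by rw [mul_assoc, hb2, mul_one]
    have e6 : a * b * (a * b) = 1 := by rw [mul_assoc, e3, ha2]
    rintro x y (rfl | rfl | rfl | rfl) (rfl | rfl | rfl | rfl)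
    · left; rw [one_mul]
    · right; left; rw [one_mul]
    · right; right; left; rw [one_mul]
    · right; right; right; rw [one_mul]
    · right; left; rw [mul_one]
    · left; exact ha2
    · right; right; right; rfl
    · right; right; left; exact e1
    · right; right; left; rw [mul_one]
    · right; right; right; exact e2
    · left; exact hb2
    · right; left; exact e3
    · right; right; right; rw [mul_one]
    · right; right; left; exact e4
    · right; left; exact e5
    · left; exact e6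
  one_mem' := Or.inl rfl
  inv_mem' := by
    have e2 : b * a = a * b := hcomm.symm
    have e3 : b * (a * b) = a := by rw [← mul_assoc, e2, mul_assoc, hb2, mul_one]
    have e6 : a * b * (a * b) = 1 := by rw [mul_assoc, e3, ha2]
    rintro x (rfl | rfl | rfl | rfl)
    · left; exact inv_one
    · right; left; exact inv_eq_of_mul_eq_one_left ha2
    · right; right; left; exact inv_eq_of_mul_eq_one_left hb2
    · right; right; right; exact inv_eq_of_mul_eq_one_left e6

theorem ree2359Four_mem (a b : C) (ha2 : a * a = 1) (hb2 : b * b = 1) (hcomm : a * b = b * a)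
    (x : C) : x ∈ ree2359Four a b ha2 hb2 hcomm ↔ (x = 1 ∨ x = a ∨ x = b ∨ x = a * b) := Iff.rfl

theorem ree2359Four_card (a b : C) (ha2 : a * a = 1) (hb2 : b * b = 1) (hcomm : a * b = b * a)
    (ha : a ≠ 1) (hb : b ≠ 1) (hab : a ≠ b) : Nat.card (ree2359Four a b ha2 hb2 hcomm) = 4 := by
  classical
  have hcoe : ((ree2359Four a b ha2 hb2 hcomm : Subgroup C) : Set C)
      = ↑({1, a, b, a * b} : Finset C) := by
    ext x
    simp only [SetLike.mem_coe, ree2359Four_mem, Finset.coe_insert, Finset.coe_singleton,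
      Set.mem_insert_iff, Set.mem_singleton_iff]
  have hab1 : a * b ≠ 1 := by
    intro h
    apply hab
    have h1 : a = b⁻¹ := eq_inv_of_mul_eq_one_left h
    rw [h1]
    exact inv_eq_of_mul_eq_one_left hb2
  have h1 : (1 : C) ∉ ({a, b, a * b} : Finset C) := by
    simp only [Finset.mem_insert, Finset.mem_singleton, not_or]
    exact ⟨fun h => ha h.symm, fun h => hb h.symm, fun h => hab1 h.symm⟩
  have h2 : a ∉ ({b, a * b} : Finset C) := by
    simp only [Finset.mem_insert, Finset.mem_singleton, not_or]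
    refine ⟨hab, fun h => hb ?_⟩
    exact (mul_eq_left.mp h.symm)
  have h3 : b ∉ ({a * b} : Finset C) := by
    simp only [Finset.mem_singleton]
    intro h
    exact ha (mul_eq_right.mp h.symm)
  have hcard : ({1, a, b, a * b} : Finset C).card = 4 := by
    rw [Finset.card_insert_of_notMem h1, Finset.card_insert_of_notMem h2,
      Finset.card_insert_of_notMem h3, Finset.card_singleton]
  have h4 : Nat.card (ree2359Four a b ha2 hb2 hcomm)
      = ((ree2359Four a b ha2 hb2 hcomm : Subgroup C) : Set C).ncard :=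
    Nat.card_coe_set_eq _
  rw [h4, hcoe, Set.ncard_coe_finset, hcard]

end FourGroup

section Odd

variable {C : Type*} [Group C]

/-- Squaring is injective on a subgroup of odd order. -/
theorem ree2359_sq_inj (O : Subgroup C) (hodd : Odd (Nat.card O)) {u v : C} (hu : u ∈ O)
    (hv : v ∈ O) (h : u * u = v * v) : u = v := by
  obtain ⟨k, hk⟩ := hodd
  have key : ∀ w ∈ O, (w * w) ^ (k + 1) = w := by
    intro w hw
    have h1 : (⟨w, hw⟩ : O) ^ Nat.card O = 1 := pow_card_eq_one'
    have h2 : w ^ Nat.card O = 1 := by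
      have h3 := congrArg Subtype.val h1
      rwa [Subgroup.coe_pow, Subgroup.coe_one] at h3
    rw [← pow_two, ← pow_mul, show 2 * (k + 1) = Nat.card O + 1 by omega, pow_succ, h2, one_mul]
  rw [← key u hu, ← key v hv, h]

theorem ree2359_sq_one (O : Subgroup C) (hodd : Odd (Nat.card O)) {u : C} (hu : u ∈ O)
    (h : u * u = 1) : u = 1 :=
  ree2359_sq_inj O hodd hu O.one_mem (by rw [h, one_mul])

/-- Factorisation of an element of a normal subgroup of odd order with respect to an
involution: a centralized factor times an inverted factor. -/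
theorem ree2359_factor_exists (O : Subgroup C) [O.Normal] (hodd : Odd (Nat.card O)) (z : C)
    (hz : z * z = 1) (x : C) (hx : x ∈ O) :
    ∃ c ∈ O, ∃ i ∈ O, x = c * i ∧ z * c = c * z ∧ z * i * z = i⁻¹ := by
  have hzinv : z⁻¹ = z := inv_eq_of_mul_eq_one_left hz
  have hconj : ∀ y ∈ O, z * y * z ∈ O := by
    intro y hy
    have h1 := ‹O.Normal›.conj_mem y hy z
    rwa [hzinv] at h1
  obtain ⟨k, hk⟩ := hodd
  -- `s = x⁻¹ (z x z)` is inverted by `z`
  have hsO : x⁻¹ * (z * x * z) ∈ O := O.mul_mem (O.inv_mem hx) (hconj x hx)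
  have hs : z * (x⁻¹ * (z * x * z)) * z = (x⁻¹ * (z * x * z))⁻¹ := by
    have e1 : z * (x⁻¹ * (z * x * z)) * z = z * x⁻¹ * z * x * (z * z) := by group
    have e2 : (x⁻¹ * (z * x * z))⁻¹ = z⁻¹ * x⁻¹ * z⁻¹ * x := by group
    rw [e1, e2, hz, hzinv, mul_one]
  have hsn : (x⁻¹ * (z * x * z)) ^ (k + 1) * (x⁻¹ * (z * x * z)) ^ (k + 1)
      = x⁻¹ * (z * x * z) := by
    have h1 : (⟨_, hsO⟩ : O) ^ Nat.card O = 1 := pow_card_eq_one'
    have h2 : (x⁻¹ * (z * x * z)) ^ Nat.card O = 1 := by
      have h3 := congrArg Subtype.val h1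
      rwa [Subgroup.coe_pow, Subgroup.coe_one] at h3
    rw [← pow_add, show k + 1 + (k + 1) = Nat.card O + 1 by omega, pow_succ, h2, one_mul]
  have hconjpow : ∀ (y : C) (m : ℕ), z * y ^ m * z = (z * y * z) ^ m := by
    intro y m
    induction m with
    | zero => simp [hz]
    | succ m ih =>
      rw [pow_succ, pow_succ, ← ih]
      have e : z * y ^ m * z * (z * y * z) = z * y ^ m * (z * z) * y * z := by
        simp only [mul_assoc]
      rw [e, hz, mul_one]
      simp only [mul_assoc]
  have hr : z * (x⁻¹ * (z * x * z)) ^ (k + 1) * z = ((x⁻¹ * (z * x * z)) ^ (k + 1))⁻¹ := by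
    rw [hconjpow, hs, inv_pow]
  have hrO : (x⁻¹ * (z * x * z)) ^ (k + 1) ∈ O := O.pow_mem hsO _
  obtain ⟨r, hrdef⟩ : ∃ r : C, r = (x⁻¹ * (z * x * z)) ^ (k + 1) := ⟨_, rfl⟩
  rw [← hrdef] at hsn hr hrO
  refine ⟨x * r, O.mul_mem hx hrO, r⁻¹, O.inv_mem hrO, ?_, ?_, ?_⟩
  · group
  · have e1 : z * (x * r) = (z * x * z) * (z * r * z) * z := by
      have e : (z * x * z) * (z * r * z) * z = z * x * (z * z) * r * (z * z) := by group
      rw [e, hz, mul_one, mul_one]
      exact (mul_assoc z x r).symm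
    have e2 : z * x * z = x * (r * r) := by
      rw [hsn]
      group
    rw [e1, hr, e2]
    group
  · rw [inv_inv]
    have e : z * r⁻¹ * z = (z⁻¹ * r * z⁻¹)⁻¹ := by group
    rw [e, hzinv, hr, inv_inv]

/-- Uniqueness of the factorisation. -/
theorem ree2359_factor_unique (O : Subgroup C) (hodd : Odd (Nat.card O)) (z : C)
    {c i c' i' : C} (hi : i ∈ O) (hi' : i' ∈ O) (hc : z * c = c * z)
    (hc' : z * c' = c' * z) (hiz : z * i * z = i⁻¹) (hi'z : z * i' * z = i'⁻¹)
    (h : c * i = c' * i') : c = c' ∧ i = i' := by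
  have h2 : c * i⁻¹ = c' * i'⁻¹ := by
    have h3 : z * (c * i) * z = z * (c' * i') * z := by rw [h]
    have e1 : z * (c * i) * z = c * (z * i * z) := by
      rw [← mul_assoc, hc, mul_assoc, mul_assoc, mul_assoc]
    have e2 : z * (c' * i') * z = c' * (z * i' * z) := by
      rw [← mul_assoc, hc', mul_assoc, mul_assoc, mul_assoc]
    rw [e1, e2, hiz, hi'z] at h3
    exact h3
  have h4 : i' * i⁻¹ = i'⁻¹ * i := by
    have e1 : i' * i⁻¹ = c'⁻¹ * (c' * i') * i⁻¹ := by group
    have e2 : i'⁻¹ * i = c'⁻¹ * (c' * i'⁻¹) * i := by group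
    rw [e1, e2, ← h, ← h2]
    group
  have h5 : i' * i' = i * i := by
    have e1 : i' * i' = i' * (i' * i⁻¹) * i := by group
    rw [e1, h4]
    group
  have hii : i = i' := (ree2359_sq_inj O hodd hi' hi h5).symm
  refine ⟨?_, hii⟩
  rw [hii] at h
  exact mul_right_cancel h

end Odd

theorem eq_centralizer_of_four_sylow {C : Type*} [Group C] [Finite C]
    (h3 : ¬ 3 ∣ Nat.card C) (h8 : ¬ 8 ∣ Nat.card C)
    (a b : C) (ha : a ≠ 1) (hb : b ≠ 1) (hab : a ≠ b) (ha2 : a * a = 1) (hb2 : b * b = 1)
    (hcomm : a * b = b * a)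
    (hA : ∀ x y : C, x * a = a * x → y * a = a * y → x * y = y * x)
    (hB : ∀ x y : C, x * b = b * x → y * b = b * y → x * y = y * x)
    (hAB : ∀ x y : C, x * (a * b) = (a * b) * x → y * (a * b) = (a * b) * y → x * y = y * x) :
    ∀ x : C, x * a = a * x := by
  classical
  have hba : b * a = a * b := hcomm.symm
  have h0a : ∀ x : C, x * a = a * x → x * b = b * x := fun x hx => hA x b hx hba
  have h0b : ∀ x : C, x * b = b * x → x * a = a * x := fun x hx => hB x a hx hcomm
  have haab : a * (a * b) = (a * b) * a := by rw [mul_assoc, hba]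
  have h0c : ∀ x : C, x * (a * b) = (a * b) * x → x * a = a * x := fun x hx => hAB x a hx haab
  have hainv : a⁻¹ = a := inv_eq_of_mul_eq_one_left ha2
  have hbinv : b⁻¹ = b := inv_eq_of_mul_eq_one_left hb2
  -- an element whose cube commutes with `a` commutes with `a`
  have hcube : ∀ c : C, c ^ 3 * a * (c ^ 3)⁻¹ = a → c * a = a * c := by
    intro c h
    have hcomm3 : Commute (c ^ 3) a := mul_inv_eq_iff_eq_mul.mp h
    have hcop : Nat.Coprime 3 (orderOf c) := by
      rw [Nat.Prime.coprime_iff_not_dvd Nat.prime_three]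
      exact fun hd => h3 (hd.trans (orderOf_dvd_natCard c))
    obtain ⟨m, hm⟩ := exists_pow_eq_self_of_coprime hcop
    have h4 := hcomm3.pow_left m
    rw [hm] at h4
    exact h4.eq
  -- (1) the four-group is a Sylow 2-subgroup
  have hP4 := ree2359Four_card a b ha2 hb2 hcomm ha hb hab
  have hfact : (Nat.card C).factorization 2 = 2 := by
    have hC0 : Nat.card C ≠ 0 := Nat.card_pos.ne'
    have h4 : 2 ^ 2 ∣ Nat.card C := by
      have h5 := Subgroup.card_subgroup_dvd_card (ree2359Four a b ha2 hb2 hcomm)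
      rw [hP4] at h5
      have h6 : (2 : ℕ) ^ 2 = 4 := by norm_num
      rw [h6]
      exact h5
    have h1 := (Nat.Prime.pow_dvd_iff_le_factorization Nat.prime_two hC0).mp h4
    have h2 : ¬ 3 ≤ (Nat.card C).factorization 2 := fun h =>
      h8 ((Nat.Prime.pow_dvd_iff_le_factorization Nat.prime_two hC0).mpr h)
    omega
  have hf2 : Fact (Nat.Prime 2) := ⟨Nat.prime_two⟩
  obtain ⟨P, hPdef⟩ : ∃ P : Sylow 2 C,
      (P : Subgroup C) = ree2359Four a b ha2 hb2 hcomm :=
    ⟨Sylow.ofCard (ree2359Four a b ha2 hb2 hcomm) (by rw [hP4, hfact]; norm_num), rfl⟩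
  have hPmem : ∀ x : C, x ∈ (P : Subgroup C) ↔ (x = 1 ∨ x = a ∨ x = b ∨ x = a * b) := by
    intro x
    rw [hPdef]
    exact ree2359Four_mem a b ha2 hb2 hcomm x
  -- (2) `N(P) ≤ C(P)`
  have hNC : Subgroup.normalizer (P : Set C) ≤ Subgroup.centralizer (P : Set C) := by
    intro c hc
    have hc' : c ∈ Subgroup.normalizer ((P : Subgroup C) : Set C) := hc
    have hca : c * a = a * c := by
      have hα : c * a * c⁻¹ ∈ (P : Subgroup C) :=
        (Subgroup.mem_normalizer_iff.mp hc' a).mp ((hPmem a).mpr (Or.inr (Or.inl rfl)))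
      have hβ : c * b * c⁻¹ ∈ (P : Subgroup C) :=
        (Subgroup.mem_normalizer_iff.mp hc' b).mp ((hPmem b).mpr (Or.inr (Or.inr (Or.inl rfl))))
      by_contra hca
      have hα_ne_a : c * a * c⁻¹ ≠ a := fun h => hca (mul_inv_eq_iff_eq_mul.mp h)
      have hβ_ne_b : c * b * c⁻¹ ≠ b := fun h => hca (h0b c (mul_inv_eq_iff_eq_mul.mp h))
      have hαβ : c * a * c⁻¹ * (c * b * c⁻¹) = c * (a * b) * c⁻¹ := by group
      have hαβ_ne : c * (a * b) * c⁻¹ ≠ a * b := fun h =>
        hca (h0c c (mul_inv_eq_iff_eq_mul.mp h))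
      have hα1 : c * a * c⁻¹ ≠ 1 := fun h => ha (conj_eq_one_iff.mp h)
      have hβ1 : c * b * c⁻¹ ≠ 1 := fun h => hb (conj_eq_one_iff.mp h)
      have hαβne : c * a * c⁻¹ ≠ c * b * c⁻¹ := fun h =>
        hab (mul_left_cancel (mul_right_cancel h))
      rcases (hPmem _).mp hα with h | h | h | h
      · exact hα1 h
      · exact hα_ne_a h
      · rcases (hPmem _).mp hβ with h' | h' | h' | h'
        · exact hβ1 h'
        · apply hαβ_ne
          rw [← hαβ, h, h', hba]
        · exact hβ_ne_b h'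
        · have hκab : c * (a * b) * c⁻¹ = a := by
            rw [← hαβ, h, h', ← mul_assoc, hba, mul_assoc, hb2, mul_one]
          have h3c : c ^ 3 * a * (c ^ 3)⁻¹ = a := by
            have e : c ^ 3 * a * (c ^ 3)⁻¹ = c * (c * (c * a * c⁻¹) * c⁻¹) * c⁻¹ := by
              simp only [pow_succ, pow_zero, one_mul, mul_inv_rev, mul_assoc]
            rw [e, h, h', hκab]
          exact hca (hcube c h3c)
      · rcases (hPmem _).mp hβ with h' | h' | h' | h'
        · exact hβ1 h'
        · have hκab : c * (a * b) * c⁻¹ = b := by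
            rw [← hαβ, h, h', mul_assoc, hba, ← mul_assoc, ha2, one_mul]
          have h3c : c ^ 3 * a * (c ^ 3)⁻¹ = a := by
            have e : c ^ 3 * a * (c ^ 3)⁻¹ = c * (c * (c * a * c⁻¹) * c⁻¹) * c⁻¹ := by
              simp only [pow_succ, pow_zero, one_mul, mul_inv_rev, mul_assoc]
            rw [e, h, hκab, h']
          exact hca (hcube c h3c)
        · exact hβ_ne_b h'
        · exact hαβne (h.trans h'.symm)
    rw [Subgroup.mem_centralizer_iff]
    intro q hq
    have hq' : q ∈ (P : Subgroup C) := hq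
    rcases (hPmem q).mp hq' with rfl | rfl | rfl | rfl
    · rw [one_mul, mul_one]
    · exact hca.symm
    · exact (h0a c hca).symm
    · rw [mul_assoc, ← h0a c hca, ← mul_assoc, ← hca, mul_assoc]
  -- (3) Burnside's normal complement
  have hcompl := MonoidHom.ker_transferSylow_isComplement' P hNC
  have hOodd2 : ¬ 2 ∣ Nat.card (MonoidHom.transferSylow P hNC).ker :=
    MonoidHom.not_dvd_card_ker_transferSylow P hNC
  have hOodd : Odd (Nat.card (MonoidHom.transferSylow P hNC).ker) :=
    Nat.odd_iff.mpr (Nat.two_dvd_ne_zero.mp hOodd2)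
  -- (5) the complement centralizes `a`
  have hO : ∀ x ∈ (MonoidHom.transferSylow P hNC).ker, x * a = a * x := by
    intro x hx
    obtain ⟨c, hcO, i, hiO, hxci, hzc, hzi⟩ :=
      ree2359_factor_exists (MonoidHom.transferSylow P hNC).ker hOodd a ha2 x hx
    obtain ⟨c', hc'O, j, hjO, hicj, hbc', hbj⟩ :=
      ree2359_factor_exists (MonoidHom.transferSylow P hNC).ker hOodd b hb2 i hiO
    have hac' : a * c' = c' * a := (h0b c' hbc'.symm).symm
    have e1 : i⁻¹ = c' * (a * j * a) := by
      rw [← hzi, hicj]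
      have e : a * (c' * j) * a = (a * c') * j * a := by group
      rw [e, hac']
      group
    have e2 : i⁻¹ = c'⁻¹ * (c' * j⁻¹ * c'⁻¹) := by
      rw [hicj]
      group
    have hajO : a * j * a ∈ (MonoidHom.transferSylow P hNC).ker := by
      have h4 := (MonoidHom.normal_ker (MonoidHom.transferSylow P hNC)).conj_mem j hjO a
      rwa [hainv] at h4
    have hcjO : c' * j⁻¹ * c'⁻¹ ∈ (MonoidHom.transferSylow P hNC).ker :=
      Subgroup.mul_mem _ (Subgroup.mul_mem _ hc'O (Subgroup.inv_mem _ hjO))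
        (Subgroup.inv_mem _ hc'O)
    have hbc'inv : b * c'⁻¹ = c'⁻¹ * b := by
      have e : b * c'⁻¹ = c'⁻¹ * (c' * b) * c'⁻¹ := by group
      rw [e, ← hbc']
      group
    have hinv1 : b * (a * j * a) * b = (a * j * a)⁻¹ := by
      calc b * (a * j * a) * b = (b * a) * j * (a * b) := by group
        _ = (a * b) * j * (b * a) := by rw [hba]
        _ = a * (b * j * b) * a := by group
        _ = a * j⁻¹ * a := by rw [hbj]
        _ = (a * j * a)⁻¹ := by rw [mul_inv_rev, mul_inv_rev, hainv, mul_assoc]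
    have hinv2 : b * (c' * j⁻¹ * c'⁻¹) * b = (c' * j⁻¹ * c'⁻¹)⁻¹ := by
      have e : b * (c' * j⁻¹ * c'⁻¹) * b = (b * c') * j⁻¹ * (c'⁻¹ * b) := by group
      have e' : (c' * j⁻¹ * c'⁻¹)⁻¹ = c' * (j⁻¹)⁻¹ * c'⁻¹ := by group
      have e'' : (j⁻¹)⁻¹ = b * j⁻¹ * b := by
        have e3 : b * j⁻¹ * b = (b⁻¹ * j * b⁻¹)⁻¹ := by group
        rw [e3, hbinv, hbj]
      rw [e, hbc', ← hbc'inv, e', e'']
      group
    obtain ⟨hcc, -⟩ := ree2359_factor_unique (MonoidHom.transferSylow P hNC).ker hOodd b hajO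
      hcjO hbc' hbc'inv hinv1 hinv2 (e1.symm.trans e2)
    have hc'1 : c' = 1 := by
      apply ree2359_sq_one (MonoidHom.transferSylow P hNC).ker hOodd hc'O
      have e : c' * c' = c' * c'⁻¹ := by rw [← hcc]
      rw [e, mul_inv_cancel]
    have hij : i = j := by rw [hicj, hc'1, one_mul]
    rw [← hij] at hbj
    -- `i` is inverted by `a` and by `b`, hence centralized by `a * b`, hence by `a`
    have h5 : a * b * i * (a * b)⁻¹ = i := by
      have e : a * b * i * (a * b)⁻¹ = a * (b * i * b⁻¹) * a⁻¹ := by group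
      have e' : a * i⁻¹ * a = (a⁻¹ * i * a⁻¹)⁻¹ := by group
      rw [e, hbinv, hbj, hainv, e', hainv, hzi, inv_inv]
    have hiab : i * (a * b) = (a * b) * i := (mul_inv_eq_iff_eq_mul.mp h5).symm
    have hia : i * a = a * i := h0c i hiab
    have hi1 : i = 1 := by
      apply ree2359_sq_one (MonoidHom.transferSylow P hNC).ker hOodd hiO
      have h6 : i⁻¹ = i := by rw [← hzi, ← hia, mul_assoc, ha2, mul_one]
      calc i * i = i * i⁻¹ := by rw [h6]
        _ = 1 := mul_inv_cancel i
    rw [hxci, hi1, mul_one]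
    exact hzc.symm
  -- (6) every element is a product of an element of the complement and one of `P`
  intro x
  obtain ⟨⟨o, q⟩, hoq⟩ := hcompl.2 x
  have hoq' : (o : C) * (q : C) = x := hoq
  have ho := hO o o.2
  have hq : (q : C) * a = a * (q : C) := by
    rcases (hPmem q).mp q.2 with h | h | h | h
    · rw [h, one_mul, mul_one]
    · rw [h]
    · rw [h, hba]
    · rw [h, haab]
  rw [← hoq', mul_assoc, hq, ← mul_assoc, ho, mul_assoc]

end Cfsg.Agent.Helper39
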