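import Cfsg.Agent.Helper67.S77Defs

/-!
CALL S0429 (helper67), piece F18 (helper39): two distinct nonadjacent vertices lie in exactly two
21-cocliques (double count of the pairs `(C, z)`, `z ∈ C` with `t3 x y z = 1`).
-/

set_option autoImplicit false
set_option linter.unusedSectionVars false
set_option linter.unusedVariables false

namespace Cfsg.Agent.Helper39.S77F18

open Finset Cfsg.Agent.Helper67.S77

variable {V : Type*} [Fintype V] [DecidableEq V] {G : SimpleGraph V} [DecidableRel G.Adj]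

theorem p_F18 (hG : G.IsSRGWith 77 16 0 4) (h6 : F6 G) (h16 : F16 G) (h17 : F17 G) : F18 G := by
  intro x y h
  have hT1 := (h6 x y h).2
  have hper : ∀ C ∈ (Cocls G).filter (fun C => x ∈ C ∧ y ∈ C),
      ∑ z ∈ (Rs G x y).filter (fun z => t3 G x y z = 1), (if z ∈ C then 1 else 0) = 16 := by
    intro C hC
    rw [Finset.mem_filter, mem_Cocls] at hC
    rw [← Finset.card_filter]
    exact (h16 C hC.1 x hC.2.1 y hC.2.2 h.1).2
  have hz : ∀ z ∈ (Rs G x y).filter (fun z => t3 G x y z = 1),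
      ∑ C ∈ (Cocls G).filter (fun C => x ∈ C ∧ y ∈ C), (if z ∈ C then 1 else 0) = 1 := by
    intro z hz
    rw [Finset.mem_filter, mem_Rs] at hz
    obtain ⟨⟨hzx, hzy, hxz, hyz⟩, ht⟩ := hz
    obtain ⟨C₀, ⟨hC₀, hx₀, hy₀, hz₀⟩, huniq⟩ :=
      h17 x y z h ⟨fun h' => hzx h'.symm, hxz⟩ ⟨fun h' => hzy h'.symm, hyz⟩ ht
    rw [← Finset.card_filter]
    have hset : ((Cocls G).filter (fun C => x ∈ C ∧ y ∈ C)).filter (fun C => z ∈ C) = {C₀} := by
      ext C
      simp only [Finset.mem_filter, mem_Cocls, Finset.mem_singleton]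
      constructor
      · rintro ⟨⟨hC, hxC, hyC⟩, hzC⟩
        exact huniq C ⟨hC, hxC, hyC, hzC⟩
      · rintro rfl
        exact ⟨⟨hC₀, hx₀, hy₀⟩, hz₀⟩
    rw [hset, Finset.card_singleton]
  have hdc : ∑ C ∈ (Cocls G).filter (fun C => x ∈ C ∧ y ∈ C),
      ∑ z ∈ (Rs G x y).filter (fun z => t3 G x y z = 1), (if z ∈ C then 1 else 0)
      = ∑ z ∈ (Rs G x y).filter (fun z => t3 G x y z = 1),
        ∑ C ∈ (Cocls G).filter (fun C => x ∈ C ∧ y ∈ C), (if z ∈ C then 1 else 0) :=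
    Finset.sum_comm
  rw [Finset.sum_congr rfl hper, Finset.sum_congr rfl hz, Finset.sum_const, Finset.sum_const,
    hT1, smul_eq_mul, smul_eq_mul] at hdc
  omega

end Cfsg.Agent.Helper39.S77F18
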