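import Mathlib
import Cfsg.Prelude.Def_GeometricClasses
import Cfsg.Prelude.Def_Classical

set_option autoImplicit false
set_option linter.unusedVariables false

/-!
helper39: piece EIGBASIS of sub-CALL S88R2 (helper90; row S5988): a hyperbolic basis adapted to the
eigenspaces of an isometry `M` with `M * M = -1` when `-1 = s * s`.
-/

namespace Cfsg.Agent.Helper39.S88R2

open Module Cfsg Cfsg.Geo
open scoped MatrixGroups

section pieces

variable {ι : Type} [Fintype ι] [DecidableEq ι] {F : Type*} [Field F] [Fintype F]

/-- EIGBASIS [L] (`s² = -1`): a hyperbolic basis adapted to the eigenspaces `E₊ = ker (M - s)`,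
`E₋ = ker (M + s)`. -/
theorem r2e_eig_basis (Q : (ι → F) → F) (hQ : IsNondegenerateQuadraticForm Q) (h2 : (2 : F) ≠ 0)
    (d : ℕ) (hcard : Fintype.card ι = 2 * d) (M : Matrix ι ι F) (hM : ∀ v, Q (M.mulVec v) = Q v)
    (hM2 : M * M = -1) (s : F) (hs : s * s = -1) :
    ∃ e f : Fin d → (ι → F), (∀ j, M.mulVec (e j) = s • e j) ∧
      (∀ j, M.mulVec (f j) = (-s) • f j) ∧ (∀ j, QuadraticMap.polar Q (e j) (f j) = 1) ∧
      ∀ j l, j ≠ l → QuadraticMap.polar Q (e j) (f l) = 0 := by
  classical
  have hbil := hQ.polar_bilinear
  have hsymm : ∀ x y, QuadraticMap.polar Q x y = QuadraticMap.polar Q y x :=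
    fun x y => QuadraticMap.polar_comm Q x y
  have hiso : ∀ x y, QuadraticMap.polar Q (M.mulVec x) (M.mulVec y) = QuadraticMap.polar Q x y := by
    intro x y
    show Q (M.mulVec x + M.mulVec y) - Q (M.mulVec x) - Q (M.mulVec y) = Q (x + y) - Q x - Q y
    rw [← Matrix.mulVec_add, hM, hM, hM]
  have hMM : ∀ x, M.mulVec (M.mulVec x) = -x := by
    intro x
    rw [Matrix.mulVec_mulVec, hM2, Matrix.neg_mulVec, Matrix.one_mulVec]
  have hnegL : ∀ x y, QuadraticMap.polar Q (-x) y = - QuadraticMap.polar Q x y := by
    intro x y
    have h3 := hbil.smul_left (-1) x y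
    simpa using h3
  have hskew : ∀ x y, QuadraticMap.polar Q (M.mulVec x) y = - QuadraticMap.polar Q x (M.mulVec y) := by
    intro x y
    have h3 := hiso (M.mulVec x) y
    rw [hMM, hnegL] at h3
    rw [← h3]
  have hzeroL : ∀ z, QuadraticMap.polar Q 0 z = 0 := by
    intro z
    have h3 := hbil.smul_left 0 0 z
    simpa using h3
  have hsumL : ∀ (k : ℕ) (t : Finset (Fin k)) (c : Fin k → F) (u : Fin k → (ι → F)) (z : ι → F),
      QuadraticMap.polar Q (∑ j ∈ t, c j • u j) z = ∑ j ∈ t, c j * QuadraticMap.polar Q (u j) z := by
    intro k t c u z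
    induction t using Finset.induction_on with
    | empty => simp [hzeroL]
    | insert a t ha ih =>
      rw [Finset.sum_insert ha, Finset.sum_insert ha, hbil.add_left, hbil.smul_left, ih]
  have hs0 : s ≠ 0 := by
    rintro rfl
    rw [mul_zero] at hs
    exact one_ne_zero (neg_eq_zero.mp hs.symm)
  have hneg_sq : (-s) * (-s) = -1 := by rw [neg_mul_neg]; exact hs
  -- two eigenvectors for the same eigenvalue are orthogonal
  have hEE : ∀ (t : F) (x y : ι → F), t * t = -1 → M.mulVec x = t • x → M.mulVec y = t • y →
      QuadraticMap.polar Q x y = 0 := by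
    intro t x y ht hx hy
    have h1 := hiso x y
    rw [hx, hy, hbil.smul_left, hbil.smul_right] at h1
    have h3 : 2 * QuadraticMap.polar Q x y = 0 := by
      linear_combination (-1 : F) * h1 + QuadraticMap.polar Q x y * ht
    exact (mul_eq_zero.1 h3).resolve_left h2
  -- the two projections
  have hPp : ∀ x, M.mulVec (s • x + M.mulVec x) = s • (s • x + M.mulVec x) := by
    intro x
    rw [Matrix.mulVec_add, Matrix.mulVec_smul, hMM, smul_add, smul_smul, hs]
    module
  have hPm : ∀ x, M.mulVec (s • x + (-1 : F) • M.mulVec x) =
      (-s) • (s • x + (-1 : F) • M.mulVec x) := by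
    intro x
    rw [Matrix.mulVec_add, Matrix.mulVec_smul, Matrix.mulVec_smul, hMM, smul_add, smul_smul,
      smul_smul, neg_mul, hs]
    module
  have key : ∀ k : ℕ, k ≤ d → ∃ e f : Fin k → (ι → F), (∀ j, M.mulVec (e j) = s • e j) ∧
      (∀ j, M.mulVec (f j) = (-s) • f j) ∧ (∀ j, QuadraticMap.polar Q (e j) (f j) = 1) ∧
      ∀ j l, j ≠ l → QuadraticMap.polar Q (e j) (f l) = 0 := by
    intro k
    induction k with
    | zero =>
      intro _
      exact ⟨fun j => j.elim0, fun j => j.elim0, fun j => j.elim0, fun j => j.elim0,
        fun j => j.elim0, fun j => j.elim0⟩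
    | succ k ih =>
      intro hk
      obtain ⟨e, f, he, hf, hef, hefne⟩ := ih (by omega)
      have hee : ∀ j l, QuadraticMap.polar Q (e j) (e l) = 0 :=
        fun j l => hEE s _ _ hs (he j) (he l)
      have hff : ∀ j l, QuadraticMap.polar Q (f j) (f l) = 0 :=
        fun j l => hEE (-s) _ _ hneg_sq (hf j) (hf l)
      let φ : (ι → F) →ₗ[F] (Fin k ⊕ Fin k → F) :=
        { toFun := fun x => Sum.elim (fun j => QuadraticMap.polar Q x (e j))
            (fun j => QuadraticMap.polar Q x (f j))
          map_add' := by
            intro x y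
            funext t
            rcases t with j | j
            · simp only [Sum.elim_inl, Pi.add_apply]
              exact hbil.add_left x y _
            · simp only [Sum.elim_inr, Pi.add_apply]
              exact hbil.add_left x y _
          map_smul' := by
            intro c x
            funext t
            rcases t with j | j
            · simp only [Sum.elim_inl, Pi.smul_apply, smul_eq_mul, RingHom.id_apply]
              exact hbil.smul_left c x _
            · simp only [Sum.elim_inr, Pi.smul_apply, smul_eq_mul, RingHom.id_apply]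
              exact hbil.smul_left c x _ }
      have hdim : finrank F (Fin k ⊕ Fin k → F) < finrank F (ι → F) := by
        rw [Module.finrank_fintype_fun_eq_card, Module.finrank_fintype_fun_eq_card, hcard,
          Fintype.card_sum, Fintype.card_fin]
        omega
      have hker := LinearMap.ker_ne_bot_of_finrank_lt (f := φ) hdim
      obtain ⟨x, hxk, hx0⟩ := (Submodule.ne_bot_iff _).1 hker
      have hxe : ∀ j, QuadraticMap.polar Q x (e j) = 0 := fun j =>
        congrFun (LinearMap.mem_ker.1 hxk) (Sum.inl j)
      have hxf : ∀ j, QuadraticMap.polar Q x (f j) = 0 := fun j =>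
        congrFun (LinearMap.mem_ker.1 hxk) (Sum.inr j)
      obtain ⟨w, hw⟩ := (hQ.nondegenerate x hx0).2
      -- project `w` to the perp of the `e j`, `f j`
      obtain ⟨w', hw'e, hw'f, hxw'⟩ : ∃ w' : ι → F, (∀ l, QuadraticMap.polar Q w' (e l) = 0) ∧
          (∀ l, QuadraticMap.polar Q w' (f l) = 0) ∧
          QuadraticMap.polar Q x w' = QuadraticMap.polar Q x w := by
        have hexp : ∀ z, QuadraticMap.polar Q
            (w + (-1 : F) • (∑ j, QuadraticMap.polar Q w (f j) • e j) +
              (-1 : F) • (∑ j, QuadraticMap.polar Q w (e j) • f j)) z =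
            QuadraticMap.polar Q w z -
              QuadraticMap.polar Q (∑ j, QuadraticMap.polar Q w (f j) • e j) z -
              QuadraticMap.polar Q (∑ j, QuadraticMap.polar Q w (e j) • f j) z := by
          intro z
          rw [hbil.add_left, hbil.add_left, hbil.smul_left, hbil.smul_left]
          ring
        refine ⟨w + (-1 : F) • (∑ j, QuadraticMap.polar Q w (f j) • e j) +
              (-1 : F) • (∑ j, QuadraticMap.polar Q w (e j) • f j), ?_, ?_, ?_⟩
        · intro l
          rw [hexp, hsumL, hsumL]
          rw [Finset.sum_eq_zero (fun j _ => by rw [hee, mul_zero])]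
          rw [Finset.sum_eq_single l
            (fun j _ hjl => by rw [hsymm (f j) (e l), hefne l j (Ne.symm hjl), mul_zero])
            (fun h => absurd (Finset.mem_univ l) h)]
          rw [hsymm (f l) (e l), hef]
          ring
        · intro l
          rw [hexp, hsumL, hsumL]
          rw [Finset.sum_eq_single l (fun j _ hjl => by rw [hefne j l hjl, mul_zero])
            (fun h => absurd (Finset.mem_univ l) h)]
          rw [Finset.sum_eq_zero (fun j _ => by rw [hff, mul_zero])]
          rw [hef]
          ring
        · rw [hsymm x, hexp, hsumL, hsumL, hsymm w x]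
          rw [Finset.sum_eq_zero (fun j _ => by rw [hsymm (e j) x, hxe, mul_zero])]
          rw [Finset.sum_eq_zero (fun j _ => by rw [hsymm (f j) x, hxf, mul_zero])]
          ring
      -- the perp is invariant under `M` and the projections
      have hDM : ∀ y : ι → F, (∀ j, QuadraticMap.polar Q y (e j) = 0) →
          (∀ j, QuadraticMap.polar Q y (f j) = 0) →
          (∀ j, QuadraticMap.polar Q (M.mulVec y) (e j) = 0) ∧
            (∀ j, QuadraticMap.polar Q (M.mulVec y) (f j) = 0) := by
        intro y hye hyf
        refine ⟨fun j => ?_, fun j => ?_⟩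
        · rw [hskew, he j, hbil.smul_right, hye j, mul_zero, neg_zero]
        · rw [hskew, hf j, hbil.smul_right, hyf j, mul_zero, neg_zero]
      have hDp : ∀ y : ι → F, (∀ j, QuadraticMap.polar Q y (e j) = 0) →
          (∀ j, QuadraticMap.polar Q y (f j) = 0) →
          (∀ j, QuadraticMap.polar Q (s • y + M.mulVec y) (e j) = 0) ∧
            (∀ j, QuadraticMap.polar Q (s • y + M.mulVec y) (f j) = 0) := by
        intro y hye hyf
        obtain ⟨h5, h6⟩ := hDM y hye hyf
        refine ⟨fun j => ?_, fun j => ?_⟩
        · rw [hbil.add_left, hbil.smul_left, hye j, h5 j, mul_zero, add_zero]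
        · rw [hbil.add_left, hbil.smul_left, hyf j, h6 j, mul_zero, add_zero]
      have hDm : ∀ y : ι → F, (∀ j, QuadraticMap.polar Q y (e j) = 0) →
          (∀ j, QuadraticMap.polar Q y (f j) = 0) →
          (∀ j, QuadraticMap.polar Q (s • y + (-1 : F) • M.mulVec y) (e j) = 0) ∧
            (∀ j, QuadraticMap.polar Q (s • y + (-1 : F) • M.mulVec y) (f j) = 0) := by
        intro y hye hyf
        obtain ⟨h5, h6⟩ := hDM y hye hyf
        refine ⟨fun j => ?_, fun j => ?_⟩
        · rw [hbil.add_left, hbil.smul_left, hbil.smul_left, hye j, h5 j, mul_zero, mul_zero,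
            add_zero]
        · rw [hbil.add_left, hbil.smul_left, hbil.smul_left, hyf j, h6 j, mul_zero, mul_zero,
            add_zero]
      have hne : QuadraticMap.polar Q (s • x + M.mulVec x) (s • w' + (-1 : F) • M.mulVec w') ≠ 0 ∨
          QuadraticMap.polar Q (s • x + (-1 : F) • M.mulVec x) (s • w' + M.mulVec w') ≠ 0 := by
        by_contra hcon
        push Not at hcon
        obtain ⟨c1, c2⟩ := hcon
        have e1 : (s • x + M.mulVec x) + (s • x + (-1 : F) • M.mulVec x) = (2 * s) • x := by
          module
        have e2 : (s • w' + M.mulVec w') + (s • w' + (-1 : F) • M.mulVec w') = (2 * s) • w' := by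
          module
        have h0 : QuadraticMap.polar Q ((2 * s) • x) ((2 * s) • w') = 0 := by
          rw [← e1, ← e2, hbil.add_left,
            hbil.add_right (s • x + M.mulVec x) (s • w' + M.mulVec w')
              (s • w' + (-1 : F) • M.mulVec w'),
            hbil.add_right (s • x + (-1 : F) • M.mulVec x) (s • w' + M.mulVec w')
              (s • w' + (-1 : F) • M.mulVec w'),
            hEE s _ _ hs (hPp x) (hPp w'), c1, c2, hEE (-s) _ _ hneg_sq (hPm x) (hPm w')]
          ring
        rw [hbil.smul_left, hbil.smul_right, hxw'] at h0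
        have h2s : (2 * s) ≠ 0 := mul_ne_zero h2 hs0
        exact hw ((mul_eq_zero.1 ((mul_eq_zero.1 h0).resolve_left h2s)).resolve_left h2s)
      obtain ⟨a, b, haM, hbM, haf, hbe, hab⟩ : ∃ a b : ι → F, M.mulVec a = s • a ∧
          M.mulVec b = (-s) • b ∧ (∀ j, QuadraticMap.polar Q a (f j) = 0) ∧
          (∀ j, QuadraticMap.polar Q b (e j) = 0) ∧ QuadraticMap.polar Q a b ≠ 0 := by
        rcases hne with h | h
        · exact ⟨_, _, hPp x, hPm w', (hDp x hxe hxf).2, (hDm w' hw'e hw'f).1, h⟩
        · refine ⟨_, _, hPp w', hPm x, (hDp w' hw'e hw'f).2, (hDm x hxe hxf).1, ?_⟩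
          rw [hsymm]
          exact h
      refine ⟨Fin.cons a e, Fin.cons ((QuadraticMap.polar Q a b)⁻¹ • b) f, ?_, ?_, ?_, ?_⟩
      · intro j
        induction j using Fin.cases with
        | zero =>
          simp only [Fin.cons_zero]
          exact haM
        | succ j =>
          simp only [Fin.cons_succ]
          exact he j
      · intro j
        induction j using Fin.cases with
        | zero =>
          simp only [Fin.cons_zero]
          rw [Matrix.mulVec_smul, hbM, smul_comm]
        | succ j =>
          simp only [Fin.cons_succ]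
          exact hf j
      · intro j
        induction j using Fin.cases with
        | zero =>
          simp only [Fin.cons_zero]
          rw [hbil.smul_right, inv_mul_cancel₀ hab]
        | succ j =>
          simp only [Fin.cons_succ]
          exact hef j
      · intro j l hjl
        induction j using Fin.cases with
        | zero =>
          induction l using Fin.cases with
          | zero => exact absurd rfl hjl
          | succ l =>
            simp only [Fin.cons_zero, Fin.cons_succ]
            exact haf l
        | succ j =>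
          induction l using Fin.cases with
          | zero =>
            simp only [Fin.cons_zero, Fin.cons_succ]
            rw [hbil.smul_right, hsymm (e j) b, hbe j, mul_zero]
          | succ l =>
            simp only [Fin.cons_succ]
            exact hefne j l (fun h => hjl (by rw [h]))
  exact key d le_rfl

end pieces

end Cfsg.Agent.Helper39.S88R2
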