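import Mathlib
import Cfsg.Prelude.Def_GeometricClasses
import Cfsg.Prelude.Def_Classical
import Cfsg.Agent.Helper6.TSR2SKBASIS

set_option autoImplicit false
set_option linter.unusedVariables false

/-!
helper39: piece SKND of sub-CALL S88R2 (helper90; row S5988): invariant nondegenerate subspaces of
every even dimension for an isometry `M` with `M * M = -1`, `-1` a nonsquare.
-/

namespace Cfsg.Agent.Helper39.S88R2

open Module Cfsg Cfsg.Geo
open scoped MatrixGroups

section pieces

variable {ι : Type} [Fintype ι] [DecidableEq ι] {F : Type*} [Field F] [Fintype F]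

omit [Fintype F] in
/-- the span of an orthogonal family of non-isotropic vectors is nondegenerate of dimension the
number of vectors. -/
theorem r2e_orth_family {κ : Type} [Fintype κ] [DecidableEq κ] (Q : (ι → F) → F)
    (hQ : IsNondegenerateQuadraticForm Q) (b : κ → (ι → F))
    (horth : ∀ s t, s ≠ t → QuadraticMap.polar Q (b s) (b t) = 0)
    (hself : ∀ s, QuadraticMap.polar Q (b s) (b s) ≠ 0) :
    IsNondegenerateOn (QuadraticMap.polar Q) (Submodule.span F (Set.range b)) ∧
      finrank F (Submodule.span F (Set.range b)) = Fintype.card κ := by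
  classical
  have hbil := hQ.polar_bilinear
  have hzeroL : ∀ z, QuadraticMap.polar Q 0 z = 0 := by
    intro z
    have h3 := hbil.smul_left 0 0 z
    simpa using h3
  have hsumL : ∀ (t : Finset κ) (c : κ → F) (z : ι → F),
      QuadraticMap.polar Q (∑ j ∈ t, c j • b j) z = ∑ j ∈ t, c j * QuadraticMap.polar Q (b j) z := by
    intro t c z
    induction t using Finset.induction_on with
    | empty => simp [hzeroL]
    | insert a t ha ih =>
      rw [Finset.sum_insert ha, Finset.sum_insert ha, hbil.add_left, hbil.smul_left, ih]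
  have hpair : ∀ (c : κ → F) (t : κ), QuadraticMap.polar Q (∑ j, c j • b j) (b t) =
      c t * QuadraticMap.polar Q (b t) (b t) := by
    intro c t
    rw [hsumL]
    exact Finset.sum_eq_single t (fun j _ hjt => by rw [horth j t hjt, mul_zero])
      (fun h => absurd (Finset.mem_univ t) h)
  have hli : LinearIndependent F b := by
    rw [Fintype.linearIndependent_iff]
    intro g hg t
    have h1 := hpair g t
    rw [hg, hzeroL] at h1
    exact (mul_eq_zero.1 h1.symm).resolve_right (hself t)
  refine ⟨?_, finrank_span_eq_card hli⟩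
  intro w hw hw0
  obtain ⟨c, rfl⟩ := (Submodule.mem_span_range_iff_exists_fun F).1 hw
  obtain ⟨t, ht⟩ : ∃ t, c t ≠ 0 := by
    by_contra hcon
    push Not at hcon
    apply hw0
    exact Finset.sum_eq_zero (fun j _ => by rw [hcon j, zero_smul])
  have h1 : QuadraticMap.polar Q (∑ j, c j • b j) (b t) ≠ 0 := by
    rw [hpair]
    exact mul_ne_zero ht (hself t)
  have hbt : b t ∈ Submodule.span F (Set.range b) := Submodule.subset_span ⟨t, rfl⟩
  exact ⟨⟨b t, hbt, by rw [QuadraticMap.polar_comm]; exact h1⟩, ⟨b t, hbt, h1⟩⟩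

/-- SKND [M] (`-1` a nonsquare): invariant nondegenerate subspaces of every even dimension. -/
theorem r2e_skew_nd (Q : (ι → F) → F) (hQ : IsNondegenerateQuadraticForm Q) (h2 : (2 : F) ≠ 0)
    (d : ℕ) (hcard : Fintype.card ι = 2 * d) (M : Matrix ι ι F) (hM : ∀ v, Q (M.mulVec v) = Q v)
    (hM2 : M * M = -1) (hm1 : ¬ IsSquare (-1 : F)) (e : ℕ) (he : e ≤ d) :
    ∃ W : Submodule F (ι → F), W.map (Matrix.toLin' M) ≤ W ∧
      IsNondegenerateOn (QuadraticMap.polar Q) W ∧ finrank F W = 2 * e := by
  classical
  obtain ⟨v, hv, hvv⟩ := Cfsg.Agent.Helper6.TSR2.r2_skew_basis Q hQ h2 d hcard M hM hM2 hm1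
  have hbil := hQ.polar_bilinear
  have hsymm : ∀ x y, QuadraticMap.polar Q x y = QuadraticMap.polar Q y x :=
    fun x y => QuadraticMap.polar_comm Q x y
  have hself : ∀ x, QuadraticMap.polar Q x x = 2 * Q x := by
    intro x
    have h1 : Q (x + x) = 4 * Q x := by
      have h3 := hQ.smul 2 x
      rw [two_smul] at h3
      rw [h3]
      ring
    show Q (x + x) - Q x - Q x = 2 * Q x
    rw [h1]
    ring
  have hiso : ∀ x y, QuadraticMap.polar Q (M.mulVec x) (M.mulVec y) = QuadraticMap.polar Q x y := by
    intro x y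
    show Q (M.mulVec x + M.mulVec y) - Q (M.mulVec x) - Q (M.mulVec y) = Q (x + y) - Q x - Q y
    rw [← Matrix.mulVec_add, hM, hM, hM]
  have hMM : ∀ x, M.mulVec (M.mulVec x) = -x := by
    intro x
    rw [Matrix.mulVec_mulVec, hM2, Matrix.neg_mulVec, Matrix.one_mulVec]
  have hnegL : ∀ x y, QuadraticMap.polar Q (-x) y = - QuadraticMap.polar Q x y := by
    intro x y
    have h3 := hbil.smul_left (-1) x y
    simpa using h3
  have hskew : ∀ x y, QuadraticMap.polar Q (M.mulVec x) y = - QuadraticMap.polar Q x (M.mulVec y) := by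
    intro x y
    have h3 := hiso (M.mulVec x) y
    rw [hMM, hnegL] at h3
    rw [← h3]
  have hperp : ∀ x, QuadraticMap.polar Q x (M.mulVec x) = 0 := by
    intro x
    have h1 := hskew x x
    rw [hsymm] at h1
    have h3 : 2 * QuadraticMap.polar Q x (M.mulVec x) = 0 := by linear_combination h1
    exact (mul_eq_zero.1 h3).resolve_left h2
  have hinj : ∀ j l : Fin e, j ≠ l → Fin.castLE he j ≠ Fin.castLE he l := by
    intro j l hjl h
    apply hjl
    exact Fin.castLE_injective he h
  obtain ⟨hnd, hdim⟩ := r2e_orth_family Q hQ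
    (Sum.elim (fun j : Fin e => v (Fin.castLE he j))
      (fun j : Fin e => M.mulVec (v (Fin.castLE he j))))
    (by
      rintro (j | j) (l | l) hne
      · simp only [Sum.elim_inl]
        exact (hvv _ _ (hinj j l (fun h => hne (by rw [h])))).1
      · simp only [Sum.elim_inl, Sum.elim_inr]
        by_cases hjl : j = l
        · rw [hjl]
          exact hperp _
        · exact (hvv _ _ (hinj j l hjl)).2
      · simp only [Sum.elim_inl, Sum.elim_inr]
        rw [hsymm]
        by_cases hjl : j = l
        · rw [hjl]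
          exact hperp _
        · exact (hvv _ _ (hinj l j (Ne.symm hjl))).2
      · simp only [Sum.elim_inr]
        rw [hiso]
        exact (hvv _ _ (hinj j l (fun h => hne (by rw [h])))).1)
    (by
      rintro (j | j)
      · simp only [Sum.elim_inl]
        rw [hself]
        exact mul_ne_zero h2 (hv _)
      · simp only [Sum.elim_inr]
        rw [hiso, hself]
        exact mul_ne_zero h2 (hv _))
  refine ⟨_, ?_, hnd, ?_⟩
  · rw [Submodule.map_span, Submodule.span_le]
    rintro _ ⟨_, ⟨t, rfl⟩, rfl⟩
    rcases t with j | j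
    · simp only [Sum.elim_inl, Matrix.toLin'_apply]
      exact Submodule.subset_span ⟨Sum.inr j, rfl⟩
    · simp only [Sum.elim_inr, Matrix.toLin'_apply]
      rw [hMM]
      exact Submodule.neg_mem _ (Submodule.subset_span ⟨Sum.inl j, rfl⟩)
  · rw [hdim, Fintype.card_sum, Fintype.card_fin]
    ring

end pieces

end Cfsg.Agent.Helper39.S88R2
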