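import Mathlib
import Cfsg.Agent.Helper44.SPUDefs

set_option autoImplicit false
open Classical

/-!
CALL S2316 (helper44), piece LEMA (helper39, double): the weighted sum over the totally isotropic
subspaces of a subspace `K` with a non-zero radical vector vanishes.
`spu_lemA_aux` takes HYP as a hypothesis.
-/

namespace Cfsg.Agent.Helper39.SPULEMAaux

open Matrix Cfsg.Agent.Helper44.SPU

variable {F : Type*} [Field F] [Fintype F] {m : ℕ}

theorem wt_succ (q j : ℕ) : wt q (j + 1) + (q ^ j : ℕ) • wt q j = 0 := by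
  unfold wt
  have h1 : (j + 1).choose 2 = j.choose 2 + j := by
    rw [Nat.choose_succ_succ' j 1, Nat.choose_one_right, add_comm]
  rw [h1, pow_succ, pow_add, nsmul_eq_mul]
  push_cast
  ring

theorem iso_sup (K : Submodule F (Fin m ⊕ Fin m → F)) (r : Fin m ⊕ Fin m → F)
    (hrad : ∀ y ∈ K, Cfsg.sympForm m F r y = 0) (W : Submodule F (Fin m ⊕ Fin m → F))
    (hWK : W ≤ K) (hW : Iso m F W) : Iso m F (W ⊔ Submodule.span F {r}) := by
  intro u hu v hv
  obtain ⟨w, hw, s, hs, rfl⟩ := Submodule.mem_sup.mp hu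
  obtain ⟨w', hw', s', hs', rfl⟩ := Submodule.mem_sup.mp hv
  obtain ⟨a, rfl⟩ := Submodule.mem_span_singleton.mp hs
  obtain ⟨b, rfl⟩ := Submodule.mem_span_singleton.mp hs'
  rw [Cfsg.Agent.Helper13.sympForm_add_left, Cfsg.Agent.Helper13.sympForm_add_right,
    Cfsg.Agent.Helper13.sympForm_add_right, Cfsg.Agent.Helper13.sympForm_smul_left,
    Cfsg.Agent.Helper13.sympForm_smul_left, Cfsg.Agent.Helper13.sympForm_smul_right,
    Cfsg.Agent.Helper13.sympForm_smul_right, hW w hw w' hw', hrad w' (hWK hw'),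
    Cfsg.Agent.Helper13.sympForm_self, Cfsg.Agent.Helper13.sympForm_swap w r, hrad w (hWK hw)]
  ring

theorem spu_lemA_aux
    (hHYP : ∀ (W' : Submodule F (Fin m ⊕ Fin m → F)) (r : Fin m ⊕ Fin m → F), r ∈ W' → r ≠ 0 →
      Nat.card {W : Submodule F (Fin m ⊕ Fin m → F) // r ∉ W ∧ W ⊔ Submodule.span F {r} = W'} =
        Fintype.card F ^ (Module.finrank F W' - 1))
    (K : Submodule F (Fin m ⊕ Fin m → F)) (r : Fin m ⊕ Fin m → F) (hr0 : r ≠ 0)
    (hrK : r ∈ K) (hrad : ∀ y ∈ K, Cfsg.sympForm m F r y = 0) :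
    ∑ W : Submodule F (Fin m ⊕ Fin m → F),
      (if W ≤ K ∧ Iso m F W then wt (Fintype.card F) (Module.finrank F W) else 0) = 0 := by
  rw [← Finset.sum_filter]
  rw [← Finset.sum_filter_add_sum_filter_not _ (fun W => r ∈ W)]
  have hmaps : ∀ W ∈ (Finset.univ.filter
      (fun W : Submodule F (Fin m ⊕ Fin m → F) => W ≤ K ∧ Iso m F W)).filter (fun W => ¬ r ∈ W),
      W ⊔ Submodule.span F {r} ∈ (Finset.univ.filter
        (fun W : Submodule F (Fin m ⊕ Fin m → F) => W ≤ K ∧ Iso m F W)).filter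
          (fun W => r ∈ W) := by
    intro W hW
    rw [Finset.mem_filter, Finset.mem_filter] at hW
    rw [Finset.mem_filter, Finset.mem_filter]
    refine ⟨⟨Finset.mem_univ _, ?_, ?_⟩, ?_⟩
    · apply sup_le hW.1.2.1
      rw [Submodule.span_singleton_le_iff_mem]
      exact hrK
    · exact iso_sup K r hrad W hW.1.2.1 hW.1.2.2
    · exact (le_sup_right : Submodule.span F {r} ≤ _) (Submodule.mem_span_singleton_self r)
  rw [← Finset.sum_fiberwise_of_maps_to hmaps, ← Finset.sum_add_distrib]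
  apply Finset.sum_eq_zero
  intro W' hW'
  rw [Finset.mem_filter, Finset.mem_filter] at hW'
  obtain ⟨⟨-, hW'K, hW'I⟩, hrW'⟩ := hW'
  have hfibre : (((Finset.univ.filter
      (fun W : Submodule F (Fin m ⊕ Fin m → F) => W ≤ K ∧ Iso m F W)).filter
        (fun W => ¬ r ∈ W)).filter (fun W => W ⊔ Submodule.span F {r} = W'))
      = Finset.univ.filter (fun W : Submodule F (Fin m ⊕ Fin m → F) =>
          r ∉ W ∧ W ⊔ Submodule.span F {r} = W') := by
    ext W
    simp only [Finset.mem_filter, Finset.mem_univ, true_and]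
    constructor
    · rintro ⟨⟨-, h1⟩, h2⟩
      exact ⟨h1, h2⟩
    · rintro ⟨h1, h2⟩
      have hle : W ≤ W' := by rw [← h2]; exact le_sup_left
      exact ⟨⟨⟨hle.trans hW'K, fun u hu v hv => hW'I u (hle hu) v (hle hv)⟩, h1⟩, h2⟩
  rw [hfibre]
  have hcard : (Finset.univ.filter (fun W : Submodule F (Fin m ⊕ Fin m → F) =>
      r ∉ W ∧ W ⊔ Submodule.span F {r} = W')).card
      = Fintype.card F ^ (Module.finrank F W' - 1) := by
    rw [← hHYP W' r hrW' hr0]
    symm
    apply Nat.subtype_card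
    intro W
    simp only [Finset.mem_filter, Finset.mem_univ, true_and]
  have hdim : ∀ W ∈ Finset.univ.filter (fun W : Submodule F (Fin m ⊕ Fin m → F) =>
      r ∉ W ∧ W ⊔ Submodule.span F {r} = W'),
      wt (Fintype.card F) (Module.finrank F W)
        = wt (Fintype.card F) (Module.finrank F W' - 1) := by
    intro W hW
    rw [Finset.mem_filter] at hW
    obtain ⟨-, h1, h2⟩ := hW
    have h3 := Submodule.finrank_sup_add_finrank_inf_eq W (Submodule.span F {r})
    have h4 : W ⊓ Submodule.span F {r} = ⊥ :=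
      disjoint_iff.mp ((Submodule.disjoint_span_singleton' hr0).mpr h1)
    rw [h4, finrank_bot, finrank_span_singleton hr0, h2] at h3
    have h5 : Module.finrank F W = Module.finrank F W' - 1 := by omega
    rw [h5]
  rw [Finset.sum_congr rfl hdim, Finset.sum_const, hcard]
  have hpos : 0 < Module.finrank F W' := by
    rw [Module.finrank_pos_iff_exists_ne_zero]
    exact ⟨⟨r, hrW'⟩, fun h => hr0 (congrArg Subtype.val h)⟩
  obtain ⟨j, hj⟩ : ∃ j, Module.finrank F W' = j + 1 := ⟨Module.finrank F W' - 1, by omega⟩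
  rw [hj, Nat.add_sub_cancel]
  exact wt_succ _ _

end Cfsg.Agent.Helper39.SPULEMAaux
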