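-- helper39: piece STEP3 of CALL S2459 (helper35), final form: `sou3_step_three_of` with the
-- first-column normal form FC3 (helper76) plugged in.
import Mathlib
import Cfsg.Agent.Helper39.SouSTEP3
import Cfsg.Agent.Helper76.SouFC3

set_option autoImplicit false
open Matrix

namespace Cfsg.Agent.Helper39

theorem sou3_step_three {F : Type*} [Field F] [Fintype F] (hF : Fintype.card F = 3)
    (A : Matrix (Fin 3) (Fin 3) F) (hA : A.det = 1)
    (hns : ∀ c : F, A ≠ c • (1 : Matrix (Fin 3) (Fin 3) F)) :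
    ∃ (P : Matrix (Fin 3) (Fin 3) F) (r1 r2 : F) (L U : Matrix (Fin 2) (Fin 2) F),
      P.det ≠ 0 ∧ L * L = -1 ∧ U * U = -1 ∧
      P * A * P⁻¹ = !![1, 0, 0; 1, L 0 0, L 0 1; 0, L 1 0, L 1 1] *
        !![1, r1, r2; 0, U 0 0, U 0 1; 0, U 1 0, U 1 1] :=
  sou3_step_three_of hF (fun A hns κ => Cfsg.Agent.Helper76.sou_first_col A hns κ) A hA hns

end Cfsg.Agent.Helper39
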