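import Mathlib
import Cfsg.Prelude.Def_LieExceptional
import Cfsg.Agent.Helper6.BN

/-!
helper39: piece SUBBN of CALL S2314 (helper40): the BN-pair induced on a standard parabolic
subgroup.
-/

set_option autoImplicit false

namespace Cfsg.Agent.Helper39.UCSUBBN

open Cfsg.Agent.Helper6

/-- SUBBN: the BN-pair induced on a standard parabolic subgroup. -/
theorem subBN_exists {G : Type*} [Group G] (P : Cfsg.BNPair G) (J : Set G) (hJ : J ⊆ P.S) :
    ∃ Q : Cfsg.BNPair ↥(P.parabolic J),
      Q.B = P.B.subgroupOf (P.parabolic J) ∧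
      Q.N = (Subgroup.closure J ⊔ (P.B ⊓ P.N)).subgroupOf (P.parabolic J) ∧
      Q.S = {x : ↥(P.parabolic J) | (x : G) ∈ J} := by
  have hBP : P.B ≤ P.parabolic J := le_sup_left
  have hJP : Subgroup.closure J ≤ P.parabolic J := le_sup_right
  have hJN : Subgroup.closure J ≤ P.N := (Subgroup.closure_le _).mpr (hJ.trans P.subset)
  have hN'P : Subgroup.closure J ⊔ (P.B ⊓ P.N) ≤ P.parabolic J :=
    sup_le hJP (inf_le_left.trans hBP)
  have hN'N : Subgroup.closure J ⊔ (P.B ⊓ P.N) ≤ P.N := sup_le hJN inf_le_right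
  have hBN' : P.B ⊓ (Subgroup.closure J ⊔ (P.B ⊓ P.N)) = P.B ⊓ P.N :=
    le_antisymm (inf_le_inf_left _ hN'N) (le_inf inf_le_left le_sup_right)
  have hcl : Subgroup.closure {x : ↥(P.parabolic J) | (x : G) ∈ J}
      = (Subgroup.closure J).subgroupOf (P.parabolic J) := by
    apply le_antisymm
    · rw [Subgroup.closure_le]
      intro x hx
      exact Subgroup.mem_subgroupOf.mpr (Subgroup.subset_closure hx)
    · intro x hx
      have hx' : (x : G) ∈ Subgroup.closure J := Subgroup.mem_subgroupOf.mp hx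
      have key : ∀ y : G, y ∈ Subgroup.closure J → ∀ hy : y ∈ P.parabolic J,
          (⟨y, hy⟩ : ↥(P.parabolic J)) ∈
            Subgroup.closure {x : ↥(P.parabolic J) | (x : G) ∈ J} := by
        intro y hy
        induction hy using Subgroup.closure_induction with
        | mem y hyJ =>
          intro hy
          exact Subgroup.subset_closure hyJ
        | one =>
          intro hy
          exact Subgroup.one_mem _
        | mul a b ha hb iha ihb =>
          intro hy
          exact Subgroup.mul_mem _ (iha (hJP ha)) (ihb (hJP hb))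
        | inv a ha iha =>
          intro hy
          exact Subgroup.inv_mem _ (iha (hJP ha))
      exact key (x : G) hx' x.2
  refine ⟨{ B := P.B.subgroupOf (P.parabolic J)
            N := (Subgroup.closure J ⊔ (P.B ⊓ P.N)).subgroupOf (P.parabolic J)
            S := {x : ↥(P.parabolic J) | (x : G) ∈ J}
            sup_eq_top := ?_
            conj_mem := ?_
            subset := ?_
            sq_mem := ?_
            inj := ?_
            closure_sup := ?_
            mul_mem_union := ?_
            conj_ne := ?_ }, rfl, rfl, rfl⟩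
  · -- sup_eq_top
    rw [← Subgroup.subgroupOf_sup hBP hN'P]
    have e : P.B ⊔ (Subgroup.closure J ⊔ (P.B ⊓ P.N)) = P.parabolic J := by
      apply le_antisymm (sup_le hBP hN'P)
      exact sup_le le_sup_left (le_sup_left.trans le_sup_right)
    rw [e]
    exact Subgroup.subgroupOf_self _
  · -- conj_mem
    intro n hn t ht
    rw [Subgroup.mem_subgroupOf]
    have hn' : (n : G) ∈ P.N := hN'N (Subgroup.mem_subgroupOf.mp hn)
    have ht1 : (t : G) ∈ P.B := Subgroup.mem_subgroupOf.mp ht.1
    have ht2 : (t : G) ∈ P.N := hN'N (Subgroup.mem_subgroupOf.mp ht.2)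
    exact P.conj_mem n hn' t ⟨ht1, ht2⟩
  · -- subset
    intro x hx
    exact Subgroup.mem_subgroupOf.mpr ((le_sup_left : Subgroup.closure J ≤ _)
      (Subgroup.subset_closure hx))
  · -- sq_mem
    intro s hs
    rw [Subgroup.mem_subgroupOf]
    exact P.sq_mem s (hJ hs)
  · -- inj
    intro s hs s' hs' h
    apply Subtype.ext
    exact P.inj s (hJ hs) s' (hJ hs') (Subgroup.mem_subgroupOf.mp h)
  · -- closure_sup
    have hinf : P.B.subgroupOf (P.parabolic J) ⊓
        (Subgroup.closure J ⊔ (P.B ⊓ P.N)).subgroupOf (P.parabolic J)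
          = (P.B ⊓ P.N).subgroupOf (P.parabolic J) := by
      ext x
      constructor
      · rintro ⟨h1, h2⟩
        have h3 : (x : G) ∈ P.B ⊓ (Subgroup.closure J ⊔ (P.B ⊓ P.N)) :=
          ⟨Subgroup.mem_subgroupOf.mp h1, Subgroup.mem_subgroupOf.mp h2⟩
        rw [hBN'] at h3
        exact Subgroup.mem_subgroupOf.mpr h3
      · intro h
        have h3 : (x : G) ∈ P.B ⊓ P.N := Subgroup.mem_subgroupOf.mp h
        rw [← hBN'] at h3
        exact ⟨Subgroup.mem_subgroupOf.mpr h3.1, Subgroup.mem_subgroupOf.mpr h3.2⟩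
    rw [hcl, hinf, ← Subgroup.subgroupOf_sup hJP (inf_le_left.trans hBP)]
  · -- mul_mem_union
    intro s hs n hn b hb
    have hn' : (n : G) ∈ P.N := hN'N (Subgroup.mem_subgroupOf.mp hn)
    have hb' : (b : G) ∈ P.B := Subgroup.mem_subgroupOf.mp hb
    rcases P.mul_mem_union s (hJ hs) n hn' b hb' with h | h
    · left
      obtain ⟨c, hc, c', hc', e⟩ := DoubleCoset.mem_doubleCoset.mp h
      refine DoubleCoset.mem_doubleCoset.mpr ⟨⟨c, hBP hc⟩, Subgroup.mem_subgroupOf.mpr hc,
        ⟨c', hBP hc'⟩, Subgroup.mem_subgroupOf.mpr hc', ?_⟩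
      apply Subtype.ext
      simpa using e
    · right
      obtain ⟨c, hc, c', hc', e⟩ := DoubleCoset.mem_doubleCoset.mp h
      refine DoubleCoset.mem_doubleCoset.mpr ⟨⟨c, hBP hc⟩, Subgroup.mem_subgroupOf.mpr hc,
        ⟨c', hBP hc'⟩, Subgroup.mem_subgroupOf.mpr hc', ?_⟩
      apply Subtype.ext
      simpa using e
  · -- conj_ne
    intro s hs himg
    obtain ⟨b, hb, hnot⟩ := exists_conj_not_mem P (hJ hs)
    apply hnot
    have h1 : s * (⟨b, hBP hb⟩ : ↥(P.parabolic J)) * s ∈
        (fun b : ↥(P.parabolic J) => s * b * s) ''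
          ((P.B.subgroupOf (P.parabolic J) : Subgroup ↥(P.parabolic J)) : Set ↥(P.parabolic J)) :=
      ⟨⟨b, hBP hb⟩, Subgroup.mem_subgroupOf.mpr hb, rfl⟩
    rw [himg] at h1
    exact Subgroup.mem_subgroupOf.mp h1

end Cfsg.Agent.Helper39.UCSUBBN
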