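/-
helper39: CALL S5982 piece GOODDIAG (with an own pairing lemma).
-/
import Mathlib
import Cfsg.Prelude.Def_GeometricClasses
import Cfsg.Agent.Helper90.UFRDefs
import Cfsg.Agent.Helper90.UFRBase
import Cfsg.Agent.Helper80.SFRCount

set_option autoImplicit false

namespace Cfsg.Agent.Helper39

open Module Polynomial Cfsg.Agent.Helper90.UFR

universe u

/-- a pairing of the indices realising an involution on the values (own copy of PAIRING) -/
theorem ufr39_pairing {n : ℕ} {A : Type*} [DecidableEq A] (φ : Fin n → A) (s : A → A)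
    (hs : ∀ a, s (s a) = a)
    (h : ∀ a, (Finset.univ.filter fun i => φ i = a).card
      = (Finset.univ.filter fun i => φ i = s a).card) :
    ∃ π : Fin n → Fin n, (∀ i, π (π i) = i) ∧ ∀ i, φ (π i) = s (φ i) := by
  classical
  rcases Nat.eq_zero_or_pos n with hn0 | hnpos
  · subst hn0
    exact ⟨id, fun i => i.elim0, fun i => i.elim0⟩
  obtain ⟨fib, hfib⟩ : ∃ fib : A → Finset (Fin n),
      ∀ a, fib a = Finset.univ.filter fun i => φ i = a := ⟨_, fun _ => rfl⟩
  have hmem : ∀ a i, i ∈ fib a ↔ φ i = a := by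
    intro a i
    rw [hfib]
    simp
  have hcard : ∀ a, (fib a).card = (fib (s a)).card := by
    intro a
    rw [hfib, hfib]
    exact h a
  let o : ∀ a, Fin (fib a).card ≃o fib a := fun a => (fib a).orderIsoOfFin rfl
  let idx : Fin n → ℕ := fun i => ((o (φ i)).symm ⟨i, (hmem _ _).mpr rfl⟩ : Fin _).val
  let nth : A → ℕ → Fin n := fun a k =>
    if hk : k < (fib a).card then ((o a) ⟨k, hk⟩).1 else ⟨0, hnpos⟩
  have hidx_lt : ∀ i, idx i < (fib (φ i)).card :=
    fun i => ((o (φ i)).symm ⟨i, (hmem _ _).mpr rfl⟩).isLt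
  have hidx_eq : ∀ a i (hi : φ i = a),
      idx i = ((o a).symm ⟨i, (hmem a i).mpr hi⟩ : Fin _).val := by
    intro a i hi
    subst hi
    rfl
  have hF1 : ∀ a k, k < (fib a).card → φ (nth a k) = a := by
    intro a k hk
    simp only [nth, dif_pos hk]
    exact (hmem a _).mp ((o a) ⟨k, hk⟩).2
  have hF2 : ∀ a k, k < (fib a).card → idx (nth a k) = k := by
    intro a k hk
    rw [hidx_eq a (nth a k) (hF1 a k hk)]
    simp only [nth, dif_pos hk, Subtype.coe_eta, OrderIso.symm_apply_apply]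
  have hF3 : ∀ i, nth (φ i) (idx i) = i := by
    intro i
    simp only [nth, dif_pos (hidx_lt i)]
    have h1 : (⟨idx i, hidx_lt i⟩ : Fin (fib (φ i)).card) =
        (o (φ i)).symm ⟨i, (hmem _ _).mpr rfl⟩ := rfl
    rw [h1, OrderIso.apply_symm_apply]
  refine ⟨fun i => nth (s (φ i)) (idx i), ?_, ?_⟩
  · intro i
    have hlt : idx i < (fib (s (φ i))).card := by
      rw [← hcard]
      exact hidx_lt i
    show nth (s (φ (nth (s (φ i)) (idx i)))) (idx (nth (s (φ i)) (idx i))) = i
    rw [hF1 _ _ hlt, hF2 _ _ hlt, hs, hF3]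
  · intro i
    have hlt : idx i < (fib (s (φ i))).card := by
      rw [← hcard]
      exact hidx_lt i
    exact hF1 _ _ hlt


section fin
variable {F : Type*} [Field F] [Fintype F]

/-! ## PIECE GOODDIAG -/
theorem good_of_diag (q₀ : ℕ) (hq : Fintype.card F = q₀ ^ 2) (n : ℕ) (hn : 0 < n)
    (f : (Fin n → F) → (Fin n → F) → F) (hf : Cfsg.Geo.IsUnitaryFormPow q₀ f)
    (x : GL (Fin n) F) (b : Basis (Fin n) F (Fin n → F)) (d : Fin n → F)
    (hb : ∀ i, (x : Matrix (Fin n) (Fin n) F).mulVec (b i) = d i • b i)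
    (c : F) (hc : c ≠ 0) (hcq : c ^ q₀ = c)
    (hd : (Finset.univ.val.map fun i : Fin n => (d i) ^ q₀)
      = Finset.univ.val.map fun i : Fin n => c * (d i)⁻¹) : IsConjU f x := by
  classical
  obtain ⟨σ, hσ⟩ := Cfsg.Agent.Helper97.exists_sigma hq
  have hσp : ∀ t, σ t = t ^ q₀ := hσ.pow
  have hσ2 : ∀ t, σ (σ t) = t := hσ.inv
  have hqq : ∀ t : F, t ^ (q₀ * q₀) = t := by
    intro t
    have h := FiniteField.pow_card t
    rw [hq, pow_two] at h
    exact h
  obtain ⟨X, hX⟩ : ∃ X : Matrix (Fin n) (Fin n) F, X = (x : Matrix (Fin n) (Fin n) F) :=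
    ⟨_, rfl⟩
  have hd0 : ∀ i, d i ≠ 0 := by
    intro i hi
    have h1 := hb i
    rw [hi, zero_smul] at h1
    have h2 : (((x⁻¹ : GL (Fin n) F) : Matrix (Fin n) (Fin n) F)).mulVec
        ((x : Matrix (Fin n) (Fin n) F).mulVec (b i)) = b i := by
      rw [Matrix.mulVec_mulVec, ← Units.val_mul, inv_mul_cancel, Units.val_one,
        Matrix.one_mulVec]
    rw [h1, Matrix.mulVec_zero] at h2
    exact b.ne_zero i h2.symm
  obtain ⟨s, hs⟩ : ∃ s : F → F, ∀ a, s a = c * (a ^ q₀)⁻¹ := ⟨_, fun _ => rfl⟩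
  have hss : ∀ a, s (s a) = a := by
    intro a
    rw [hs, hs, mul_pow, hcq, inv_pow, ← pow_mul, hqq, mul_inv, inv_inv, ← mul_assoc,
      mul_inv_cancel₀ hc, one_mul]
  have hcount : ∀ a, (Finset.univ.filter fun i => d i = a).card
      = (Finset.univ.filter fun i => d i = s a).card := by
    intro a
    have h1 := Cfsg.Agent.Helper80.SFRCount.sfr_count_eq (fun i : Fin n => c * (d i)⁻¹)
      (fun i : Fin n => (d i) ^ q₀) hd (a ^ q₀)
    have e1 : (Finset.univ.filter fun i => d i = a)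
        = (Finset.univ.filter fun i => (d i) ^ q₀ = a ^ q₀) := by
      apply Finset.filter_congr
      intro i _
      constructor
      · intro h
        rw [h]
      · intro h
        have h' := congrArg (fun t => t ^ q₀) h
        simp only [← pow_mul, hqq] at h'
        exact h'
    have e2 : (Finset.univ.filter fun i => d i = s a)
        = (Finset.univ.filter fun i => c * (d i)⁻¹ = a ^ q₀) := by
      apply Finset.filter_congr
      intro i _
      rw [hs]
      constructor
      · intro h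
        rw [h, mul_inv, inv_inv, ← mul_assoc, mul_inv_cancel₀ hc, one_mul]
      · intro h
        rw [← h, mul_inv, inv_inv, ← mul_assoc, mul_inv_cancel₀ hc, one_mul]
    rw [e1, e2]
    exact h1
  obtain ⟨π, hππ, hπd⟩ := ufr39_pairing d s hss hcount
  have hdπ : ∀ i, d i * (d (π i)) ^ q₀ = c := by
    intro i
    rw [hπd, hs, mul_pow, hcq, inv_pow, ← pow_mul, hqq, mul_comm c, ← mul_assoc,
      mul_inv_cancel₀ (hd0 i), one_mul]
  obtain ⟨P, hP⟩ : ∃ P : Matrix (Fin n) (Fin n) F,
      P = (Pi.basisFun F (Fin n)).toMatrix b := ⟨_, rfl⟩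
  obtain ⟨Q, hQ⟩ : ∃ Q : Matrix (Fin n) (Fin n) F,
      Q = b.toMatrix (Pi.basisFun F (Fin n)) := ⟨_, rfl⟩
  have hPQ : P * Q = 1 := by
    rw [hP, hQ]
    exact Basis.toMatrix_mul_toMatrix_flip _ _
  have hQP : Q * P = 1 := by
    rw [hP, hQ]
    exact Basis.toMatrix_mul_toMatrix_flip _ _
  have hPapp : ∀ k i, P k i = b i k := by
    intro k i
    rw [hP, Basis.toMatrix_apply, Pi.basisFun_repr]
  obtain ⟨D, hD⟩ : ∃ D : Matrix (Fin n) (Fin n) F, D = Matrix.diagonal d := ⟨_, rfl⟩
  have hXP : X * P = P * D := by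
    ext k i
    rw [hD, Matrix.mul_diagonal, hPapp, Matrix.mul_apply]
    have h1 := congrFun (hb i) k
    rw [← hX] at h1
    simp only [Matrix.mulVec, dotProduct, Pi.smul_apply, smul_eq_mul] at h1
    rw [mul_comm (b i k), ← h1]
    exact Finset.sum_congr rfl (fun l _ => by rw [hPapp])
  have hXeq : X = P * D * Q := by
    calc X = X * (P * Q) := by rw [hPQ, Matrix.mul_one]
      _ = (X * P) * Q := by rw [Matrix.mul_assoc]
      _ = P * D * Q := by rw [hXP]
  obtain ⟨J₀, hJ₀⟩ : ∃ J₀ : Matrix (Fin n) (Fin n) F,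
      J₀ = Matrix.of (fun i j => if j = π i then (1 : F) else 0) := ⟨_, rfl⟩
  have hJ₀app : ∀ i j, J₀ i j = if j = π i then (1 : F) else 0 := by
    intro i j
    rw [hJ₀]
    rfl
  have hJ₀t : J₀.transpose = J₀ := by
    ext i j
    rw [Matrix.transpose_apply, hJ₀app, hJ₀app]
    by_cases h : j = π i
    · rw [if_pos h, if_pos (by rw [h, hππ])]
    · rw [if_neg h, if_neg (fun h' => h (by rw [h', hππ]))]
  have hJ₀σ : J₀.map σ = J₀ := by
    ext i j
    rw [Matrix.map_apply, hJ₀app]
    split_ifs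
    · exact map_one σ
    · exact map_zero σ
  have hJ₀sq : J₀ * J₀ = 1 := by
    ext i k
    rw [Matrix.mul_apply, Matrix.one_apply]
    simp only [hJ₀app]
    rw [Finset.sum_eq_single (π i)]
    · rw [if_pos rfl, one_mul, hππ]
      by_cases h : i = k
      · rw [if_pos h, if_pos h.symm]
      · rw [if_neg h, if_neg (Ne.symm h)]
    · intro j _ hj
      rw [if_neg hj, zero_mul]
    · intro h
      exact absurd (Finset.mem_univ _) h
  have hJ₀det : J₀.det ≠ 0 := by
    intro h0
    have h1 := congrArg Matrix.det hJ₀sq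
    rw [Matrix.det_mul, h0, mul_zero, Matrix.det_one] at h1
    exact zero_ne_one h1
  have hDJ : D * J₀ * D.map σ = c • J₀ := by
    ext i j
    rw [hD, Matrix.diagonal_map (map_zero σ), Matrix.mul_diagonal, Matrix.diagonal_mul,
      Matrix.smul_apply, hJ₀app, smul_eq_mul]
    by_cases h : j = π i
    · rw [if_pos h, mul_one, mul_one, h, hσp]
      exact hdπ i
    · rw [if_neg h, mul_zero, zero_mul, mul_zero]
  have hmapmul : ∀ L M : Matrix (Fin n) (Fin n) F, (L * M).map σ = L.map σ * M.map σ :=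
    fun L M => Matrix.map_mul (f := (σ : F →+* F))
  have hmapone : (1 : Matrix (Fin n) (Fin n) F).map σ = 1 :=
    Matrix.map_one _ (map_zero σ) (map_one σ)
  have hmapmap : ∀ M : Matrix (Fin n) (Fin n) F, (M.map σ).map σ = M := by
    intro M
    ext i j
    rw [Matrix.map_apply, Matrix.map_apply, hσ2]
  obtain ⟨J', hJ'⟩ : ∃ J' : Matrix (Fin n) (Fin n) F,
      J' = Q.transpose * J₀ * Q.map σ := ⟨_, rfl⟩
  have hJ't : J'.transpose = J'.map σ := by
    rw [hJ', Matrix.transpose_mul, Matrix.transpose_mul, Matrix.transpose_transpose, hJ₀t,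
      hmapmul, hmapmul, hJ₀σ, hmapmap, Matrix.transpose_map, Matrix.mul_assoc]
  have hQdet : Q.det ≠ 0 := by
    intro h0
    have h1 := congrArg Matrix.det hPQ
    rw [Matrix.det_mul, h0, mul_zero, Matrix.det_one] at h1
    exact zero_ne_one h1
  have hJ'det : J'.det ≠ 0 := by
    rw [hJ', Matrix.det_mul, Matrix.det_mul, Matrix.det_transpose]
    have h3 : (Q.map σ).det = σ Q.det := (RingHom.map_det (σ : F →+* F) Q).symm
    rw [h3]
    exact mul_ne_zero (mul_ne_zero hQdet hJ₀det) (σ.map_ne_zero_iff.mpr hQdet)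
  have hxJ : X.transpose * J' * X.map σ = c • J' := by
    rw [hXeq, hJ', Matrix.transpose_mul, Matrix.transpose_mul, hmapmul, hmapmul]
    have hDt : D.transpose = D := by rw [hD, Matrix.diagonal_transpose]
    have h1 : P.transpose * Q.transpose = 1 := by
      rw [← Matrix.transpose_mul, hQP, Matrix.transpose_one]
    have h2 : Q.map σ * P.map σ = 1 := by rw [← hmapmul, hQP, hmapone]
    calc Q.transpose * (D.transpose * P.transpose) * (Q.transpose * J₀ * Q.map σ)
          * (P.map σ * D.map σ * Q.map σ)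
        = Q.transpose * D.transpose * (P.transpose * Q.transpose) * J₀
          * (Q.map σ * P.map σ) * D.map σ * Q.map σ := by simp only [Matrix.mul_assoc]
      _ = Q.transpose * (D * J₀ * D.map σ) * Q.map σ := by
          rw [h1, h2, hDt, Matrix.mul_one, Matrix.mul_one]
          simp only [Matrix.mul_assoc]
      _ = c • (Q.transpose * J₀ * Q.map σ) := by
          rw [hDJ, Matrix.mul_smul, Matrix.smul_mul]
  have hcent : ∀ δ : F, δ ≠ 0 → ∃ C : GL (Fin n) F, C * x = x * C ∧
      (C : Matrix (Fin n) (Fin n) F).det = δ := by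
    intro δ hδ
    obtain ⟨Δ, hΔ⟩ : ∃ Δ : Matrix (Fin n) (Fin n) F,
        Δ = Matrix.diagonal (fun i => if i = (⟨0, hn⟩ : Fin n) then δ else 1) := ⟨_, rfl⟩
    have hΔdet : Δ.det = δ := by
      rw [hΔ, Matrix.det_diagonal,
        Finset.prod_ite_eq' Finset.univ (⟨0, hn⟩ : Fin n) (fun _ => δ)]
      simp
    have hΔD : Δ * D = D * Δ := by
      rw [hΔ, hD, Matrix.diagonal_mul_diagonal, Matrix.diagonal_mul_diagonal]
      congr 1
      funext i
      exact mul_comm _ _
    have hPdet : P.det * Q.det = 1 := by rw [← Matrix.det_mul, hPQ, Matrix.det_one]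
    have hCdet : (P * Δ * Q).det = δ := by
      rw [Matrix.det_mul, Matrix.det_mul, hΔdet, mul_comm P.det, mul_assoc, hPdet, mul_one]
    refine ⟨Matrix.GeneralLinearGroup.mkOfDetNeZero (P * Δ * Q) (by rw [hCdet]; exact hδ), ?_,
      hCdet⟩
    apply Units.ext
    rw [Units.val_mul, Units.val_mul]
    show P * Δ * Q * (x : Matrix (Fin n) (Fin n) F) = (x : Matrix (Fin n) (Fin n) F) * (P * Δ * Q)
    rw [← hX, hXeq]
    calc P * Δ * Q * (P * D * Q) = P * Δ * (Q * P) * D * Q := by simp only [Matrix.mul_assoc]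
      _ = P * (Δ * D) * Q := by
          rw [hQP, Matrix.mul_one]
          simp only [Matrix.mul_assoc]
      _ = P * (D * Δ) * Q := by rw [hΔD]
      _ = P * D * (Q * P) * Δ * Q := by
          rw [hQP, Matrix.mul_one]
          simp only [Matrix.mul_assoc]
      _ = P * D * Q * (P * Δ * Q) := by simp only [Matrix.mul_assoc]
  rw [hX] at hxJ
  exact conj_of_model q₀ hq n f hf σ hσp x J' hJ'det hJ't c hc hxJ hcent

end fin

end Cfsg.Agent.Helper39
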